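import Cfsg.Agent.CharDeep.CA.AbInvolProduct
import Cfsg.Agent.Lib.Coprime.Generation
import Cfsg.Agent.Lib.LinearGroup.TorusSylow
import Cfsg.Agent.Lib.LinearGroup.Generation
import Cfsg.Agent.Lib.Transfer.Abelian
import Cfsg.Agent.Classification.SmallPSLUnique

/-!
Suzuki: finite groups in which the centraliser of every involution is abelian.
-/

set_option autoImplicit false

namespace Cfsg.Agent.CharDeep.CA

open Matrix

universe u

/-- The three possibilities. -/
def Good (G : Type u) [Group G] : Prop :=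
  (∀ P : Sylow 2 G, IsCyclic (P : Subgroup G)) ∨ (∀ P : Sylow 2 G, (P : Subgroup G).Normal) ∨
    ∃ (F : Type) (_ : Field F) (_ : Fintype F) (f : ℕ) (A : Type) (_ : CommGroup A) (_ : Finite A),
      2 ≤ f ∧ Fintype.card F = 2 ^ f ∧ Odd (Nat.card A) ∧
        Nonempty (G ≃* SpecialLinearGroup (Fin 2) F × A)

theorem AbInv.subgroup {G : Type*} [Group G] (h : AbInv G) (X : Subgroup G) : AbInv X := by
  intro x hx hx1 a ha b hb
  refine Subtype.ext (h x (congrArg Subtype.val hx) (fun e => hx1 (Subtype.ext e)) a ?_ b ?_).eq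
  · exact mem_cent.2 ((mem_cent.1 ha).map X.subtype)
  · exact mem_cent.2 ((mem_cent.1 hb).map X.subtype)

theorem exists_involution_pow {G : Type*} [Group G] [Finite G] {a : G} (h : Even (orderOf a)) :
    ∃ m : ℕ, a ^ m * a ^ m = 1 ∧ a ^ m ≠ 1 := by
  obtain ⟨m, hm⟩ := h
  have := orderOf_pos a
  exact ⟨m, by rw [← pow_add, ← hm, pow_orderOf_eq_one],
    pow_ne_one_of_lt_orderOf (by omega) (by omega)⟩

theorem good_of_abInv {G : Type u} [Group G] [Finite G] (hinv : AbInv G) : Good G := by
  induction hn : Nat.card G using Nat.strong_induction_on generalizing G with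
  | _ n ih =>
  classical
  subst hn
  haveI : Fact (Nat.Prime 2) := ⟨Nat.prime_two⟩
  obtain ⟨S⟩ := (inferInstance : Nonempty (Sylow 2 G))
  by_cases hcyc : IsCyclic (S : Subgroup G)
  · exact Or.inl fun P => isCyclic_of_surjective (Sylow.equiv S P) (Sylow.equiv S P).surjective
  by_cases hnor : (S : Subgroup G).Normal
  · haveI := Sylow.unique_of_normal S hnor
    exact Or.inr (Or.inl fun P => by rw [Subsingleton.elim P S]; exact hnor)
  -- a central involution of `S`
  haveI : Nontrivial (S : Subgroup G) := by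
    by_contra h
    rw [not_nontrivial_iff_subsingleton] at h
    exact hcyc isCyclic_of_subsingleton
  haveI := S.2.center_nontrivial
  obtain ⟨k, hk, hk'⟩ := (IsPGroup.iff_card (G := Subgroup.center (S : Subgroup G))).1
    (S.2.to_subgroup _) |>.imp fun k hk => (⟨by
      rintro rfl
      have := Finite.one_lt_card (α := Subgroup.center (S : Subgroup G))
      omega, hk⟩ : k ≠ 0 ∧ _)
  obtain ⟨z, hz⟩ := exists_prime_orderOf_dvd_card' (G := Subgroup.center (S : Subgroup G)) 2
    (by rw [hk']; exact dvd_pow_self 2 hk)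
  obtain ⟨t, htS, ht, hSA⟩ : ∃ t ∈ (S : Subgroup G), orderOf t = 2 ∧ (S : Subgroup G) ≤ cent t :=
    ⟨((z : S) : G), (z : S).2, by rw [Subgroup.orderOf_coe, Subgroup.orderOf_coe, hz], fun s hs =>
      mem_cent.2 (congrArg Subtype.val (Subgroup.mem_center_iff.1 z.2 ⟨s, hs⟩))⟩
  have ht1 : t ≠ 1 := fun h => by rw [h, orderOf_one] at ht; norm_num at ht
  have ht2 : t * t = 1 := by rw [← pow_two, ← ht, pow_orderOf_eq_one]
  set A := cent t with hA
  have htA : t ∈ A := hSA htS
  have hAc : ∀ a ∈ A, ∀ b ∈ A, Commute a b := hinv t ht2 ht1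
  haveI : IsMulCommutative (S : Subgroup G) :=
    ⟨⟨fun a b => Subtype.ext (hAc a (hSA a.2) b (hSA b.2)).eq⟩⟩
  obtain ⟨s, hsS, hs2, hs1, hst⟩ : ∃ s ∈ (S : Subgroup G), s * s = 1 ∧ s ≠ 1 ∧ s ≠ t := by
    obtain ⟨r, hr, hrS, a, ha, b, hb, har, hbr, ha1, hba⟩ :=
      Coprime.exists_independent_of_not_isCyclic (S : Subgroup G) hcyc
    obtain ⟨j, hj⟩ := IsPGroup.iff_card.1 S.2
    obtain rfl := (Nat.prime_dvd_prime_iff_eq hr Nat.prime_two).1 (hr.dvd_of_dvd_pow (hj ▸ hrS))
    rw [pow_two] at har hbr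
    by_cases hat : a = t
    · refine ⟨b, hb, hbr, fun h => hba (h ▸ Subgroup.one_mem _), fun h => hba ?_⟩
      rw [h, ← hat]
      exact Subgroup.mem_zpowers a
    · exact ⟨a, ha, har, ha1, hat⟩
  -- the `2`-elements of `C(t)`
  have hS2 : ∀ x ∈ A, (∃ j : ℕ, x ^ 2 ^ j = 1) → x ∈ (S : Subgroup G) := by
    intro x hx hj
    obtain ⟨j, hj⟩ := hj
    have hzp : IsPGroup 2 (Subgroup.zpowers x) := by
      rintro ⟨y, hy⟩
      obtain ⟨i, rfl⟩ := Subgroup.mem_zpowers_iff.1 hy
      refine ⟨j, Subtype.ext ?_⟩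
      show (x ^ i) ^ 2 ^ j = 1
      rw [← zpow_natCast, ← _root_.zpow_mul, mul_comm, _root_.zpow_mul, zpow_natCast, hj, _root_.one_zpow]
    have hle : Subgroup.zpowers x ≤ Subgroup.normalizer ((S : Subgroup G) : Set G) := by
      rw [Subgroup.zpowers_le, Subgroup.mem_normalizer_iff]
      intro y
      constructor
      · intro hy
        rw [(hAc x hx y (hSA hy)).eq, mul_inv_cancel_right]
        exact hy
      · intro hy
        have h := (hAc x⁻¹ (A.inv_mem hx) _ (hSA hy)).eq
        have : y = x * y * x⁻¹ := by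
          calc y = x⁻¹ * (x * y * x⁻¹) * x := by group
            _ = x * y * x⁻¹ := by rw [h, inv_mul_cancel_right]
        rw [this]; exact hy
    have hsup := S.2.to_sup_of_normal_left' hzp hle
    rw [S.3 hsup le_sup_left |>.symm]
    exact le_sup_right (a := (S : Subgroup G)) (Subgroup.mem_zpowers x)
  have hAnS : ∀ x ∈ A, ∀ g : G, ∀ w ∈ (S : Subgroup G), x = g * w * g⁻¹ → x ∈ (S : Subgroup G) :=
    fun x hx g w hw he => hS2 x hx (by
      obtain ⟨j, hj⟩ := S.2 ⟨w, hw⟩
      exact ⟨j, by rw [he, conj_pow, show w ^ 2 ^ j = 1 from congrArg Subtype.val hj, mul_one,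
        mul_inv_cancel]⟩)
  have hne_top : nrm t ≠ ⊤ := fun h => hnor ⟨fun w hw g =>
    hAnS _ ((Subgroup.mem_normalizer_iff.1 (h ▸ Subgroup.mem_top g : g ∈ nrm t) w).1 (hSA hw)) g w hw rfl⟩
  have B : Base G t := ⟨hinv, ht1, ht2, ⟨S, hSA, htS⟩, hne_top, ⟨s, hSA hsS, hs2, hs1, hst⟩⟩
  have hcent_even : ∀ a ∈ A, Even (orderOf a) → cent a ≤ A := by
    intro a ha he x hx
    obtain ⟨m, hm2, hm1⟩ := exists_involution_pow he
    rw [hA, ← B.cent_eq (A.pow_mem ha m) hm2 hm1]
    exact mem_cent.2 ((mem_cent.1 hx).pow_right m)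
  by_cases hK : ∃ K : Subgroup G, K.Normal ∧ Odd (Nat.card K) ∧ K ≠ ⊥
  · -- reduction modulo an odd normal subgroup
    have hodd_le : ∀ N : Subgroup G, N.Normal → Odd (Nat.card N) → N ≤ A := by
      intro N hN hNodd
      refine Coprime.le_of_centralizer_le (S : Subgroup G) N A hcyc
        (fun x _ => by
          refine Subgroup.mem_normalizer_iff.2 fun y => ⟨fun hy => hN.conj_mem y hy x, fun hy => ?_⟩
          have := hN.conj_mem _ hy x⁻¹
          simpa [mul_assoc] using this) ?_ fun e he he1 x hx => ?_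
      · obtain ⟨j, hj⟩ := IsPGroup.iff_card.1 S.2
        rw [hj]
        exact Nat.Coprime.pow_left _ (Nat.coprime_two_left.2 hNodd)
      · have hev : Even (orderOf e) := by
          obtain ⟨j, hj⟩ := IsPGroup.iff_orderOf.1 S.2 ⟨e, he⟩
          rw [Subgroup.orderOf_mk] at hj
          rcases Nat.eq_zero_or_pos j with h | h
          · rw [h, pow_zero, orderOf_eq_one_iff] at hj
            exact absurd hj he1
          · rw [hj]; exact (Nat.even_pow).2 ⟨even_two, h.ne'⟩
        exact hcent_even e (hSA he) hev hx.2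
    obtain ⟨K, hKn, hKodd, hKne⟩ := hK
    haveI := hKn
    have hKA := hodd_le K hKn hKodd
    have hlt : Nat.card (G ⧸ K) < Nat.card G := by
      rw [Subgroup.card_eq_card_quotient_mul_card_subgroup K]
      have h1 : 1 < Nat.card K := Subgroup.one_lt_card_iff_ne_bot K |>.2 hKne
      exact lt_mul_of_one_lt_right Nat.card_pos h1
    let mk := QuotientGroup.mk' K
    have hinvQ : AbInv (G ⧸ K) := by
      intro x hx hx1 a ha b hb
      obtain ⟨x₀, rfl⟩ := QuotientGroup.mk_surjective x
      set m := Nat.card K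
      have hsq : x₀ * x₀ ∈ K := (QuotientGroup.eq_one_iff _).1 hx
      set w := x₀ ^ m with hw
      have hw2 : w * w = 1 := by
        rw [hw, ← (Commute.refl x₀).mul_pow]
        exact congrArg Subtype.val (pow_card_eq_one' (x := (⟨_, hsq⟩ : K)))
      have hwq : (QuotientGroup.mk w : G ⧸ K) = QuotientGroup.mk x₀ := by
        obtain ⟨j, hj⟩ := hKodd
        rw [hw, show m = 2 * j + 1 from hj, QuotientGroup.mk_pow, pow_succ, pow_mul, pow_two, hx,
          one_pow, one_mul]
      have hw1 : w ≠ 1 := fun h => hx1 (hwq.symm.trans (by rw [h]; rfl))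
      have hwi : w⁻¹ = w := inv_eq_of_mul_eq_one_right hw2
      have hlift : ∀ c : G ⧸ K, c ∈ cent (QuotientGroup.mk x₀ : G ⧸ K) →
          ∃ c₀ ∈ cent w, (QuotientGroup.mk c₀ : G ⧸ K) = c := by
        intro c hc
        obtain ⟨c₁, rfl⟩ := QuotientGroup.mk_surjective c
        rw [← hwq, mem_cent] at hc
        set k := w * c₁ * w * c₁⁻¹ with hk
        have hkK : k ∈ K := by
          rw [← QuotientGroup.eq_one_iff, hk, QuotientGroup.mk_mul, QuotientGroup.mk_mul,
            QuotientGroup.mk_mul, QuotientGroup.mk_inv]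
          have h2 : (QuotientGroup.mk w : G ⧸ K) * QuotientGroup.mk w = 1 := by
            rw [← QuotientGroup.mk_mul, hw2]; rfl
          rw [← hc.eq, mul_assoc (QuotientGroup.mk c₁ : G ⧸ K), h2, mul_one, mul_inv_cancel]
        have hkinv : w * k * w = k⁻¹ := by
          rw [hk]
          calc w * (w * c₁ * w * c₁⁻¹) * w = (w * w) * c₁ * w * c₁⁻¹ * w := by group
            _ = c₁ * w * c₁⁻¹ * w := by rw [hw2, one_mul]
            _ = (w * c₁ * w * c₁⁻¹)⁻¹ := by rw [_root_.mul_inv_rev, _root_.mul_inv_rev, _root_.mul_inv_rev, inv_inv, hwi]; group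
        obtain ⟨j, hj⟩ : Odd (orderOf k) :=
          hKodd.of_dvd_nat (by
            have := orderOf_dvd_natCard (⟨k, hkK⟩ : K)
            rwa [Subgroup.orderOf_mk] at this)
        refine ⟨k ^ (j + 1) * c₁, mem_cent.2 ?_, ?_⟩
        · have hkk : k ^ (j + 1) * k ^ (j + 1) = k := by
            rw [← pow_add, show j + 1 + (j + 1) = orderOf k + 1 by omega, pow_succ, pow_orderOf_eq_one,
              one_mul]
          have h1 : w * k ^ (j + 1) * w = (k ^ (j + 1))⁻¹ := by
            conv_lhs => rw [show w * k ^ (j + 1) * w = w * k ^ (j + 1) * w⁻¹ by rw [hwi]]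
            rw [← conj_pow, hwi, hkinv, inv_pow]
          have h2 : w * c₁ * w = k * c₁ := by rw [hk, inv_mul_cancel_right]
          set l := k ^ (j + 1)
          have h3 : w * (l * c₁) * w = l * c₁ := by
            calc w * (l * c₁) * w = w * l * (w * w) * (c₁ * w) := by rw [hw2]; group
              _ = (w * l * w) * (w * c₁ * w) := by group
              _ = l * c₁ := by rw [h1, h2, ← hkk]; group
          show l * c₁ * w = w * (l * c₁)
          calc l * c₁ * w = w * (l * c₁) * w * w := by rw [h3]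
            _ = w * (l * c₁) := by rw [mul_assoc (w * (l * c₁)), hw2, mul_one]
        · rw [QuotientGroup.mk_mul, (QuotientGroup.eq_one_iff _).2 (K.pow_mem hkK _), one_mul]
      obtain ⟨a₀, ha₀, rfl⟩ := hlift a ha
      obtain ⟨b₀, hb₀, rfl⟩ := hlift b hb
      exact (hinv w hw2 hw1 a₀ ha₀ b₀ hb₀).map mk
    have hS_K : ∀ x ∈ (S : Subgroup G), x ∈ K → x = 1 := fun x hx hxK => by
      obtain ⟨j, hj⟩ := IsPGroup.iff_orderOf.1 S.2 ⟨x, hx⟩
      rw [Subgroup.orderOf_mk] at hj
      have h1 : Odd (orderOf x) := hKodd.of_dvd_nat (by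
        have := orderOf_dvd_natCard (⟨x, hxK⟩ : K)
        rwa [Subgroup.orderOf_mk] at this)
      rcases Nat.eq_zero_or_pos j with h | h
      · rw [h, pow_zero, orderOf_eq_one_iff] at hj; exact hj
      · rw [hj] at h1
        exact absurd ((Nat.even_pow).2 ⟨even_two, h.ne'⟩) (Nat.not_even_iff_odd.2 h1)
    let Sb : Sylow 2 (G ⧸ K) := S.mapSurjective (QuotientGroup.mk'_surjective K)
    rcases ih _ hlt hinvQ rfl with hc | hc | ⟨F, iF, iFF, f, At, iA, iAf, hf2, hf, hAt, ⟨e⟩⟩
    · refine absurd ?_ hcyc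
      haveI := hc Sb
      let r : (S : Subgroup G) →* (Sb : Subgroup (G ⧸ K)) :=
        (mk.comp (S : Subgroup G).subtype).codRestrict _ fun x => ⟨x, x.2, rfl⟩
      refine isCyclic_of_injective r ((injective_iff_map_eq_one r).2 fun x hx => ?_)
      exact Subtype.ext (hS_K x x.2 ((QuotientGroup.eq_one_iff _).1 (congrArg Subtype.val hx)))
    · refine absurd ⟨fun w hw g => ?_⟩ hnor
      have h1 := (hc Sb).conj_mem (mk w) ⟨w, hw, rfl⟩ (mk g)
      obtain ⟨w', hw', he⟩ := h1
      have he' : (w'⁻¹ * (g * w * g⁻¹)) ∈ K := by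
        rw [← QuotientGroup.eq_one_iff]
        show mk (w'⁻¹ * (g * w * g⁻¹)) = 1
        rw [map_mul, map_inv, inv_mul_eq_one, he, map_mul, map_mul, map_inv]
      refine hAnS _ ?_ g w hw rfl
      have := A.mul_mem (hSA hw') (hKA he')
      rwa [mul_inv_cancel_left] at this
    · -- split off the kernel
      haveI : CharP F 2 := OrderP.charP_two_of_card hf
      set L := SpecialLinearGroup (Fin 2) F
      let φ : G →* L := (MonoidHom.fst L At).comp (e.toMonoidHom.comp mk)
      have hφs : Function.Surjective φ :=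
        (Prod.fst_surjective).comp (e.surjective.comp (QuotientGroup.mk'_surjective K))
      set K' := φ.ker with hK'
      have hK'odd : Odd (Nat.card K') := by
        by_contra hev
        obtain ⟨⟨x, hx⟩, hxo⟩ := exists_prime_orderOf_dvd_card' (G := K') 2
          (even_iff_two_dvd.1 (Nat.not_odd_iff_even.1 hev))
        rw [Subgroup.orderOf_mk] at hxo
        have h1 : x ^ (Nat.card At * Nat.card K) = 1 := by
          have h2 : x ^ Nat.card At ∈ K := by
            rw [← QuotientGroup.eq_one_iff, QuotientGroup.mk_pow]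
            refine e.injective ?_
            rw [map_pow, map_one]
            have hx1 : (e (QuotientGroup.mk x)).1 = 1 := hx
            refine Prod.ext ?_ ?_
            · rw [Prod.pow_fst, hx1, one_pow]; rfl
            · rw [Prod.pow_snd, pow_card_eq_one']; rfl
          rw [pow_mul]
          exact congrArg Subtype.val (pow_card_eq_one' (x := (⟨_, h2⟩ : K)))
        have h2 := orderOf_dvd_of_pow_eq_one h1
        rw [hxo] at h2
        exact Nat.not_even_iff_odd.2 (hAt.mul hKodd) (even_iff_two_dvd.2 h2)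
      have hK'A := hodd_le K' inferInstance hK'odd
      have hF4 : 4 ≤ Fintype.card F := by
        rw [hf]; exact le_trans (by norm_num) (Nat.pow_le_pow_right (by norm_num) hf2)
      haveI : IsSimpleGroup L := by
        haveI := Classification.isSimpleGroup_psl_two F hF4
        obtain ⟨ψ⟩ := OrderP.nonempty_psl_equiv_sl hf
        haveI : Nontrivial L := ψ.symm.toEquiv.nontrivial
        exact IsSimpleGroup.isSimpleGroup_of_surjective ψ.toMonoidHom ψ.surjective
      have hcentral : K' ≤ Subgroup.center G := by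
        let CK := Subgroup.centralizer (K' : Set G)
        haveI : CK.Normal := Subgroup.normal_centralizer
        have htCK : t ∈ CK := Subgroup.mem_centralizer_iff.2 fun y hy => (mem_cent.1 (hK'A hy)).eq
        have hmap : CK.map φ = ⊤ := by
          refine ((‹CK.Normal›.map φ hφs).eq_bot_or_eq_top).resolve_left fun hb => ?_
          have h1 : φ t = 1 := Subgroup.mem_bot.1 (hb ▸ ⟨t, htCK, rfl⟩)
          have h2 := orderOf_dvd_natCard (⟨t, h1⟩ : K')
          rw [← Subgroup.orderOf_coe] at h2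
          change orderOf t ∣ _ at h2
          rw [ht] at h2
          exact Nat.not_even_iff_odd.2 hK'odd (even_iff_two_dvd.2 h2)
        intro k hk
        refine Subgroup.mem_center_iff.2 fun g => ?_
        obtain ⟨c, hc, he⟩ : φ g ∈ CK.map φ := hmap ▸ Subgroup.mem_top _
        have hgc : c⁻¹ * g ∈ K' := by rw [hK', MonoidHom.mem_ker, map_mul, map_inv, he, inv_mul_cancel]
        have h1 : Commute c k := (Subgroup.mem_centralizer_iff.1 hc k hk).symm
        have h2 : Commute (c⁻¹ * g) k := hAc _ (hK'A hgc) _ (hK'A hk)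
        have h3 := h1.mul_left h2
        rw [mul_inv_cancel_left] at h3
        exact h3.eq
      have hint : ∀ z ∈ K', z ∈ commutator G → z = 1 := by
        intro z hz hzc
        by_contra hz1
        set p := (orderOf z).minFac
        have hord : orderOf z ≠ 1 := fun h => hz1 (orderOf_eq_one_iff.1 h)
        haveI : Fact p.Prime := ⟨Nat.minFac_prime hord⟩
        set y := z ^ (orderOf z / p)
        have hy : orderOf y = p := orderOf_pow_orderOf_div (orderOf_pos z).ne' (Nat.minFac_dvd _)
        have hyK : y ∈ K' := K'.pow_mem hz _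
        have hp2 : p ≠ 2 := fun h => by
          have h2 := orderOf_dvd_natCard (⟨y, hyK⟩ : K')
          rw [Subgroup.orderOf_mk, hy, h] at h2
          exact Nat.not_even_iff_odd.2 hK'odd (even_iff_two_dvd.2 h2)
        obtain ⟨P, hP⟩ := (IsPGroup.of_card (p := p) (n := 1) (G := Subgroup.zpowers y)
          (by rw [Nat.card_zpowers, hy, pow_one])).exists_le_sylow
        obtain ⟨R, hR⟩ := (P.2.map φ).exists_le_sylow
        haveI : IsCyclic (R : Subgroup L) := LinearGroup.isCyclic_sylow_SL_two hp2 (fun hd => hp2 (by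
          rw [Nat.card_eq_fintype_card, hf] at hd
          exact (Nat.prime_dvd_prime_iff_eq Fact.out Nat.prime_two).1
            ((Fact.out : p.Prime).dvd_of_dvd_pow hd))) R
        let r : (P : Subgroup G) →* (R : Subgroup L) :=
          (φ.comp (P : Subgroup G).subtype).codRestrict _ fun x => hR ⟨x, x.2, rfl⟩
        have hPc : IsMulCommutative (P : Subgroup G) := ⟨⟨fun a b =>
          commutative_of_cyclic_center_quotient r (fun x hx => Subgroup.mem_center_iff.2 fun y =>
            Subtype.ext ((Subgroup.mem_center_iff.1 (hcentral (congrArg Subtype.val hx :))) y)) a b⟩⟩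
        have hHall : (Nat.card (P : Subgroup G)).Coprime (P : Subgroup G).index := by
          obtain ⟨j, hj⟩ := IsPGroup.iff_card.1 P.2
          rw [hj]
          exact Nat.Coprime.pow_left _ ((Fact.out : p.Prime).coprime_iff_not_dvd.2 P.not_dvd_index)
        have h0 : y ∈ (P : Subgroup G) ⊓ commutator G ⊓ Subgroup.center G :=
          ⟨⟨hP (Subgroup.mem_zpowers y), (commutator G).pow_mem hzc _⟩, hcentral hyK⟩
        rw [Transfer.inf_commutator_inf_center_eq_bot hPc hHall, Subgroup.mem_bot] at h0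
        rw [h0, orderOf_one] at hy
        exact (Fact.out : p.Prime).ne_one hy.symm
      have hperf : commutator L = ⊤ := LinearGroup.commutator_SL_eq_top' fun _ => by
        by_contra hno
        push Not at hno
        have h1 : (Finset.univ : Finset F) ⊆ {0, 1, -1} := by
          intro a _
          by_cases ha : a = 0
          · simp [ha]
          · rcases mul_self_eq_one_iff.mp (by simpa [pow_two] using hno a ha) with h | h <;> simp [h]
        have h2 := Finset.card_le_card h1
        rw [Finset.card_univ] at h2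
        have h3 : ({0, 1, -1} : Finset F).card ≤ 3 := Finset.card_le_three
        omega
      let D := commutator G
      have hDmap : D.map φ = ⊤ := by
        rw [show D = ⁅(⊤ : Subgroup G), ⊤⁆ from commutator_def G, Subgroup.map_commutator,
          Subgroup.map_top_of_surjective φ hφs, ← commutator_def, hperf]
      let φD : D →* L := φ.comp D.subtype
      have hφD : Function.Bijective φD := by
        refine ⟨(injective_iff_map_eq_one φD).2 fun x hx => Subtype.ext (hint x hx x.2), fun y => ?_⟩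
        obtain ⟨x, hx, rfl⟩ : y ∈ D.map φ := hDmap ▸ Subgroup.mem_top y
        exact ⟨⟨x, hx⟩, rfl⟩
      let ψ : D ≃* L := MulEquiv.ofBijective φD hφD
      letI : CommGroup K' := { (inferInstance : Group K') with
        mul_comm := fun a b => Subtype.ext (hAc a (hK'A a.2) b (hK'A b.2)).eq }
      let θ : D × K' →* G :=
        { toFun := fun p => (p.1 : G) * p.2
          map_one' := by simp
          map_mul' := fun p q => by
            have h := Subgroup.mem_center_iff.1 (hcentral p.2.2) (q.1 : G)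
            show ((p.1 * q.1 : D) : G) * ((p.2 * q.2 : K') : G) = (p.1 : G) * p.2 * ((q.1 : G) * q.2)
            rw [Subgroup.coe_mul, Subgroup.coe_mul,
              show (p.1 : G) * p.2 * ((q.1 : G) * q.2) = p.1 * ((p.2 : G) * q.1) * q.2 by group, ← h]
            group }
      have hθ : Function.Bijective θ := by
        refine ⟨(injective_iff_map_eq_one θ).2 fun p hp => ?_, fun g => ?_⟩
        · have hp' : (p.1 : G) * p.2 = 1 := hp
          have h1 : (p.1 : G) = 1 := hint _ (by rw [mul_eq_one_iff_eq_inv.1 hp']; exact K'.inv_mem p.2.2) p.1.2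
          rw [h1, one_mul] at hp'
          exact Prod.ext (Subtype.ext h1) (Subtype.ext hp')
        · obtain ⟨d, hd⟩ := hφD.2 (φ g)
          refine ⟨(d, ⟨(d : G)⁻¹ * g, ?_⟩), mul_inv_cancel_left _ _⟩
          rw [hK', MonoidHom.mem_ker, map_mul, map_inv, show φ (d : G) = φ g from hd, inv_mul_cancel]
      refine Or.inr (Or.inr ⟨F, iF, iFF, f, Shrink.{0} K', inferInstance, inferInstance, hf2, hf, ?_,
        ⟨(MulEquiv.ofBijective θ hθ).symm.trans (ψ.prodCongr Shrink.mulEquiv.symm)⟩⟩)
      rw [← Nat.card_congr (equivShrink.{0} K')]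
      exact hK'odd
  -- no odd normal subgroup
  push Not at hK
  let T : Subgroup G :=
    { carrier := {x | x ∈ A ∧ Odd (orderOf x)}
      one_mem' := ⟨A.one_mem, by simp⟩
      mul_mem' := fun {a b} ha hb => ⟨A.mul_mem ha.1 hb.1,
        Odd.of_dvd_nat (ha.2.mul hb.2) (((hAc a ha.1 b hb.1).orderOf_mul_dvd_lcm).trans
          (Nat.lcm_dvd (dvd_mul_right _ _) (dvd_mul_left _ _)))⟩
      inv_mem' := fun {a} ha => ⟨A.inv_mem ha.1, by rw [orderOf_inv]; exact ha.2⟩ }
  have hTodd : Odd (Nat.card T) := by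
    by_contra hev
    obtain ⟨⟨x, hx⟩, hxo⟩ := exists_prime_orderOf_dvd_card' (G := T) 2
      (even_iff_two_dvd.1 (Nat.not_odd_iff_even.1 hev))
    rw [Subgroup.orderOf_mk] at hxo
    have := hx.2
    rw [hxo] at this
    exact absurd this (by decide)
  have hnormT : nrm t ≤ Subgroup.normalizer (T : Set G) := fun g hg => by
    refine Subgroup.mem_normalizer_iff.2 fun x => ?_
    show x ∈ A ∧ Odd (orderOf x) ↔ g * x * g⁻¹ ∈ A ∧ Odd (orderOf (g * x * g⁻¹))
    rw [show g * x * g⁻¹ = MulAut.conj g x from rfl, MulEquiv.orderOf_eq]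
    exact and_congr_left fun _ => Subgroup.mem_normalizer_iff.1 hg x
  have hX : ∀ X : Subgroup G, X ≠ ⊤ → A ≤ X → ¬ X ≤ nrm t →
      ∃ (F : Type) (_ : Field F) (_ : Fintype F) (f : ℕ) (At : Type) (_ : CommGroup At) (_ : Finite At)
        (e : X ≃* SpecialLinearGroup (Fin 2) F × At), 2 ≤ f ∧ Fintype.card F = 2 ^ f ∧
          Odd (Nat.card At) ∧ (∀ b, ((e.symm (1, b) : X) : G) ∈ T) ∧
          (∀ τ ∈ T, ∀ x ∈ X, Commute x τ) ∧ ∀ τ ∈ T, ∃ b, ((e.symm (1, b) : X) : G) = τ := by
    intro X hXtop hAX hXN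
    have hSX : (S : Subgroup G) ≤ X := hSA.trans hAX
    have hlt : Nat.card X < Nat.card G := by
      refine lt_of_le_of_ne (Subgroup.card_le_card_group X) fun h => hXtop ?_
      exact Subgroup.eq_top_of_card_eq X h
    rcases ih _ hlt (hinv.subgroup X) rfl with hc | hc | ⟨F, iF, iFF, f, At, iA, iAf, hf2, hf, hAt, ⟨e⟩⟩
    · haveI : IsCyclic ((S : Subgroup G).subgroupOf X) := hc (S.subtype hSX)
      exact absurd (isCyclic_of_surjective (Subgroup.subgroupOfEquivOfLe hSX)
        (Subgroup.subgroupOfEquivOfLe hSX).surjective) hcyc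
    · refine absurd (fun x hx => ?_) hXN
      have h1 := (hc (S.subtype hSX)).conj_mem ⟨t, hSX htS⟩ htS ⟨x, hx⟩
      exact B.mem_nrm htA ht2 ht1 (hSA h1)
    · haveI : CharP F 2 := OrderP.charP_two_of_card hf
      have htX : t ∈ X := hAX htA
      have ht' : e ⟨t, htX⟩ * e ⟨t, htX⟩ = 1 := by
        rw [← map_mul, show (⟨t, htX⟩ : X) * ⟨t, htX⟩ = 1 from Subtype.ext ht2, map_one]
      have hq : ∀ τ ∈ T, ∀ (hτ : τ ∈ X), (e ⟨τ, hτ⟩).1 = 1 := by
        intro τ hτT hτ
        set p := (e ⟨τ, hτ⟩).1 with hp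
        have hc : Commute (e ⟨τ, hτ⟩) (e ⟨t, htX⟩) :=
          (show Commute (⟨τ, hτ⟩ : X) ⟨t, htX⟩ from Subtype.ext (hAc τ hτT.1 t htA).eq).map e.toMonoidHom
        have hq1 : (e ⟨t, htX⟩).1 ≠ 1 := fun h => by
          have h2 : orderOf (e ⟨t, htX⟩).2 ∣ 2 := orderOf_dvd_of_pow_eq_one (by
            rw [← Prod.pow_snd, pow_two, ht']; rfl)
          have h3 : (e ⟨t, htX⟩).2 = 1 := by
            rcases (Nat.dvd_prime Nat.prime_two).1 h2 with h' | h'
            · exact orderOf_eq_one_iff.1 h'
            · have := orderOf_dvd_natCard (e ⟨t, htX⟩).2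
              rw [h'] at this
              exact absurd (even_iff_two_dvd.2 this) (Nat.not_even_iff_odd.2 hAt)
          have : e ⟨t, htX⟩ = 1 := Prod.ext h h3
          exact ht1 (congrArg Subtype.val (e.injective (this.trans e.map_one.symm)))
        have hp2 : orderOf p ∣ 2 := orderOf_dvd_of_pow_eq_one (by
          rw [pow_two]
          exact sl_two_sq_of_commute hq1 (congrArg Prod.fst ht') (congrArg Prod.fst hc.eq))
        have hodd : orderOf p ∣ orderOf τ := by
          refine orderOf_dvd_of_pow_eq_one ?_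
          rw [show p = (e ⟨τ, hτ⟩).1 from hp, ← Prod.pow_fst, ← map_pow,
            show (⟨τ, hτ⟩ : X) ^ orderOf τ = 1 from Subtype.ext (pow_orderOf_eq_one τ), map_one]
          rfl
        rcases (Nat.dvd_prime Nat.prime_two).1 hp2 with h | h
        · exact orderOf_eq_one_iff.1 h
        · rw [h] at hodd
          exact absurd (even_iff_two_dvd.2 hodd) (Nat.not_even_iff_odd.2 hτT.2)
      have hcomm : ∀ b, ∀ x : X, Commute x (e.symm (1, b)) := fun b x => e.injective (by
        rw [map_mul, map_mul, MulEquiv.apply_symm_apply]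
        exact Prod.ext (by simp) (mul_comm _ _))
      have hsurj : ∀ τ ∈ T, ∃ b, ((e.symm (1, b) : X) : G) = τ := fun τ hτ => by
        refine ⟨(e ⟨τ, hAX hτ.1⟩).2, ?_⟩
        rw [show ((1, (e ⟨τ, hAX hτ.1⟩).2) : SpecialLinearGroup (Fin 2) F × At) = e ⟨τ, hAX hτ.1⟩ from
          Prod.ext (hq τ hτ _).symm rfl, MulEquiv.symm_apply_apply]
      refine ⟨F, iF, iFF, f, At, iA, iAf, e, hf2, hf, hAt, fun b => ⟨?_, ?_⟩, fun τ hτ x hx => ?_, hsurj⟩
      · exact mem_cent.2 (Commute.map (hcomm b ⟨t, htX⟩) X.subtype).symm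
      · refine hAt.of_dvd_nat (orderOf_dvd_of_pow_eq_one ?_)
        rw [← SubgroupClass.coe_pow, ← map_pow, Prod.pow_mk, one_pow, pow_card_eq_one',
          show ((1, 1) : SpecialLinearGroup (Fin 2) F × At) = 1 from rfl, map_one]
        rfl
      · obtain ⟨b, rfl⟩ := hsurj τ hτ
        exact Commute.map (hcomm b ⟨x, hx⟩) X.subtype
  have hAle : ∀ a ∈ A, A ≤ cent a := fun a ha x hx => mem_cent.2 (hAc x hx a ha)
  have hTone : ∀ τ ∈ T, cent τ = ⊤ → τ = 1 := by
    intro τ hτ h
    have hcen : τ ∈ Subgroup.center G := Subgroup.mem_center_iff.2 fun g =>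
      (mem_cent.1 (h ▸ Subgroup.mem_top g : g ∈ cent τ)).eq
    have hn : (Subgroup.zpowers τ).Normal := ⟨fun x hx g => by
      rw [Subgroup.mem_center_iff.1 (Subgroup.zpowers_le.2 hcen hx) g, mul_inv_cancel_right]
      exact hx⟩
    have := hK _ hn (by rw [Nat.card_zpowers]; exact hτ.2)
    exact Subgroup.zpowers_eq_bot.1 this
  have hcase : ∀ a ∈ cent t, a ≠ 1 → cent a ≤ nrm t := by
    intro a ha ha1
    rcases (Nat.even_or_odd (orderOf a)) with he | ho
    · exact (hcent_even a ha he).trans (cent_le_nrm t)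
    by_contra hle
    have haT : a ∈ T := ⟨ha, ho⟩
    set M := Subgroup.normalizer (T : Set G) with hM
    have hMtop : M ≠ ⊤ := fun h => ha1 (by
      have := hK T (Subgroup.normalizer_eq_top_iff.1 h) hTodd
      exact Subgroup.mem_bot.1 (this ▸ haT))
    by_cases hMN : M ≤ nrm t
    · obtain ⟨F, iF, iFF, f, At, iA, iAf, e, -, -, -, -, hcom, -⟩ :=
        hX (cent a) (fun h => ha1 (hTone a haT h)) (hAle a ha) hle
      refine hle fun x hx => hMN (Subgroup.mem_normalizer_iff.2 fun y => ?_)
      constructor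
      · intro hy
        rw [(hcom y hy x hx).eq, mul_inv_cancel_right]
        exact hy
      · intro hy
        have h1 := hcom _ hy x⁻¹ ((cent a).inv_mem hx)
        have : y = x * y * x⁻¹ := by
          calc y = x⁻¹ * (x * y * x⁻¹) * x := by group
            _ = x * y * x⁻¹ := by rw [h1.eq, inv_mul_cancel_right]
        rw [this]; exact hy
    obtain ⟨F, iF, iFF, f, At, iA, iAf, e, hf2, hf, hAt, hbT, hcomM, hsurj⟩ :=
      hX M hMtop ((cent_le_nrm t).trans hnormT) hMN
    haveI : CharP F 2 := OrderP.charP_two_of_card hf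
    haveI : Nontrivial At := by
      obtain ⟨b, hb⟩ := hsurj a haT
      refine ⟨⟨b, 1, fun h => ha1 ?_⟩⟩
      rw [← hb, h, show ((1, 1) : SpecialLinearGroup (Fin 2) F × At) = 1 from rfl, map_one]
      rfl
    refine false_of_product hinv (M := M) (F := F) (f := f) (by rw [Nat.card_eq_fintype_card]; exact hf) hf2
      hAt e hMtop (fun b hb => ?_) fun g hg => ?_
    · set τ := ((e.symm (1, b) : M) : G) with hτdef
      have hτ1 : τ ≠ 1 := fun h => hb (congrArg Prod.snd
        (e.symm.injective ((Subtype.ext h : e.symm (1, b) = 1).trans e.symm.map_one.symm)))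
      have hMτ : M ≤ cent τ := fun x hx => mem_cent.2 (hcomM τ (hbT b) x hx)
      obtain ⟨F', iF', iFF', f', At', iA', iAf', e', -, -, -, -, hcom, -⟩ :=
        hX (cent τ) (fun h => hτ1 (hTone τ (hbT b) h)) (hAle τ (hbT b).1) fun h => hMN (hMτ.trans h)
      intro x hx
      refine Subgroup.mem_normalizer_iff.2 fun y => ?_
      constructor
      · intro hy
        rw [(hcom y hy x hx).eq, mul_inv_cancel_right]
        exact hy
      · intro hy
        have h1 := hcom _ hy x⁻¹ ((cent τ).inv_mem hx)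
        have : y = x * y * x⁻¹ := by
          calc y = x⁻¹ * (x * y * x⁻¹) * x := by group
            _ = x * y * x⁻¹ := by rw [h1.eq, inv_mul_cancel_right]
        rw [this]; exact hy
    · have hle' : T.map (MulAut.conj g).toMonoidHom ≤ T := by
        rintro _ ⟨τ, hτ, rfl⟩
        obtain ⟨b, rfl⟩ := hsurj τ hτ
        obtain ⟨b', hb'⟩ := hg b
        show g * _ * g⁻¹ ∈ T
        rw [hb']
        exact hbT b'
      have heq : T.map (MulAut.conj g).toMonoidHom = T := Subgroup.eq_of_le_of_card_ge hle'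
        (le_of_eq (Nat.card_congr (T.equivMapOfInjective _ (MulAut.conj g).injective).toEquiv))
      refine Subgroup.mem_normalizer_iff.2 fun y => ?_
      conv_rhs => rw [← heq]
      exact ⟨fun hy => ⟨y, hy, rfl⟩, fun ⟨y', hy', he⟩ => (MulAut.conj g).injective he ▸ hy'⟩
  obtain ⟨hcard, F, iF, iFF, f, hf2, hf, -, ⟨e⟩⟩ := psl_of_data (B.data hcase)
  obtain ⟨ψ⟩ := OrderP.nonempty_psl_equiv_sl hf
  exact Or.inr (Or.inr ⟨F, iF, iFF, f, PUnit, inferInstance, inferInstance, hf2, hf, by simp,
    ⟨(e.trans ψ).trans MulEquiv.prodUnique.symm⟩⟩)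

end Cfsg.Agent.CharDeep.CA
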