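import Cfsg.Agent.CharDeep.CA.Count
import Cfsg.Agent.Lib.Zassenhaus.AbelianBound
import Cfsg.Agent.Lib.Zassenhaus.TwoKernelMain
import Cfsg.Agent.Lib.Perm.ThreeTransitive
import Cfsg.Agent.S4702
import Cfsg.Agent.CharDeep.OrderP.Recog
import Cfsg.Agent.Lib.Zassenhaus.OddDegree

/-!
A non-abelian simple CA-group is `PSL(2, 2^f)`.
-/

set_option autoImplicit false

namespace Cfsg.Agent.CharDeep.CA

open MulAction

theorem psl_of_data {G : Type*} [Group G] [Finite G] {t : G} (H : Data G t) :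
    Nat.card (cent t) = (cent t).relIndex (nrm t) + 1 ∧
      ∃ (F : Type) (_ : Field F) (_ : Fintype F) (f : ℕ), 2 ≤ f ∧ Fintype.card F = 2 ^ f ∧
        Nat.card (cent t) = 2 ^ f ∧
        Nonempty (G ≃* Matrix.ProjectiveSpecialLinearGroup (Fin 2) F) := by
  classical
  obtain ⟨hidx, u, hu, huN, hcov, hsep⟩ := main H
  haveI := Fintype.ofFinite G
  let Ω := G ⧸ nrm t
  haveI : Fintype Ω := Fintype.ofFinite Ω
  have huinv : u⁻¹ = u := inv_eq_of_mul_eq_one_right hu
  set a₀ : Ω := QuotientGroup.mk 1 with ha₀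
  set b₀ : Ω := QuotientGroup.mk u with hb₀
  have hab : a₀ ≠ b₀ := (mk_ne_one huN).symm
  have hsmul : ∀ g x : G, g • (QuotientGroup.mk x : Ω) = QuotientGroup.mk (g * x) := fun g x => rfl
  have hfixa : ∀ g : G, g • a₀ = a₀ ↔ g ∈ nrm t := fun g => by
    rw [ha₀, hsmul, mul_one, QuotientGroup.eq, mul_one]
    exact (nrm t).inv_mem_iff
  have hfixx : ∀ g x : G, g • (QuotientGroup.mk x : Ω) = QuotientGroup.mk x ↔
      x⁻¹ * g * x ∈ nrm t := fun g x => by
    rw [hsmul, QuotientGroup.eq, ← (nrm t).inv_mem_iff]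
    simp [mul_assoc]
  have hfixb : ∀ g : G, (g • a₀ = a₀ ∧ g • b₀ = b₀) ↔ g ∈ dd t u := fun g => by
    rw [mem_dd hu huN, hfixa, hb₀, hfixx, huinv]
  have hcov' : ∀ c : Ω, c ≠ a₀ → ∃ α ∈ cent t, c = α • b₀ := fun c hc => by
    obtain ⟨x, rfl⟩ := QuotientGroup.mk_surjective c
    obtain ⟨α, hα, he⟩ := hcov x fun hx => hc (by
      rw [ha₀, QuotientGroup.eq, mul_one]; exact (nrm t).inv_mem hx)
    exact ⟨α, hα, he⟩
  have hstd : ∀ x y : Ω, x ≠ y → ∃ g : G, g • a₀ = x ∧ g • b₀ = y := fun x y hxy => by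
    obtain ⟨r, rfl⟩ := QuotientGroup.mk_surjective x
    obtain ⟨α, hα, he⟩ := hcov' (r⁻¹ • y) fun he => hxy (by
      rw [inv_smul_eq_iff] at he
      rw [he, ha₀, hsmul, mul_one])
    refine ⟨r * α, ?_, ?_⟩
    · rw [mul_smul, (hfixa α).2 (cent_le_nrm t hα), ha₀, hsmul, mul_one]
    · rw [mul_smul, ← he, smul_inv_smul]
  have h2 : IsMultiplyPretransitive G Ω 2 := is_two_pretransitive_iff.2 fun {x y z w} hxy hzw => by
    obtain ⟨g, g1, g2⟩ := hstd x y hxy
    obtain ⟨k, k1, k2⟩ := hstd z w hzw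
    exact ⟨k * g⁻¹, by rw [mul_smul, ← g1, inv_smul_smul, k1],
      by rw [mul_smul, ← g2, inv_smul_smul, k2]⟩
  have hthree : ∀ g : G, ∀ x y z : Ω, x ≠ y → y ≠ z → x ≠ z → g • x = x → g • y = y → g • z = z →
      g = 1 := by
    intro g x y z hxy hyz hxz hx hy hz
    obtain ⟨r, rfl, rfl⟩ := hstd x y hxy
    set k := r⁻¹ * g * r with hk
    have hkd : k ∈ dd t u := (hfixb k).1
      ⟨by rw [hk, mul_smul, mul_smul, hx, inv_smul_smul],
        by rw [hk, mul_smul, mul_smul, hy, inv_smul_smul]⟩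
    obtain ⟨α, hα, he⟩ := hcov' (r⁻¹ • z) fun he => hxz (by
      rw [inv_smul_eq_iff] at he; exact he.symm)
    have hkz : k • (α • b₀) = α • b₀ := by
      rw [← he, hk, mul_smul, mul_smul, smul_inv_smul, hz]
    have hαd : α⁻¹ * k * α ∈ dd t u := (hfixb _).1
      ⟨by rw [mul_smul, mul_smul, (hfixa α).2 (cent_le_nrm t hα), (hfixa k).2 hkd.1,
          (hfixa α⁻¹).2 ((nrm t).inv_mem (cent_le_nrm t hα))],
        by rw [mul_smul, mul_smul, hkz, inv_smul_smul]⟩
    by_contra hg1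
    have hα1 := hsep α hα k hkd hαd fun hk1 => hg1 (by
      rw [show g = r * k * r⁻¹ by rw [hk]; group, hk1]; group)
    rw [hα1, one_smul, inv_smul_eq_iff] at he
    exact hyz he.symm
  have hker : (toPermHom G Ω).ker = ⊥ := by
    set K := (toPermHom G Ω).ker
    have hKN : K ≤ nrm t := fun x hx => (hfixa x).1 (Equiv.congr_fun (MonoidHom.mem_ker.1 hx) a₀)
    have hKA : ∀ x ∈ K, x ∈ cent t → x = 1 := fun x hx hxA => by
      refine eq_one_of_conj H huN hxA ?_
      rw [huinv]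
      exact (mem_dd hu huN).1 ((hfixb x).1 ⟨Equiv.congr_fun (MonoidHom.mem_ker.1 hx) a₀,
        Equiv.congr_fun (MonoidHom.mem_ker.1 hx) b₀⟩) |>.2
    refine (Subgroup.eq_bot_iff_forall _).2 fun x hx => hKA x hx (mem_cent.2 ?_)
    have htA : t ∈ cent t := mem_cent.2 (Commute.refl t)
    have h1 : x * t * x⁻¹ * t⁻¹ = 1 := hKA _
      (by rw [mul_assoc x t, mul_assoc x]
          exact K.mul_mem hx ((MonoidHom.normal_ker _).conj_mem _ (K.inv_mem hx) t))
      ((cent t).mul_mem (conj_mem H (hKN hx) htA) ((cent t).inv_mem htA))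
    exact mul_inv_eq_iff_eq_mul.1 (mul_inv_eq_one.1 h1)
  haveI hfaith : FaithfulSMul G Ω :=
    ⟨fun {g k} hgk => (MonoidHom.ker_eq_bot_iff (toPermHom G Ω)).1 hker (Equiv.ext hgk)⟩
  obtain ⟨k₀, hk₀, hk₀1⟩ := exists_dd_ne_one H hu huN
  have hZ : Cfsg.IsZassenhausGroup G Ω := by
    refine ⟨hfaith, h2, hthree, ⟨k₀, hk₀1, a₀, b₀, hab, ((hfixb k₀).2 hk₀).1, ((hfixb k₀).2 hk₀).2⟩,
      fun N hN htr => ?_⟩
    -- a transitive normal subgroup is not regular
    by_contra hno
    push Not at hno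
    have hNH : ∀ n ∈ N, n ∈ nrm t → n = 1 := fun n hn hnN => by
      have h1 : (⟨n, hn⟩ : N) ∈ stabilizer N a₀ := (hfixa n).2 hnN
      exact congrArg Subtype.val (Subgroup.mem_bot.1 (le_of_eq (hno a₀) h1))
    have hodd : ∀ n ∈ N, n * n = 1 → n = 1 := fun n hn hn2 => by
      by_contra hn1
      obtain ⟨g, hg⟩ := conj_exists H hn2 hn1
      exact H.t_ne (hNH t (hg ▸ hN.conj_mem n hn g) (cent_le_nrm t (mem_cent.2 (Commute.refl t))))
    have hA : ∀ a ∈ cent t, a * a = 1 → a ≠ 1 → ∀ n ∈ N, a * n * a = n⁻¹ := fun a ha ha2 ha1 => by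
      have hai : a⁻¹ = a := inv_eq_of_mul_eq_one_right ha2
      refine inverts_of_fpf ha2 (fun n hn => by simpa [hai] using hN.conj_mem n hn a) fun n hn hf => ?_
      refine hNH n hn (cent_le_nrm t (mem_of_commute H ha ha1 ?_))
      show n * a = a * n
      calc n * a = a * n * a * a := by rw [hf]
        _ = a * n := by rw [mul_assoc (a * n), ha2, mul_one]
    obtain ⟨m, hm, hmA⟩ : ∃ m ∈ nrm t, m ∉ cent t :=
      SetLike.not_le_iff_exists.1 fun hle => nrm_ne_cent H (le_antisymm hle (cent_le_nrm t))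
    have htA : t ∈ cent t := mem_cent.2 (Commute.refl t)
    set s := m * t * m⁻¹ with hs
    have hsA : s ∈ cent t := conj_mem H hm htA
    have hs2 : s * s = 1 := by
      rw [hs, show m * t * m⁻¹ * (m * t * m⁻¹) = m * (t * t) * m⁻¹ by group, H.t_sq, mul_one,
        mul_inv_cancel]
    have hst : t * s ≠ 1 := fun he => hmA (mem_cent.2 (by
      have he' : t = s := by rw [← mul_inv_eq_one, inv_eq_of_mul_eq_one_right hs2, he]
      exact mul_inv_eq_iff_eq_mul.1 he'.symm))
    obtain ⟨⟨n, hn⟩, he⟩ := htr.exists_smul_eq a₀ b₀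
    refine hab (?_ : a₀ = b₀)
    suffices n = 1 by subst this; exact (one_smul G a₀).symm.trans he
    refine hNH n hn (cent_le_nrm t (mem_of_commute H ((cent t).mul_mem htA hsA) hst ?_))
    have h1 := hA t htA H.t_sq H.t_ne
    have h2 := hA s hsA hs2 (fun e => H.t_ne (conj_eq_one_iff.1 e))
    have key : t * s * n * (t * s)⁻¹ = n := by
      rw [mul_inv_rev, inv_eq_of_mul_eq_one_right H.t_sq, inv_eq_of_mul_eq_one_right hs2,
        show t * s * n * (s * t) = t * (s * n * s) * t by group, h2 n hn, h1 _ (N.inv_mem hn), inv_inv]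
    exact (mul_inv_eq_iff_eq_mul.1 key).symm
  have hΩ : Fintype.card Ω = Nat.card (cent t) + 1 := by
    rw [← hidx, ← Nat.card_eq_fintype_card]
    rfl
  haveI : IsSimpleGroup G := ZassNormal.isSimpleGroup_of_odd hZ (by
    rw [hΩ]
    have h2' : orderOf (⟨t, mem_cent.2 (Commute.refl t)⟩ : cent t) = 2 := by
      rw [Subgroup.orderOf_mk]
      exact orderOf_eq_prime (by rw [pow_two]; exact H.t_sq) H.t_ne
    exact (even_iff_two_dvd.2 (h2' ▸ orderOf_dvd_natCard _)).add_one)
  have hU : Zass.IsKernel a₀ (cent t) := by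
    refine ⟨fun x hx => mem_stabilizer_iff.2 ((hfixa x).2 (cent_le_nrm t hx)), hΩ.symm, ?_⟩
    intro x hx hx1 c hc
    by_contra hca
    obtain ⟨α, hα, rfl⟩ := hcov' c hca
    rw [hb₀, hsmul α u, hfixx, show (α * u)⁻¹ * x * (α * u) = u⁻¹ * (α⁻¹ * x * α) * u by group,
      mul_assoc α⁻¹ x α, (comm H hx hα).eq, inv_mul_cancel_left, huinv] at hc
    exact hx1 (eq_one_of_conj H huN hx (by rwa [huinv]))
  have htwo : ∀ g : G, g ∈ Zass.two G a₀ b₀ ↔ g ∈ dd t u := fun g => hfixb g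
  set i := (cent t).relIndex (nrm t) with hi
  have hT : Nat.card ↥(Zass.two G a₀ b₀) = i := by
    rw [← show Nat.card (dd t u) = i from (fibres H).1 u hu huN]
    exact Nat.card_congr (Equiv.subtypeEquivRight htwo)
  have hodd : Odd (Nat.card ↥(Zass.two G a₀ b₀)) := by
    rw [hT, ← show Nat.card (dd t u) = i from (fibres H).1 u hu huN]
    by_contra hev
    haveI : Fact (Nat.Prime 2) := ⟨Nat.prime_two⟩
    obtain ⟨x, hx⟩ := exists_prime_orderOf_dvd_card' (G := dd t u) 2
      (even_iff_two_dvd.1 (Nat.not_odd_iff_even.1 hev))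
    have hx2 : (x : G) * x = 1 := by
      have := congrArg Subtype.val (pow_orderOf_eq_one x)
      rw [hx] at this
      simpa [pow_two] using this
    have : x = 1 := Subtype.ext (dd_inf_cent H hu huN x.2 (sq_mem_cent H hx2 x.2.1))
    rw [this, orderOf_one] at hx
    norm_num at hx
  have hAcard : Nat.card (cent t) = i + 1 := by
    have h1 := ZassNormal.abelian_bound hZ hab hU hodd
      (fun x y => Subtype.ext (comm H x.2 y.2).eq)
    rw [hΩ, hT] at h1
    obtain ⟨m, hm⟩ := relIndex_dvd H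
    rw [← hi] at hm
    have hAeven : Even (Nat.card (cent t)) := by
      have h2' : orderOf (⟨t, mem_cent.2 (Commute.refl t)⟩ : cent t) = 2 := by
        rw [Subgroup.orderOf_mk]
        exact orderOf_eq_prime (by rw [pow_two]; exact H.t_sq) H.t_ne
      exact even_iff_two_dvd.2 (h2' ▸ orderOf_dvd_natCard _)
    have hipos : 2 ≤ i := two_le_relIndex H
    obtain ⟨c, hc⟩ := hAeven
    have hpos : 0 < Nat.card (cent t) := Nat.card_pos
    rcases (show m = 0 ∨ m = 1 ∨ m = 2 ∨ 3 ≤ m by omega) with h | h | h | h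
    · subst h
      omega
    · subst h
      omega
    · subst h
      omega
    · have := Nat.mul_le_mul_left i h
      omega
  -- sharply triply transitive
  haveI := h2
  have h3 : IsMultiplyPretransitive G Ω 3 := by
    refine Agent.Perm.three_transitive_of_stabilizer fun a b c d hab' hca hcb hda hdb => ?_
    let T := Zass.two G a b
    let S := {x : Ω // x ≠ a ∧ x ≠ b}
    let f : T → S := fun g => ⟨(g : G) • c,
      fun he => hca (MulAction.injective (g : G) (he.trans g.2.1.symm)),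
      fun he => hcb (MulAction.injective (g : G) (he.trans g.2.2.symm))⟩
    have hfi : Function.Injective f := fun g k he => by
      have he' : (g : G) • c = (k : G) • c := congrArg Subtype.val he
      have h1 := hthree ((k : G)⁻¹ * g) a b c hab' (Ne.symm hcb) (Ne.symm hca)
        ((T.mul_mem (T.inv_mem k.2) g.2).1) ((T.mul_mem (T.inv_mem k.2) g.2).2)
        (by rw [mul_smul, he', inv_smul_smul])
      exact Subtype.ext (inv_mul_eq_one.1 h1).symm
    have hcardS : Nat.card S = Nat.card T := by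
      rw [Zass.card_two_eq hZ hab hab', hT, Nat.card_eq_fintype_card, Fintype.card_subtype,
        show (Finset.univ.filter fun x : Ω => x ≠ a ∧ x ≠ b) = (Finset.univ.erase a).erase b by
          ext x; simp [and_comm],
        Finset.card_erase_of_mem (by simp [Ne.symm hab']),
        Finset.card_erase_of_mem (Finset.mem_univ _), Finset.card_univ, hΩ, hAcard]
      omega
    obtain ⟨g, hg⟩ := ((Nat.bijective_iff_injective_and_card f).2 ⟨hfi, hcardS.symm⟩).2 ⟨d, hda, hdb⟩
    exact ⟨g, g.2.1, g.2.2, congrArg Subtype.val hg⟩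
  let π := toPermHom G Ω
  have hπ : Function.Injective π := fun x y hxy =>
    FaithfulSMul.eq_of_smul_eq_smul (α := Ω) fun z => Equiv.congr_fun hxy z
  let P : Subgroup (Equiv.Perm Ω) := π.range
  let ε : G ≃* P := MonoidHom.ofInjective hπ
  have h3P : IsMultiplyPretransitive P Ω 3 := by
    rw [MulAction.isMultiplyPretransitive_iff]
    intro x y
    obtain ⟨g, hg⟩ := MulAction.isMultiplyPretransitive_iff.1 h3 x y
    exact ⟨ε g, hg⟩
  have hAe : Nat.card (cent t) % 2 = 0 := by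
    rw [hAcard]
    obtain ⟨c, hc⟩ := hodd
    rw [hT] at hc
    omega
  obtain ⟨a, ha, hcard, F, iF, iFF, hF, ⟨e⟩⟩ := S4702.result
    (show 3 ≤ Fintype.card Ω by rw [hΩ, hAcard]; have := two_le_relIndex H; omega)
    (show Odd (Fintype.card Ω) by rw [hΩ]; exact Nat.odd_iff.2 (by omega)) P h3P
    (fun g hg => by
      obtain ⟨g, rfl⟩ := ε.surjective g
      rw [Nat.card_eq_fintype_card] at hg
      obtain ⟨x, y, z, hxy, hxz, hyz⟩ := Fintype.two_lt_card_iff.1 hg
      rw [show g = 1 from hthree g x y z (fun h => hxy (Subtype.ext h))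
        (fun h => hyz (Subtype.ext h)) (fun h => hxz (Subtype.ext h)) x.2 y.2 z.2, map_one])
  obtain ⟨ψ⟩ := OrderP.nonempty_psl_equiv_sl hF
  refine ⟨hAcard, F, iF, iFF, a, ?_, hF, by omega,
    ⟨(ε.trans e).trans ψ.symm⟩⟩
  by_contra ha2
  rw [show a = 1 by omega] at hcard
  have := two_le_relIndex H
  omega

theorem exists_psl_data {G : Type*} [Group G] [Finite G] [IsSimpleGroup G] (h : IsCA G)
    (hna : ¬ IsMulCommutative G) :
    ∃ t : G, Data G t ∧ Nat.card (cent t) = (cent t).relIndex (nrm t) + 1 ∧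
      ∃ (F : Type) (_ : Field F) (_ : Fintype F) (f : ℕ), 2 ≤ f ∧ Fintype.card F = 2 ^ f ∧
        Nat.card (cent t) = 2 ^ f ∧
        Nonempty (G ≃* Matrix.ProjectiveSpecialLinearGroup (Fin 2) F) := by
  obtain ⟨t, H⟩ := exists_data h hna
  exact ⟨t, H, psl_of_data H⟩

theorem exists_psl {G : Type*} [Group G] [Finite G] [IsSimpleGroup G] (h : IsCA G)
    (hna : ¬ IsMulCommutative G) :
    ∃ (F : Type) (_ : Field F) (_ : Fintype F) (f : ℕ), 2 ≤ f ∧ Fintype.card F = 2 ^ f ∧
      Nonempty (G ≃* Matrix.ProjectiveSpecialLinearGroup (Fin 2) F) := by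
  obtain ⟨-, -, -, F, iF, iFF, f, hf, hF, -, he⟩ := exists_psl_data h hna
  exact ⟨F, iF, iFF, f, hf, hF, he⟩

end Cfsg.Agent.CharDeep.CA
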