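import Cfsg.Agent.CharDeep.CA.Main

/-!
Abelian centralisers of involutions: when no centraliser leaves `N(C(t))` the centraliser of `t` is
self-centralising.
-/

set_option autoImplicit false

namespace Cfsg.Agent.CharDeep.CA

/-- Centralisers of involutions are abelian. -/
def AbInv (G : Type*) [Group G] : Prop :=
  ∀ x : G, x * x = 1 → x ≠ 1 → ∀ a ∈ cent x, ∀ b ∈ cent x, Commute a b

/-- An involution centralising a Sylow `2`-subgroup with two involutions, with abelian centraliser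
that is not normal. -/
structure Base (G : Type*) [Group G] (t : G) : Prop where
  inv : AbInv G
  t_ne : t ≠ 1
  t_sq : t * t = 1
  sylow : ∃ S : Sylow 2 G, (S : Subgroup G) ≤ cent t ∧ t ∈ (S : Subgroup G)
  ne_top : nrm t ≠ ⊤
  two : ∃ s ∈ cent t, s * s = 1 ∧ s ≠ 1 ∧ s ≠ t

variable {G : Type*} [Group G] {t : G} (B : Base G t)
include B

theorem Base.cent_eq {s : G} (hs : s ∈ cent t) (hs2 : s * s = 1) (hs1 : s ≠ 1) : cent s = cent t := by
  have hts : t ∈ cent s := mem_cent.2 (mem_cent.1 hs).symm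
  ext x
  exact ⟨fun hx => mem_cent.2 (B.inv s hs2 hs1 x hx t hts),
    fun hx => mem_cent.2 (B.inv t B.t_sq B.t_ne x hx s hs)⟩

theorem Base.mem_nrm {s g : G} (hs : s ∈ cent t) (hs2 : s * s = 1) (hs1 : s ≠ 1)
    (hg : g * s * g⁻¹ ∈ cent t) : g ∈ nrm t := by
  have h2 := B.cent_eq hg (by rw [show g * s * g⁻¹ * (g * s * g⁻¹) = g * (s * s) * g⁻¹ by group,
    hs2, mul_one, mul_inv_cancel]) (by simpa using hs1)
  refine Subgroup.mem_normalizer_iff.2 fun y => ?_
  conv_lhs => rw [← B.cent_eq hs hs2 hs1]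
  conv_rhs => rw [← h2]
  exact conj_mem_cent.symm

theorem Base.conj_mem {n a : G} (hn : n ∈ nrm t) (ha : a ∈ cent t) : n * a * n⁻¹ ∈ cent t :=
  (Subgroup.mem_normalizer_iff.1 hn a).1 ha

variable [Finite G]

theorem Base.mem_of_sq_mem {x : G} (hxN : x ∈ nrm t) (hx : x * x ∈ cent t) : x ∈ cent t := by
  obtain ⟨S, hS, -⟩ := B.sylow
  haveI : ((cent t).subgroupOf (nrm t)).Normal := Subgroup.normal_in_normalizer
  have hodd : ¬ 2 ∣ (cent t).relIndex (nrm t) := fun hd => by
    haveI : Fact (Nat.Prime 2) := ⟨Nat.prime_two⟩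
    refine S.not_dvd_index ?_
    refine dvd_trans ?_ (Subgroup.index_dvd_of_le hS)
    rw [← Subgroup.relIndex_mul_index (cent_le_nrm t)]
    exact dvd_mul_of_dvd_left hd _
  set q : nrm t ⧸ (cent t).subgroupOf (nrm t) := QuotientGroup.mk ⟨x, hxN⟩ with hq
  have h2 : orderOf q ∣ 2 := orderOf_dvd_of_pow_eq_one (by
    rw [hq, ← QuotientGroup.mk_pow, pow_two, QuotientGroup.eq_one_iff, Subgroup.mem_subgroupOf]
    exact hx)
  rcases (Nat.dvd_prime Nat.prime_two).1 h2 with h | h
  · rw [orderOf_eq_one_iff, hq, QuotientGroup.eq_one_iff, Subgroup.mem_subgroupOf] at h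
    exact h
  · exact absurd (h ▸ orderOf_dvd_natCard q) hodd

theorem Base.sq_mem {x : G} (hx : x * x = 1) (hxN : x ∈ nrm t) : x ∈ cent t :=
  B.mem_of_sq_mem hxN (hx ▸ (cent t).one_mem)

theorem Base.conj_exists {x : G} (hx : x * x = 1) (hx1 : x ≠ 1) : ∃ g : G, g * x * g⁻¹ = t := by
  by_contra hno
  have hnc : ∀ g : G, ¬ IsConj (g * t * g⁻¹) x := fun g hc =>
    hno (isConj_iff.1 ((isConj_iff.2 ⟨g, rfl⟩ : IsConj t (g * t * g⁻¹)).trans hc).symm)
  have hkey : ∀ a b : G, a * a = 1 → b * b = 1 → ¬ IsConj a b → Commute a b := by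
    intro a b ha hb hab
    set c := a * b with hc
    have hia : a⁻¹ = a := inv_eq_of_mul_eq_one_right ha
    have hib : b⁻¹ = b := inv_eq_of_mul_eq_one_right hb
    have hac : a * c * a⁻¹ = c⁻¹ := by
      rw [hc, mul_inv_rev, hia, hib, ← mul_assoc, ha, one_mul]
    have hbc : b * c * b⁻¹ = c⁻¹ := by
      rw [hc, mul_inv_rev, hia, hib, mul_assoc, mul_assoc, hb, mul_one]
    have hev : Even (orderOf c) := by
      by_contra ho
      obtain ⟨m, hm⟩ := Nat.not_even_iff_odd.1 ho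
      apply hab
      refine isConj_iff.2 ⟨c ^ m, ?_⟩
      have hp : c ^ m * c ^ m * c = 1 := by
        rw [← pow_add, ← pow_succ, ← two_mul, ← hm, pow_orderOf_eq_one]
      have ha' : a * (c ^ m)⁻¹ = c ^ m * a := by
        have hh : a * c ^ m * a⁻¹ = (c ^ m)⁻¹ := by rw [← conj_pow, hac, inv_pow]
        rw [← hh, hia]
        simp only [← mul_assoc, ha, one_mul]
      calc c ^ m * a * (c ^ m)⁻¹ = c ^ m * (c ^ m * a) := by rw [mul_assoc, ha']
        _ = (c ^ m * c ^ m * c) * (c⁻¹ * a) := by group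
        _ = c⁻¹ * a := by rw [hp, one_mul]
        _ = b := by rw [hc, mul_inv_rev, hib, hia, mul_assoc, ha, mul_one]
    obtain ⟨m, hm⟩ := hev
    have hcpos := orderOf_pos c
    set z := c ^ m with hz
    have hz1 : z ≠ 1 := pow_ne_one_of_lt_orderOf (by omega) (by omega)
    have hz2 : z * z = 1 := by rw [hz, ← pow_add, ← hm, pow_orderOf_eq_one]
    have hcomm : ∀ y : G, y * c * y⁻¹ = c⁻¹ → Commute y z := fun y hy => by
      have h1 : y * z * y⁻¹ = z := by
        rw [hz, ← conj_pow, hy, inv_pow, ← hz, inv_eq_of_mul_eq_one_right hz2]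
      calc y * z = y * z * y⁻¹ * y := by group
        _ = z * y := by rw [h1]
    exact B.inv z hz2 hz1 a (mem_cent.2 (hcomm a hac)) b (mem_cent.2 (hcomm b hbc))
  have hclass : ∀ g : G, g * t * g⁻¹ ∈ cent x := fun g => mem_cent.2 (hkey _ _
    (by rw [show g * t * g⁻¹ * (g * t * g⁻¹) = g * (t * t) * g⁻¹ by group, B.t_sq, mul_one,
      mul_inv_cancel]) hx (hnc g))
  have hxA : x ∈ cent t := by
    have := mem_cent.1 (hclass 1)
    simp only [one_mul, inv_one, mul_one] at this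
    exact mem_cent.2 this.symm
  exact B.ne_top (eq_top_iff.2 fun g _ =>
    B.mem_nrm (mem_cent.2 (Commute.refl t)) B.t_sq B.t_ne (B.cent_eq hxA hx hx1 ▸ hclass g))

/-- The number of involutions is `|G : N|` times the number in `C(t)`. -/
theorem Base.card_inv : Nat.card {x : G // x * x = 1 ∧ x ≠ 1} =
    (nrm t).index * Nat.card {x : G // x ∈ cent t ∧ x * x = 1 ∧ x ≠ 1} := by
  rw [Subgroup.index, ← Nat.card_prod]
  symm
  let f : (G ⧸ nrm t) × {x : G // x ∈ cent t ∧ x * x = 1 ∧ x ≠ 1} → {x : G // x * x = 1 ∧ x ≠ 1} :=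
    fun p => ⟨p.1.out * p.2 * p.1.out⁻¹,
      by rw [show p.1.out * (p.2 : G) * p.1.out⁻¹ * (p.1.out * (p.2 : G) * p.1.out⁻¹) =
        p.1.out * ((p.2 : G) * p.2) * p.1.out⁻¹ by group, p.2.2.2.1, mul_one, mul_inv_cancel],
      by simpa using p.2.2.2.2⟩
  refine Nat.card_congr (Equiv.ofBijective f ⟨?_, fun x => ?_⟩)
  · rintro ⟨p, y⟩ ⟨q, z⟩ h
    have h' : p.out * y * p.out⁻¹ = q.out * (z : G) * q.out⁻¹ := congrArg Subtype.val h
    have hpq : q.out⁻¹ * p.out ∈ nrm t := B.mem_nrm y.2.1 y.2.2.1 y.2.2.2 (by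
      rw [show q.out⁻¹ * p.out * y * (q.out⁻¹ * p.out)⁻¹ = q.out⁻¹ * (p.out * y * p.out⁻¹) * q.out
        by group, h']
      simpa [mul_assoc] using z.2.1)
    have : q = p := by rw [← p.out_eq', ← q.out_eq', QuotientGroup.eq]; exact hpq
    subst this
    simp only [mul_left_inj, mul_right_inj] at h'
    rw [Subtype.ext h']
  · obtain ⟨g, hg⟩ := B.conj_exists x.2.1 x.2.2
    set q : G ⧸ nrm t := QuotientGroup.mk g⁻¹
    obtain ⟨n, hn⟩ := QuotientGroup.mk_out_eq_mul (nrm t) g⁻¹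
    refine ⟨(q, ⟨(n : G)⁻¹ * t * n, by
      have := B.conj_mem ((nrm t).inv_mem n.2) (mem_cent.2 (Commute.refl t))
      simpa using this, by
      rw [show (n : G)⁻¹ * t * n * ((n : G)⁻¹ * t * n) = (n : G)⁻¹ * (t * t) * n by group, B.t_sq,
        mul_one, inv_mul_cancel], fun h => B.t_ne (by
      have : t = (n : G) * ((n : G)⁻¹ * t * n) * (n : G)⁻¹ := by group
      rw [this, h, mul_one, mul_inv_cancel])⟩), Subtype.ext ?_⟩
    show q.out * ((n : G)⁻¹ * t * n) * q.out⁻¹ = x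
    rw [hn, show (x : G) = g⁻¹ * t * g by rw [show g⁻¹ * t * g = g⁻¹ * (g * x * g⁻¹) * g by rw [hg]]; group]
    group

/-- `N` permutes the involutions of `C(t)` regularly modulo `C(t)`. -/
theorem Base.card_invA : Nat.card {x : G // x ∈ cent t ∧ x * x = 1 ∧ x ≠ 1} =
    (cent t).relIndex (nrm t) := by
  symm
  have htA : t ∈ cent t := mem_cent.2 (Commute.refl t)
  let f : nrm t ⧸ (cent t).subgroupOf (nrm t) → {x : G // x ∈ cent t ∧ x * x = 1 ∧ x ≠ 1} :=
    fun q => ⟨(q.out : G) * t * (q.out : G)⁻¹, B.conj_mem q.out.2 htA,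
      by rw [show (q.out : G) * t * (q.out : G)⁻¹ * ((q.out : G) * t * (q.out : G)⁻¹) =
        (q.out : G) * (t * t) * (q.out : G)⁻¹ by group, B.t_sq, mul_one, mul_inv_cancel],
      by simpa using B.t_ne⟩
  refine Nat.card_congr (Equiv.ofBijective f ⟨fun p q h => ?_, fun x => ?_⟩)
  · have h' : (p.out : G) * t * (p.out : G)⁻¹ = (q.out : G) * t * (q.out : G)⁻¹ :=
      congrArg Subtype.val h
    rw [← p.out_eq', ← q.out_eq', QuotientGroup.eq, Subgroup.mem_subgroupOf]
    refine mem_cent.2 ?_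
    show (p.out : G)⁻¹ * q.out * t = t * ((p.out : G)⁻¹ * q.out)
    calc (p.out : G)⁻¹ * q.out * t =
        (p.out : G)⁻¹ * ((q.out : G) * t * (q.out : G)⁻¹) * q.out := by group
      _ = t * ((p.out : G)⁻¹ * q.out) := by rw [← h']; group
  · obtain ⟨g, hg⟩ := B.conj_exists x.2.2.1 x.2.2.2
    have hgN : g⁻¹ ∈ nrm t := (nrm t).inv_mem (B.mem_nrm x.2.1 x.2.2.1 x.2.2.2 (by rw [hg]; exact htA))
    refine ⟨QuotientGroup.mk ⟨g⁻¹, hgN⟩, Subtype.ext ?_⟩
    obtain ⟨a, ha⟩ := QuotientGroup.mk_out_eq_mul ((cent t).subgroupOf (nrm t)) ⟨g⁻¹, hgN⟩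
    show ((QuotientGroup.mk (⟨g⁻¹, hgN⟩ : nrm t) : nrm t ⧸ (cent t).subgroupOf (nrm t)).out : G) * t *
      ((QuotientGroup.mk (⟨g⁻¹, hgN⟩ : nrm t) : nrm t ⧸ (cent t).subgroupOf (nrm t)).out : G)⁻¹ = x
    have hc : ((a : nrm t) : G) * t = t * ((a : nrm t) : G) := (mem_cent.1 a.2).eq
    rw [ha, Subgroup.coe_mul, show (x : G) = g⁻¹ * t * g by rw [show g⁻¹ * t * g = g⁻¹ * (g * x * g⁻¹) * g by rw [hg]]; group, mul_inv_rev,
      mul_assoc g⁻¹, hc]
    group

theorem Base.two_le : 2 ≤ (cent t).relIndex (nrm t) := by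
  rw [← B.card_invA]
  obtain ⟨s, hs, hs2, hs1, hst⟩ := B.two
  haveI : Nontrivial {x : G // x ∈ cent t ∧ x * x = 1 ∧ x ≠ 1} :=
    ⟨⟨⟨s, hs, hs2, hs1⟩, ⟨t, mem_cent.2 (Commute.refl t), B.t_sq, B.t_ne⟩,
      fun h => hst (congrArg Subtype.val h)⟩⟩
  exact Finite.one_lt_card

theorem Base.card_out : Nat.card {x : G // x * x = 1 ∧ x ∉ nrm t} +
    (cent t).relIndex (nrm t) = (nrm t).index * (cent t).relIndex (nrm t) := by
  classical
  haveI := Fintype.ofFinite G
  rw [← B.card_invA, ← B.card_inv, Nat.card_eq_fintype_card, Nat.card_eq_fintype_card,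
    Nat.card_eq_fintype_card, Fintype.card_subtype, Fintype.card_subtype, Fintype.card_subtype,
    ← Finset.card_union_of_disjoint (Finset.disjoint_filter.2 fun x _ h1 h2 =>
      h1.2 (cent_le_nrm t h2.1))]
  congr 1
  ext x
  simp only [Finset.mem_union, Finset.mem_filter, Finset.mem_univ, true_and]
  refine ⟨?_, fun h => ?_⟩
  · rintro (h | h)
    · exact ⟨h.1, fun e => h.2 (e ▸ (nrm t).one_mem)⟩
    · exact ⟨h.2.1, h.2.2⟩
  · by_cases hN : x ∈ nrm t
    · exact Or.inr ⟨B.sq_mem h.1 hN, h⟩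
    · exact Or.inl ⟨h.1, hN⟩

section

variable (hcase : ∀ a ∈ cent t, a ≠ 1 → cent a ≤ nrm t)
include hcase

/-- The same for every conjugate of `t`. -/
theorem Base.cent_le {g v b x : G} (hg : g * v * g⁻¹ = t) (hb : b ∈ cent v) (hb1 : b ≠ 1)
    (hx : x ∈ cent b) : g * x * g⁻¹ ∈ nrm t := by
  refine hcase (g * b * g⁻¹) (by rw [← hg]; exact conj_mem_cent.2 hb) (by simpa using hb1)
    (conj_mem_cent.2 hx)

theorem Base.conj_mem_eq_one {u x : G} (hu : u * u = 1) (huN : u ∉ nrm t) (hx : x ∈ cent t)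
    (hux : u * x * u ∈ cent t) : x = 1 := by
  by_contra hx1
  have huinv : u⁻¹ = u := inv_eq_of_mul_eq_one_right hu
  have htA : t ∈ cent t := mem_cent.2 (Commute.refl t)
  have h1 : u * t * u ∈ cent x := by
    refine mem_cent.2 ?_
    have h := (Commute.conj_iff u).2 (B.inv t B.t_sq B.t_ne t htA _ hux)
    rw [huinv, show u * (u * x * u) * u = (u * u) * x * (u * u) by group, hu, one_mul, mul_one] at h
    exact h
  refine huN (B.mem_nrm htA B.t_sq B.t_ne ?_)
  rw [huinv]
  exact B.sq_mem (by rw [show u * t * u * (u * t * u) = u * t * (u * u) * t * u by group, hu, mul_one,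
    mul_assoc u t t, B.t_sq, mul_one, hu]) (hcase x hx hx1 h1)

/-- `C(t)` acts semiregularly outside `N`. -/
theorem Base.semireg {u e : G} (hu : u * u = 1) (huN : u ∉ nrm t) (he : e ∈ cent t)
    (hue : u * e * u ∈ nrm t) : e = 1 := by
  set e' := u * e * u with he'
  have hue' : u * e' * u = e := by
    rw [he', show u * (u * e * u) * u = (u * u) * e * (u * u) by group, hu, one_mul, mul_one]
  have huinv : u⁻¹ = u := inv_eq_of_mul_eq_one_right hu
  have hmap : ∀ a b : G, u * (a * b) * u = (u * a * u) * (u * b * u) := fun a b => by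
    rw [show u * a * u * (u * b * u) = u * a * (u * u) * b * u by group, hu, mul_one]
    group
  have hinvmap : ∀ a : G, u * a⁻¹ * u = (u * a * u)⁻¹ := fun a => by
    simp only [mul_inv_rev, huinv, mul_assoc]
  set c := e * e' * e⁻¹ * e'⁻¹ with hc
  have hcA : c ∈ cent t := by
    rw [hc, show e * e' * e⁻¹ * e'⁻¹ = e * (e' * e⁻¹ * e'⁻¹) by group]
    exact (cent t).mul_mem he (B.conj_mem hue ((cent t).inv_mem he))
  have huc : u * c * u = c⁻¹ := by
    rw [hc, hmap, hmap, hmap, hinvmap, hinvmap, ← he', hue']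
    group
  have hc1 : c = 1 := B.conj_mem_eq_one hcase hu huN hcA (huc ▸ (cent t).inv_mem hcA)
  have hee : Commute e e' := by
    rw [hc, mul_inv_eq_one, mul_inv_eq_iff_eq_mul] at hc1
    exact hc1
  set f := e * e' with hf
  have huf : Commute u f := by
    show u * f = f * u
    calc u * f = u * f * u * u := by rw [mul_assoc (u * f) u u, hu, mul_one]
      _ = f * u := by rw [hf, hmap, ← he', hue', hee.eq]
  by_cases hf1 : f = 1
  · exact B.conj_mem_eq_one hcase hu huN he (by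
      rw [← he', show e' = e⁻¹ from (inv_eq_of_mul_eq_one_right hf1).symm]
      exact (cent t).inv_mem he)
  set w := e * e'⁻¹ with hw
  have huw : u * w * u = w⁻¹ := by
    rw [hw, hmap, hinvmap, ← he', hue', mul_inv_rev, inv_inv]
  have hv2 : (u * w) * (u * w) = 1 := by
    rw [show u * w * (u * w) = (u * w * u) * w by group, huw, inv_mul_cancel]
  have hvf : Commute (u * w) f :=
    huf.mul_left ((((Commute.refl e).mul_right hee).mul_left
      ((hee.symm.mul_right (Commute.refl e')).inv_left)))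
  obtain ⟨g, hg⟩ := B.conj_exists hu fun h => huN (h ▸ (nrm t).one_mem)
  have h1 := B.cent_le hcase hg (mem_cent.2 huf.symm) hf1 (mem_cent.2 hvf)
  have h2 := B.sq_mem (by rw [show g * (u * w) * g⁻¹ * (g * (u * w) * g⁻¹) =
    g * ((u * w) * (u * w)) * g⁻¹ by group, hv2, mul_one, mul_inv_cancel]) h1
  rw [← hg, conj_mem_cent, mem_cent] at h2
  have hwu : u * w * u = w := by rw [h2.eq, ← mul_assoc, hu, one_mul]
  have hw2 : e * e = e' * e' := by
    have h3 : w * w = 1 := by
      nth_rw 1 [← hwu]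
      rw [huw, inv_mul_cancel]
    rw [hw, show e * e'⁻¹ * (e * e'⁻¹) = e * (e'⁻¹ * e) * e'⁻¹ by group, (hee.inv_right).symm.eq,
      show e * (e * e'⁻¹) * e'⁻¹ = (e * e) * (e' * e')⁻¹ by group, mul_inv_eq_one] at h3
    exact h3
  have he2 : e * e = 1 := B.conj_mem_eq_one hcase hu huN ((cent t).mul_mem he he) (by
    rw [hmap, ← he', ← hw2]; exact (cent t).mul_mem he he)
  exact B.conj_mem_eq_one hcase hu huN he (B.sq_mem (by rw [← hmap, he2, mul_one, hu]) hue)

/-- Every coset outside `N` contains involutions; the two-point stabiliser is inverted. -/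
theorem Base.fibres :
    (∀ u : G, u * u = 1 → u ∉ nrm t → ∀ d ∈ dd t u, u * d * u = d⁻¹) ∧
    (∀ u : G, u * u = 1 → u ∉ nrm t → ∀ n ∈ nrm t, ∃ d ∈ dd t u, n⁻¹ * d ∈ cent t) ∧
    ∀ x : G, x ∉ nrm t → ∃ v : G, v * v = 1 ∧ v ∉ nrm t ∧
      (QuotientGroup.mk v : G ⧸ nrm t) = QuotientGroup.mk x := by
  classical
  haveI := Fintype.ofFinite G
  set i := (cent t).relIndex (nrm t) with hi
  let O := {v : G // v * v = 1 ∧ v ∉ nrm t}
  haveI : Fintype (G ⧸ nrm t) := Fintype.ofFinite _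
  let p : O → G ⧸ nrm t := fun v => QuotientGroup.mk v.1
  set T : Finset (G ⧸ nrm t) := Finset.univ.erase (QuotientGroup.mk 1) with hT
  have hinv : ∀ v : O, v.1⁻¹ = v.1 := fun v => inv_eq_of_mul_eq_one_right v.2.1
  have hd : ∀ u : G, u * u = 1 → u ∉ nrm t →
      ∀ v : O, p v = QuotientGroup.mk u → u * v.1 ∈ dd t u := fun u hu huN v hv => by
    have h1 : u * v.1 ∈ nrm t := by
      have := QuotientGroup.eq.1 hv.symm
      rwa [inv_eq_of_mul_eq_one_right hu] at this
    refine (mem_dd hu huN).2 ⟨h1, ?_⟩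
    rw [show u * (u * v.1) * u = (u * u) * (v.1 * u) by group, hu, one_mul,
      show v.1 * u = (u * v.1)⁻¹ by rw [mul_inv_rev, hinv, inv_eq_of_mul_eq_one_right hu]]
    exact (nrm t).inv_mem h1
  let J : (u : G) → dd t u → nrm t ⧸ (cent t).subgroupOf (nrm t) :=
    fun u d => QuotientGroup.mk ⟨(d : G), d.2.1⟩
  have hJ : ∀ u : G, u * u = 1 → u ∉ nrm t → Function.Injective (J u) := fun u hu huN a b hab => by
    have h1 := QuotientGroup.eq.1 hab
    rw [Subgroup.mem_subgroupOf] at h1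
    refine Subtype.ext (inv_mul_eq_one.1 (B.semireg hcase hu huN h1 ?_))
    exact ((mem_dd hu huN).1 ((dd t u).mul_mem ((dd t u).inv_mem a.2) b.2)).2
  let K : (u : G) → (hu : u * u = 1) → (huN : u ∉ nrm t) →
      {v : O // p v = QuotientGroup.mk u} → dd t u := fun u hu huN v => ⟨u * v.1.1, hd u hu huN v.1 v.2⟩
  have hK : ∀ (u : G) (hu : u * u = 1) (huN : u ∉ nrm t), Function.Injective (K u hu huN) :=
    fun u hu huN a b hab => Subtype.ext (Subtype.ext (mul_left_cancel (congrArg Subtype.val hab)))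
  have hle : ∀ y ∈ T, (Finset.univ.filter fun v : O => p v = y).card ≤ i := by
    intro y _
    rcases (Finset.univ.filter fun v : O => p v = y).eq_empty_or_nonempty with h | ⟨w, hw⟩
    · rw [h]; simp
    have hy : y = QuotientGroup.mk w.1 := (Finset.mem_filter.1 hw).2.symm
    rw [← Fintype.card_subtype, ← Nat.card_eq_fintype_card, hy]
    exact Nat.card_le_card_of_injective (J w.1 ∘ K w.1 w.2.1 w.2.2)
      ((hJ _ w.2.1 w.2.2).comp (hK w.1 w.2.1 w.2.2))
  have hmap : ∀ v ∈ (Finset.univ : Finset O), p v ∈ T := fun v _ => by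
    refine Finset.mem_erase.2 ⟨fun h => v.2.2 ?_, Finset.mem_univ _⟩
    have := QuotientGroup.eq.1 h
    rwa [mul_one, (nrm t).inv_mem_iff] at this
  have hTc : T.card = (nrm t).index - 1 := by
    rw [hT, Finset.card_erase_of_mem (Finset.mem_univ _), Finset.card_univ, ← Nat.card_eq_fintype_card]
    rfl
  have hsum : ∑ y ∈ T, (Finset.univ.filter fun v : O => p v = y).card = ∑ y ∈ T, i := by
    rw [← Finset.card_eq_sum_card_fiberwise hmap, Finset.sum_const, hTc, smul_eq_mul,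
      Finset.card_univ, ← Nat.card_eq_fintype_card]
    have h := B.card_out
    rw [← hi] at h
    have h0 : 0 < (nrm t).index := Nat.pos_of_ne_zero Subgroup.index_ne_zero_of_finite
    rw [Nat.sub_mul, one_mul]
    show Nat.card {v : G // v * v = 1 ∧ v ∉ nrm t} = _
    omega
  have hall := (Finset.sum_eq_sum_iff_of_le hle).1 hsum
  have hbij : ∀ (u : G) (hu : u * u = 1) (huN : u ∉ nrm t),
      Function.Bijective (J u) ∧ Function.Surjective (K u hu huN) := by
    intro u hu huN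
    have hy : (QuotientGroup.mk u : G ⧸ nrm t) ∈ T := hmap ⟨u, hu, huN⟩ (Finset.mem_univ _)
    have hc : Nat.card {v : O // p v = QuotientGroup.mk u} = i := by
      rw [Nat.card_eq_fintype_card, Fintype.card_subtype]; exact hall _ hy
    have h1 := Nat.card_le_card_of_injective _ (hJ u hu huN)
    have h2 := Nat.card_le_card_of_injective _ (hK u hu huN)
    have hQ : Nat.card (nrm t ⧸ (cent t).subgroupOf (nrm t)) = i := rfl
    exact ⟨(Nat.bijective_iff_injective_and_card _).2 ⟨hJ u hu huN, by omega⟩,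
      ((Nat.bijective_iff_injective_and_card _).2 ⟨hK u hu huN, by omega⟩).2⟩
  refine ⟨fun u hu huN d hd' => ?_, fun u hu huN n hn => ?_, fun x hx => ?_⟩
  · obtain ⟨v, hv⟩ := (hbij u hu huN).2 ⟨d, hd'⟩
    have hv' : u * v.1.1 = d := congrArg Subtype.val hv
    rw [← hv', show u * (u * v.1.1) * u = (u * u) * (v.1.1 * u) by group, hu, one_mul, mul_inv_rev,
      hinv, inv_eq_of_mul_eq_one_right hu]
  · obtain ⟨d, hd'⟩ := (hbij u hu huN).1.2 (QuotientGroup.mk ⟨n, hn⟩)
    have h1 := QuotientGroup.eq.1 hd'.symm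
    rw [Subgroup.mem_subgroupOf] at h1
    exact ⟨d, d.2, h1⟩
  · have hy : (QuotientGroup.mk x : G ⧸ nrm t) ∈ T := Finset.mem_erase.2 ⟨fun h => hx (by
      have := QuotientGroup.eq.1 h
      rwa [mul_one, (nrm t).inv_mem_iff] at this), Finset.mem_univ _⟩
    have h2 : 0 < (Finset.univ.filter fun v : O => p v = QuotientGroup.mk x).card := by
      rw [hall _ hy]; have := B.two_le; omega
    obtain ⟨v, hv⟩ := Finset.card_pos.1 h2
    exact ⟨v.1, v.2.1, v.2.2, (Finset.mem_filter.1 hv).2⟩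

/-- `C(t)` is the centraliser of each of its non-identity elements. -/
theorem Base.self {a : G} (ha : a ∈ cent t) (ha1 : a ≠ 1) : cent a = cent t := by
  classical
  refine le_antisymm (fun k₀ hk₀ => ?_) fun x hx => mem_cent.2 (B.inv t B.t_sq B.t_ne x hx a ha)
  by_contra hk₀A
  have hk₀N := hcase a ha ha1 hk₀
  obtain ⟨hI, hsur, hcov⟩ := B.fibres hcase
  obtain ⟨x, hx⟩ : ∃ x : G, x ∉ nrm t := by
    by_contra h
    push Not at h
    exact B.ne_top (eq_top_iff.2 fun x _ => h x)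
  obtain ⟨u, hu, huN, -⟩ := hcov x hx
  obtain ⟨k, hk, hkA'⟩ := hsur u hu huN k₀ hk₀N
  have hka : Commute k a := by
    have h1 : Commute (k₀⁻¹ * k) a := B.inv t B.t_sq B.t_ne _ hkA' a ha
    have h2 : Commute k₀ a := mem_cent.1 hk₀
    simpa using h2.mul_left h1
  have hkA : k ∉ cent t := fun h => hk₀A (by
    simpa using (cent t).mul_mem h ((cent t).inv_mem hkA'))
  have hkN : k ∈ nrm t := hk.1
  have hk2 : k * k ≠ 1 := fun h => hkA (B.sq_mem h hkN)
  -- involutions inverting `k`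
  have hVN : ∀ v : G, v * v = 1 → v * k * v = k⁻¹ → v ∉ nrm t := fun v hv hvk hN => by
    have hvA := B.sq_mem hv hN
    have h1 : v * (k * v * k⁻¹) ∈ cent t := (cent t).mul_mem hvA (B.conj_mem hkN hvA)
    rw [show v * (k * v * k⁻¹) = (v * k * v) * k⁻¹ by group, hvk, ← mul_inv_rev] at h1
    exact hkA (B.mem_of_sq_mem hkN (by simpa using (cent t).inv_mem h1))
  have hfix : ∀ v : G, v * v = 1 → v * k * v = k⁻¹ → ∀ g : G, g * v * g⁻¹ = t →
      g * k * g⁻¹ ∈ nrm t := by
    intro v hv hvk g hg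
    obtain ⟨b, hbk, hbv, hb1⟩ : ∃ b ∈ cent k, Commute b v ∧ b ≠ 1 := by
      by_contra hno
      push Not at hno
      refine ha1 (B.conj_mem_eq_one hcase hv (hVN v hv hvk) ha ?_)
      rw [inverts_of_fpf hv (D := cent k) (fun b hb => ?_) (fun b hb hfb => hno b hb ?_) a
        (mem_cent.2 hka.symm)]
      · exact (cent t).inv_mem ha
      · have h1 : Commute (v * b * v⁻¹) (v * k * v⁻¹) := (Commute.conj_iff v).2 (mem_cent.1 hb)
        rw [inv_eq_of_mul_eq_one_right hv, hvk] at h1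
        exact mem_cent.2 (Commute.inv_right_iff.1 h1)
      · show b * v = v * b
        calc b * v = v * b * v * v := by rw [hfb]
          _ = v * b := by rw [mul_assoc (v * b), hv, mul_one]
    exact B.cent_le hcase hg (mem_cent.2 hbv) hb1 (mem_cent.2 (mem_cent.1 hbk).symm)
  haveI := Fintype.ofFinite G
  let Ω := G ⧸ nrm t
  haveI : Fintype Ω := Fintype.ofFinite Ω
  set a₀ : Ω := QuotientGroup.mk 1
  let V := Finset.univ.filter fun v : G => v * v = 1 ∧ v * k * v = k⁻¹
  set Φ : Finset Ω := Finset.univ.filter fun y => y ≠ a₀ ∧ k • y = y with hΦ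
  have hfixy : ∀ g : G, k • (QuotientGroup.mk g : Ω) = QuotientGroup.mk g ↔ g⁻¹ * k * g ∈ nrm t :=
    fun g => by
      show QuotientGroup.mk (k * g) = (QuotientGroup.mk g : Ω) ↔ _
      rw [QuotientGroup.eq, ← (nrm t).inv_mem_iff]
      simp [mul_assoc]
  have hne : ∀ g : G, (QuotientGroup.mk g : Ω) = a₀ ↔ g ∈ nrm t := fun g => by
    rw [QuotientGroup.eq, mul_one, (nrm t).inv_mem_iff]
  -- injective into the fixed points
  have hex : ∀ v ∈ V, ∃ g : G, g * v * g⁻¹ = t := fun v hv => by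
    obtain ⟨hv2, hvk⟩ := (Finset.mem_filter.1 hv).2
    exact B.conj_exists hv2 fun h => hVN v hv2 hvk (h ▸ (nrm t).one_mem)
  choose g hg using hex
  let ψ : V → Ω := fun v => QuotientGroup.mk (g v.1 v.2)⁻¹
  have hψ : ∀ v : V, ψ v ∈ Φ := fun v => by
    obtain ⟨hv2, hvk⟩ := (Finset.mem_filter.1 v.2).2
    refine Finset.mem_filter.2 ⟨Finset.mem_univ _, fun h => hVN v hv2 hvk ?_, ?_⟩
    · rw [hne, (nrm t).inv_mem_iff] at h
      refine cent_le_nrm t ?_
      have := B.conj_mem ((nrm t).inv_mem h) (mem_cent.2 (Commute.refl t))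
      rw [← hg v.1 v.2] at this ⊢
      simpa [mul_assoc] using this
    · rw [hfixy, inv_inv]
      exact hfix v hv2 hvk _ (hg v.1 v.2)
  have hψi : Function.Injective ψ := fun v w hvw => by
    obtain ⟨hv2, hvk⟩ := (Finset.mem_filter.1 v.2).2
    obtain ⟨hw2, hwk⟩ := (Finset.mem_filter.1 w.2).2
    have h1 := QuotientGroup.eq.1 hvw
    rw [inv_inv] at h1
    set g₁ := g v.1 v.2
    set g₂ := g w.1 w.2
    have hwA : g₁ * (w : G) * g₁⁻¹ ∈ cent t := by
      have := B.conj_mem h1 (mem_cent.2 (Commute.refl t))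
      rw [show g₁ * g₂⁻¹ * t * (g₁ * g₂⁻¹)⁻¹ = g₁ * (g₂⁻¹ * t * g₂) * g₁⁻¹ by group,
        show g₂⁻¹ * t * g₂ = w by rw [show t = g₂ * w * g₂⁻¹ from (hg w.1 w.2).symm]; group] at this
      exact this
    have hvw' : Commute (v : G) w := by
      rw [← hg v.1 v.2, conj_mem_cent, mem_cent] at hwA
      exact hwA.symm
    by_contra hne'
    have hz1 : (v : G) * w ≠ 1 := fun h => hne' (Subtype.ext (by
      rw [← inv_eq_of_mul_eq_one_right hw2]; exact mul_eq_one_iff_eq_inv.1 h))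
    have hz2 : (v : G) * w * (v * w) = 1 := by
      rw [show (v : G) * w * (v * w) = v * (w * v) * w by group, ← hvw'.eq,
        show (v : G) * (v * w) * w = (v * v) * (w * w) by group, hv2, hw2, mul_one]
    have hzk : Commute ((v : G) * w) k := by
      have e : (v : G) * w * k = k * ((v : G) * w) := by
        calc (v : G) * w * k = v * ((w : G) * k * w) * w := by
              rw [show (v : G) * (w * k * w) * w = v * w * k * (w * w) by group, hw2, mul_one]
          _ = v * k⁻¹ * w := by rw [hwk]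
          _ = v * ((v : G) * k * v) * w := by rw [hvk]
          _ = (v * v) * k * (v * w) := by group
          _ = k * ((v : G) * w) := by rw [hv2, one_mul]
      exact e
    refine hk2 ?_
    have hkv : Commute k (v : G) := B.inv _ hz2 hz1 k (mem_cent.2 hzk.symm) v
      (mem_cent.2 ((Commute.refl _).mul_right hvw'))
    have h4 : k = k⁻¹ := by
      calc k = v * v * k := by rw [hv2, one_mul]
        _ = (v : G) * k * v := by rw [mul_assoc (v : G) v k, mul_assoc (v : G) k v, hkv.eq]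
        _ = k⁻¹ := hvk
    nth_rw 1 [h4]
    exact inv_mul_cancel k
  -- at least `i` for each fixed point
  have hmap : ∀ v ∈ V, (QuotientGroup.mk v : Ω) ∈ Φ := fun v hv => by
    obtain ⟨hv2, hvk⟩ := (Finset.mem_filter.1 hv).2
    refine Finset.mem_filter.2 ⟨Finset.mem_univ _, fun h => hVN v hv2 hvk ((hne v).1 h), ?_⟩
    rw [hfixy, inv_eq_of_mul_eq_one_right hv2, hvk]
    exact (nrm t).inv_mem hkN
  have hge : ∀ y ∈ Φ, 2 ≤ (V.filter fun v => (QuotientGroup.mk v : Ω) = y).card := by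
    intro y hy
    obtain ⟨hy0, hyk⟩ := (Finset.mem_filter.1 hy).2
    obtain ⟨x, rfl⟩ := QuotientGroup.mk_surjective y
    obtain ⟨w, hw2, hwN, hwx⟩ := hcov x fun h => hy0 ((hne x).2 h)
    rw [← hwx, hfixy, inv_eq_of_mul_eq_one_right hw2] at hyk
    have hkd : k ∈ dd t w := (mem_dd hw2 hwN).2 ⟨hkN, hyk⟩
    have hwk := hI w hw2 hwN k hkd
    have hw' : w * k ≠ w := fun h => hkA (by rw [mul_eq_left] at h; rw [h]; exact (cent t).one_mem)
    refine le_trans (le_of_eq (Finset.card_pair hw').symm) (Finset.card_le_card ?_)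
    intro z hz
    rcases Finset.mem_insert.1 hz with h | h
    · subst h
      refine Finset.mem_filter.2 ⟨Finset.mem_filter.2 ⟨Finset.mem_univ _, ?_, ?_⟩, ?_⟩
      · rw [show w * k * (w * k) = (w * k * w) * k by group, hwk, inv_mul_cancel]
      · rw [show w * k * k * (w * k) = (w * k * w) * (w * k * w) * k by
          rw [show w * k * w * (w * k * w) * k = w * k * (w * w) * k * w * k by group, hw2]; group,
          hwk]
        group
      · rw [← hwx]
        refine QuotientGroup.eq.2 ?_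
        simpa [mul_assoc] using (nrm t).inv_mem hkN
    · rw [Finset.mem_singleton] at h
      subst h
      exact Finset.mem_filter.2 ⟨Finset.mem_filter.2 ⟨Finset.mem_univ _, hw2, hwk⟩, hwx⟩
  have hΦ1 : 0 < Φ.card := Finset.card_pos.2 ⟨_, hmap u (Finset.mem_filter.2
    ⟨Finset.mem_univ _, hu, hI u hu huN k hk⟩)⟩
  have hup : V.card ≤ Φ.card := Finset.card_le_card_of_injOn (fun v => if h : v ∈ V then ψ ⟨v, h⟩ else a₀)
    (fun v hv => by
      show (if h : v ∈ V then ψ ⟨v, h⟩ else a₀) ∈ Φ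
      rw [dif_pos (by exact hv)]; exact hψ _) fun v hv w hw h => by
      simp only [dif_pos (show v ∈ V from hv), dif_pos (show w ∈ V from hw)] at h
      exact congrArg Subtype.val (hψi h)
  have hlo : 2 * Φ.card ≤ V.card := by
    rw [Finset.card_eq_sum_card_fiberwise hmap, mul_comm, ← smul_eq_mul, ← Finset.sum_const]
    exact Finset.sum_le_sum hge
  omega

theorem Base.data : Data G t :=
  ⟨B.inv, fun _ ha ha1 => B.self hcase ha ha1, B.t_ne, B.t_sq, B.sylow, B.ne_top, fun he => by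
    have := B.two_le
    rw [show nrm t = cent t from he, Subgroup.relIndex_self] at this
    omega⟩

end

end Cfsg.Agent.CharDeep.CA
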