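import Mathlib

/-!
Commuting elements of `SL(2, F)` in characteristic two.
-/

set_option autoImplicit false

namespace Cfsg.Agent.CharDeep.CA

variable {F : Type*} [Field F] [CharP F 2]

open Matrix

theorem sl_two_prop {b x : SpecialLinearGroup (Fin 2) F} (hb : b ≠ 1) (h : Commute x b) :
    ∃ l : F, x.1 0 1 = l * b.1 0 1 ∧ x.1 1 0 = l * b.1 1 0 ∧
      x.1 1 1 + x.1 0 0 = l * (b.1 1 1 + b.1 0 0) := by
  have h2 : (2 : F) = 0 := CharTwo.two_eq_zero
  have hx : x.1 * b.1 = b.1 * x.1 := congrArg Subtype.val h.eq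
  have h00 := congrFun (congrFun hx 0) 0
  have h01 := congrFun (congrFun hx 0) 1
  have h10 := congrFun (congrFun hx 1) 0
  simp only [Matrix.mul_apply, Fin.sum_univ_two] at h00 h01 h10
  have g1 : x.1 0 1 * b.1 1 0 = b.1 0 1 * x.1 1 0 := by linear_combination h00
  have g2 : x.1 0 1 * (b.1 1 1 + b.1 0 0) = b.1 0 1 * (x.1 1 1 + x.1 0 0) := by
    linear_combination h01 + (x.1 0 1 * b.1 0 0 - b.1 0 1 * x.1 0 0) * h2
  have g3 : x.1 1 0 * (b.1 1 1 + b.1 0 0) = b.1 1 0 * (x.1 1 1 + x.1 0 0) := by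
    linear_combination -h10 + (x.1 1 0 * b.1 0 0 - b.1 1 0 * x.1 0 0) * h2
  have hcases : b.1 0 1 ≠ 0 ∨ b.1 1 0 ≠ 0 ∨ b.1 1 1 + b.1 0 0 ≠ 0 := by
    by_contra hno
    push Not at hno
    obtain ⟨e01, e10, e11⟩ := hno
    have he : b.1 1 1 = b.1 0 0 := by linear_combination e11 - b.1 0 0 * h2
    have hd := b.2
    rw [Matrix.det_fin_two, e01, e10, he] at hd
    have hsq : (b.1 0 0 - 1) * (b.1 0 0 - 1) = 0 := by
      linear_combination hd + (1 - b.1 0 0) * h2
    have e00 : b.1 0 0 = 1 := sub_eq_zero.1 (mul_self_eq_zero.1 hsq)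
    refine hb (Subtype.ext ?_)
    ext i j
    fin_cases i <;> fin_cases j <;> simp [e01, e10, e00, he]
  rcases hcases with hc | hc | hc
  · refine ⟨x.1 0 1 / b.1 0 1, ?_, ?_, ?_⟩ <;> field_simp
    · linear_combination -g1
    · linear_combination -g2
  · refine ⟨x.1 1 0 / b.1 1 0, ?_, ?_, ?_⟩ <;> field_simp
    · linear_combination g1
    · linear_combination -g3
  · refine ⟨(x.1 1 1 + x.1 0 0) / (b.1 1 1 + b.1 0 0), ?_, ?_, ?_⟩ <;> field_simp
    · linear_combination g2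
    · linear_combination g3

theorem sl_two_isCA {a b c : SpecialLinearGroup (Fin 2) F}
    (hb : b ≠ 1) (hab : Commute a b) (hbc : Commute b c) : Commute a c := by
  obtain ⟨l, la, la', la''⟩ := sl_two_prop hb hab
  obtain ⟨m, mc, mc', mc''⟩ := sl_two_prop hb hbc.symm
  have h2 : (2 : F) = 0 := CharTwo.two_eq_zero
  have e1 : a.1 0 1 * c.1 1 0 = a.1 1 0 * c.1 0 1 := by rw [la, la', mc, mc']; ring
  have e2 : a.1 0 1 * (c.1 1 1 + c.1 0 0) = c.1 0 1 * (a.1 1 1 + a.1 0 0) := by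
    rw [la, la'', mc, mc'']; ring
  have e3 : a.1 1 0 * (c.1 1 1 + c.1 0 0) = c.1 1 0 * (a.1 1 1 + a.1 0 0) := by
    rw [la', la'', mc', mc'']; ring
  refine Subtype.ext ?_
  show a.1 * c.1 = c.1 * a.1
  ext i j
  simp only [Matrix.mul_apply, Fin.sum_univ_two]
  fin_cases i <;> fin_cases j <;> simp only [Fin.zero_eta, Fin.mk_one]
  · linear_combination e1
  · linear_combination e2 + (a.1 0 0 * c.1 0 1 - a.1 0 1 * c.1 0 0) * h2
  · linear_combination e3 + (a.1 1 1 * c.1 1 0 - a.1 1 0 * c.1 1 1) * h2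
  · linear_combination -e1

theorem sl_two_sq {x : SpecialLinearGroup (Fin 2) F} : x * x = 1 ↔ x.1 1 1 + x.1 0 0 = 0 := by
  have h2 : (2 : F) = 0 := CharTwo.two_eq_zero
  have hd := x.2
  rw [Matrix.det_fin_two] at hd
  constructor
  · intro h
    have h' : x.1 * x.1 = 1 := congrArg Subtype.val h
    have h00 := congrFun (congrFun h' 0) 0
    have h11 := congrFun (congrFun h' 1) 1
    simp only [Matrix.mul_apply, Fin.sum_univ_two, Matrix.one_apply_eq] at h00 h11
    refine mul_self_eq_zero.1 ?_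
    linear_combination h00 + h11 + 2 * hd + (2 : F) * h2
  · intro h
    refine Subtype.ext ?_
    show x.1 * x.1 = 1
    ext i j
    simp only [Matrix.mul_apply, Fin.sum_univ_two]
    fin_cases i <;> fin_cases j
    · show x.1 0 0 * x.1 0 0 + x.1 0 1 * x.1 1 0 = 1
      linear_combination x.1 0 0 * h - hd + (-1 : F) * h2
    · show x.1 0 0 * x.1 0 1 + x.1 0 1 * x.1 1 1 = 0
      linear_combination x.1 0 1 * h
    · show x.1 1 0 * x.1 0 0 + x.1 1 1 * x.1 1 0 = 0
      linear_combination x.1 1 0 * h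
    · show x.1 1 0 * x.1 0 1 + x.1 1 1 * x.1 1 1 = 1
      linear_combination x.1 1 1 * h - hd + (-1 : F) * h2

theorem sl_two_sq_of_commute {b x : SpecialLinearGroup (Fin 2) F} (hb : b ≠ 1) (hb2 : b * b = 1)
    (h : Commute x b) : x * x = 1 := by
  obtain ⟨l, -, -, hl⟩ := sl_two_prop hb h
  rw [sl_two_sq, hl, sl_two_sq.1 hb2, mul_zero]

theorem sl_two_conj_eq {y z : SpecialLinearGroup (Fin 2) F} (hz : z * z ≠ 1)
    (h : Commute (y * z * y⁻¹) z) : y * z * y⁻¹ = z ∨ y * z * y⁻¹ = z⁻¹ := by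
  have h2 : (2 : F) = 0 := CharTwo.two_eq_zero
  have hz1 : z ≠ 1 := fun e => hz (by rw [e, one_mul])
  obtain ⟨l, l1, l2, l3⟩ := sl_two_prop hz1 h
  set w := y * z * y⁻¹ with hw
  have hwy : w * y = y * z := by rw [hw, inv_mul_cancel_right]
  have htr : w.1 1 1 + w.1 0 0 = z.1 1 1 + z.1 0 0 := by
    have hw' : w.1 * y.1 = y.1 * z.1 := congrArg Subtype.val hwy
    have h00 := congrFun (congrFun hw' 0) 0
    have h01 := congrFun (congrFun hw' 0) 1
    have h10 := congrFun (congrFun hw' 1) 0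
    have h11 := congrFun (congrFun hw' 1) 1
    have hd := y.2
    rw [Matrix.det_fin_two] at hd
    simp only [Matrix.mul_apply, Fin.sum_univ_two] at h00 h01 h10 h11
    linear_combination y.1 1 1 * h00 - y.1 1 0 * h01 - y.1 0 1 * h10 + y.1 0 0 * h11 -
      (w.1 1 1 + w.1 0 0 - z.1 1 1 - z.1 0 0) * hd
  have hτ : z.1 1 1 + z.1 0 0 ≠ 0 := fun e => hz (sl_two_sq.2 e)
  have hl : l = 1 := mul_right_cancel₀ hτ (by rw [← l3, htr, one_mul])
  rw [hl, one_mul] at l1 l2
  have hdw := w.2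
  have hdz := z.2
  rw [Matrix.det_fin_two] at hdw hdz
  rw [l1, l2] at hdw
  have hq : (w.1 0 0 - z.1 0 0) * (w.1 0 0 - z.1 1 1) = 0 := by
    linear_combination w.1 0 0 * htr - hdw + hdz
  rcases mul_eq_zero.1 hq with e | e <;> rw [sub_eq_zero] at e
  · left
    refine Subtype.ext ?_
    ext i j
    fin_cases i <;> fin_cases j
    · exact e
    · exact l1
    · exact l2
    · show w.1 1 1 = z.1 1 1
      linear_combination htr - e
  · right
    refine Subtype.ext ?_
    rw [Matrix.SpecialLinearGroup.coe_inv, Matrix.adjugate_fin_two]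
    ext i j
    fin_cases i <;> fin_cases j
    · exact e
    · show w.1 0 1 = -z.1 0 1
      linear_combination l1 + z.1 0 1 * h2
    · show w.1 1 0 = -z.1 1 0
      linear_combination l2 + z.1 1 0 * h2
    · show w.1 1 1 = z.1 0 0
      linear_combination htr - e

end Cfsg.Agent.CharDeep.CA
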