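import Cfsg.Agent.CharDeep.CA.AbInvol
import Cfsg.Agent.CharDeep.CA.SLTwo
import Cfsg.Agent.Lib.LinearGroup.Card

/-!
Abelian centralisers of involutions: no proper subgroup `SL(2, q) × T` contains the centraliser of
an involution and the centralisers of the non-identity elements of `T`.
-/

set_option autoImplicit false

namespace Cfsg.Agent.CharDeep.CA

open Matrix

theorem card_commute_sl_two_le {F : Type*} [Field F] [Finite F] [CharP F 2]
    {b : SpecialLinearGroup (Fin 2) F} (hb : b ≠ 1) :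
    Nat.card {x : SpecialLinearGroup (Fin 2) F // Commute x b} ≤ 2 * Nat.card F := by
  classical
  haveI := Fintype.ofFinite F
  haveI := Fintype.ofFinite (SpecialLinearGroup (Fin 2) F)
  rw [Nat.card_eq_fintype_card, Fintype.card_subtype, Nat.card_eq_fintype_card]
  have h : ∀ x : SpecialLinearGroup (Fin 2) F, ∃ l : F, Commute x b → x.1 0 1 = l * b.1 0 1 ∧
      x.1 1 0 = l * b.1 1 0 ∧ x.1 1 1 + x.1 0 0 = l * (b.1 1 1 + b.1 0 0) := fun x => by
    by_cases hx : Commute x b
    · obtain ⟨l, hl⟩ := sl_two_prop hb hx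
      exact ⟨l, fun _ => hl⟩
    · exact ⟨0, fun h => absurd h hx⟩
  choose L hL using h
  refine Finset.card_le_mul_card_image_of_maps_to (f := L) (fun x _ => Finset.mem_univ _) 2 fun l _ => ?_
  by_contra hgt
  push Not at hgt
  obtain ⟨x, hx, y, hy, z, hz, hxy, hxz, hyz⟩ := Finset.two_lt_card.1 hgt
  simp only [Finset.mem_filter, Finset.mem_univ, true_and] at hx hy hz
  have key : ∀ x y : SpecialLinearGroup (Fin 2) F, Commute x b → Commute y b → L x = l → L y = l →
      x ≠ y → x.1 0 0 + y.1 0 0 = l * (b.1 1 1 + b.1 0 0) := by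
    intro x y hx hy hxl hyl hne
    obtain ⟨a1, a2, a3⟩ := hL x hx
    obtain ⟨c1, c2, c3⟩ := hL y hy
    rw [hxl] at a1 a2 a3
    rw [hyl] at c1 c2 c3
    have hdx := x.2
    have hdy := y.2
    rw [Matrix.det_fin_two, a1, a2] at hdx
    rw [Matrix.det_fin_two, c1, c2] at hdy
    have hq : (x.1 0 0 - y.1 0 0) * (l * (b.1 1 1 + b.1 0 0) - x.1 0 0 - y.1 0 0) = 0 := by
      linear_combination hdx - hdy - x.1 0 0 * a3 + y.1 0 0 * c3
    rcases mul_eq_zero.1 hq with e | e
    · exfalso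
      rw [sub_eq_zero] at e
      refine hne (Subtype.ext ?_)
      ext i j
      fin_cases i <;> fin_cases j
      · exact e
      · exact a1.trans c1.symm
      · exact a2.trans c2.symm
      · show x.1 1 1 = y.1 1 1
        linear_combination a3 - c3 - e
    · linear_combination -e
  refine hyz (Subtype.ext ?_)
  have e1 := key x y hx.1 hy.1 hx.2 hy.2 hxy
  have e2 := key x z hx.1 hz.1 hx.2 hz.2 hxz
  have e00 : y.1 0 0 = z.1 0 0 := by linear_combination e1 - e2
  obtain ⟨a1, a2, a3⟩ := hL y hy.1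
  obtain ⟨c1, c2, c3⟩ := hL z hz.1
  rw [hy.2] at a1 a2 a3
  rw [hz.2] at c1 c2 c3
  ext i j
  fin_cases i <;> fin_cases j
  · exact e00
  · exact a1.trans c1.symm
  · exact a2.trans c2.symm
  · show y.1 1 1 = z.1 1 1
    linear_combination a3 - c3 - e00

theorem card_invol_sl_two_ge {F : Type*} [Field F] [Finite F] [CharP F 2] :
    Nat.card F * (Nat.card F - 1) ≤
      Nat.card {x : SpecialLinearGroup (Fin 2) F // x * x = 1 ∧ x ≠ 1} := by
  rw [← Nat.card_units, ← Nat.card_prod]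
  have h2 : (2 : F) = 0 := CharTwo.two_eq_zero
  let f : F × Fˣ → {x : SpecialLinearGroup (Fin 2) F // x * x = 1 ∧ x ≠ 1} := fun p =>
    ⟨⟨!![p.1, (p.2 : F); (1 + p.1 * p.1) * ((p.2⁻¹ : Fˣ) : F), p.1], by
      rw [Matrix.det_fin_two_of]
      have := Units.mul_inv p.2
      linear_combination -(1 + p.1 * p.1) * this - h2⟩,
    sl_two_sq.2 (by
      show p.1 + p.1 = 0
      linear_combination p.1 * h2),
    fun h => p.2.ne_zero (by
      have := congrFun (congrFun (congrArg Subtype.val h) 0) 1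
      simpa using this)⟩
  refine Nat.card_le_card_of_injective f fun p q h => ?_
  have h' : !![p.1, (p.2 : F); (1 + p.1 * p.1) * ((p.2⁻¹ : Fˣ) : F), p.1] =
      !![q.1, (q.2 : F); (1 + q.1 * q.1) * ((q.2⁻¹ : Fˣ) : F), q.1] :=
    congrArg (fun x : {x : SpecialLinearGroup (Fin 2) F // x * x = 1 ∧ x ≠ 1} => x.1.1) h
  exact Prod.ext (congrFun (congrFun h' 0) 0) (Units.ext (congrFun (congrFun h' 0) 1))

variable {G : Type*} [Group G] [Finite G]

theorem false_of_product (hinv : AbInv G) {M : Subgroup G} {F : Type*} [Field F] [Finite F] [CharP F 2]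
    {f : ℕ} (hf : Nat.card F = 2 ^ f) (hf2 : 2 ≤ f) {Bt : Type*} [CommGroup Bt] [Finite Bt]
    (hBt : Odd (Nat.card Bt)) [Nontrivial Bt]
    (e : M ≃* SpecialLinearGroup (Fin 2) F × Bt) (hM : M ≠ ⊤)
    (hcent : ∀ b : Bt, b ≠ 1 → cent ((e.symm (1, b) : M) : G) ≤ M)
    (hnorm : ∀ g : G, (∀ b : Bt, ∃ b' : Bt, g * ((e.symm (1, b) : M) : G) * g⁻¹ = e.symm (1, b')) →
      g ∈ M) : False := by
  classical
  haveI := Fintype.ofFinite G
  let ι : Bt → G := fun b => ((e.symm (1, b) : M) : G)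
  let inT : G → Prop := fun g => ∃ b, ι b = g
  have hι1 : ι 1 = 1 := by
    show ((e.symm (1, 1) : M) : G) = 1
    rw [show ((1, 1) : SpecialLinearGroup (Fin 2) F × Bt) = 1 from rfl, map_one]
    rfl
  have hιne : ∀ b, b ≠ 1 → ι b ≠ 1 := fun b hb h => hb (by
    have h' : e.symm (1, b) = 1 := Subtype.ext h
    exact congrArg Prod.snd (e.symm.injective (h'.trans e.symm.map_one.symm)))
  have hιM : ∀ b, ι b ∈ M := fun b => (e.symm (1, b)).2
  have hcomm : ∀ b, ∀ m ∈ M, Commute m (ι b) := fun b m hm => by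
    have h : Commute (⟨m, hm⟩ : M) (e.symm (1, b)) := e.injective (by
      rw [map_mul, map_mul, MulEquiv.apply_symm_apply]
      exact Prod.ext (by simp) (mul_comm _ _))
    exact h.map M.subtype
  have hπ : ∀ m (hm : m ∈ M), (e ⟨m, hm⟩).1 = 1 → inT m := fun m hm h => ⟨(e ⟨m, hm⟩).2, by
    have : ((1, (e ⟨m, hm⟩).2) : SpecialLinearGroup (Fin 2) F × Bt) = e ⟨m, hm⟩ := Prod.ext h.symm rfl
    show ((e.symm (1, (e ⟨m, hm⟩).2) : M) : G) = m
    rw [this, MulEquiv.symm_apply_apply]⟩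
  have hoddι : ∀ b, Odd (orderOf (ι b)) := fun b => by
    have h1 : orderOf (ι b) ∣ Nat.card Bt := by
      refine orderOf_dvd_of_pow_eq_one ?_
      show ((e.symm (1, b) : M) : G) ^ Nat.card Bt = 1
      rw [← SubgroupClass.coe_pow, ← map_pow, Prod.pow_mk, one_pow, pow_card_eq_one',
        show ((1, 1) : SpecialLinearGroup (Fin 2) F × Bt) = 1 from rfl, map_one]
      rfl
    exact hBt.of_dvd_nat h1
  obtain ⟨b₀, hb₀⟩ := exists_ne (1 : Bt)
  -- centralisers of the involutions of `M`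
  have hcs : ∀ s ∈ M, s * s = 1 → s ≠ 1 → ∀ x, Commute x s → x ∈ M := fun s hs hs2 hs1 x hx =>
    hcent b₀ hb₀ (mem_cent.2 (hinv s hs2 hs1 x (mem_cent.2 hx) (ι b₀)
      (mem_cent.2 (hcomm b₀ s hs).symm)))
  have hconj : ∀ g s : G, s ∈ M → s * s = 1 → s ≠ 1 → g * s * g⁻¹ ∈ M → g ∈ M := by
    intro g s hs hs2 hs1 hgs
    set s' := g * s * g⁻¹ with hs'
    have hs2' : s' * s' = 1 := by
      rw [hs', show g * s * g⁻¹ * (g * s * g⁻¹) = g * (s * s) * g⁻¹ by group, hs2, mul_one,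
        mul_inv_cancel]
    have hs1' : s' ≠ 1 := by rw [hs']; simpa using hs1
    refine hnorm g fun b => ?_
    set x := g * ι b * g⁻¹ with hx
    have hxs : Commute x s' := (Commute.conj_iff g).2 (hcomm b s hs).symm
    have hxM := hcs s' hgs hs2' hs1' x hxs
    obtain ⟨b', hb'⟩ := hπ x hxM (by
      set p := (e ⟨x, hxM⟩).1 with hp
      set q := (e ⟨s', hgs⟩).1 with hq
      have hpq : Commute p q := by
        have h : Commute (⟨x, hxM⟩ : M) ⟨s', hgs⟩ := Subtype.ext hxs.eq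
        exact congrArg Prod.fst (h.map e.toMonoidHom).eq
      have hq2 : q * q = 1 := by
        have h := congrArg Prod.fst ((map_mul e (⟨s', hgs⟩ : M) ⟨s', hgs⟩).symm.trans
          (by rw [show (⟨s', hgs⟩ : M) * ⟨s', hgs⟩ = 1 from Subtype.ext hs2', map_one]))
        exact h
      have hq1 : q ≠ 1 := fun h => by
        obtain ⟨c, hc⟩ := hπ s' hgs h
        have h2 : orderOf s' = 2 := orderOf_eq_prime (by rw [pow_two, hs2']) hs1'
        have := hoddι c
        rw [hc, h2] at this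
        exact absurd this (by decide)
      have hp2 : orderOf p ∣ 2 := orderOf_dvd_of_pow_eq_one (by
        rw [pow_two]; exact sl_two_sq_of_commute hq1 hq2 hpq)
      have hodd : orderOf p ∣ orderOf x := by
        refine orderOf_dvd_of_pow_eq_one ?_
        have h : (⟨x, hxM⟩ : M) ^ orderOf x = 1 := Subtype.ext (pow_orderOf_eq_one x)
        rw [show p = (e ⟨x, hxM⟩).1 from hp, ← Prod.pow_fst, ← map_pow, h, map_one]
        rfl
      have hxodd : Odd (orderOf x) := by
        rw [hx, show g * ι b * g⁻¹ = MulAut.conj g (ι b) from rfl, MulEquiv.orderOf_eq]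
        exact hoddι b
      rcases (Nat.dvd_prime Nat.prime_two).1 hp2 with h | h
      · exact orderOf_eq_one_iff.1 h
      · rw [h] at hodd
        exact absurd (even_iff_two_dvd.2 hodd) (Nat.not_even_iff_odd.2 hxodd))
    exact ⟨b', hb'.symm⟩
  set q := Nat.card F with hqdef
  have hq4 : 4 ≤ q := by
    rw [hf]
    exact le_trans (by norm_num) (Nat.pow_le_pow_right (by norm_num) hf2)
  set m := q * (q - 1) with hm
  -- the involutions outside `M`
  let IM := {s : G // s ∈ M ∧ s * s = 1 ∧ s ≠ 1}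
  have hIM : m ≤ Nat.card IM := by
    refine le_trans card_invol_sl_two_ge (Nat.card_le_card_of_injective
      (fun x => (⟨(e.symm (x.1, 1) : M), (e.symm (x.1, 1)).2, ?_, ?_⟩ : IM)) fun x y h => ?_)
    · rw [← Subgroup.coe_mul, ← map_mul, Prod.mk_mul_mk, x.2.1, one_mul,
        show ((1, 1) : SpecialLinearGroup (Fin 2) F × Bt) = 1 from rfl, map_one]
      rfl
    · intro h
      have h' : e.symm (x.1, (1 : Bt)) = 1 := Subtype.ext h
      exact x.2.2 (congrArg Prod.fst (e.symm.injective (h'.trans e.symm.map_one.symm)))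
    · have h' : ((e.symm (x.1, (1 : Bt)) : M) : G) = (e.symm (y.1, (1 : Bt)) : M) := congrArg (fun z : IM => (z : G)) h
      exact Subtype.ext (congrArg Prod.fst (e.symm.injective (Subtype.ext h')))
  let O := {v : G // v * v = 1 ∧ v ∉ M}
  haveI : Fintype (G ⧸ M) := Fintype.ofFinite _
  set Tc : Finset (G ⧸ M) := Finset.univ.erase (QuotientGroup.mk 1) with hTc
  have hO : Tc.card * m ≤ Fintype.card O := by
    refine le_trans (Nat.mul_le_mul_left _ hIM) ?_
    rw [← Fintype.card_coe Tc, ← Nat.card_eq_fintype_card, ← Nat.card_prod, ← Nat.card_eq_fintype_card]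
    have hout : ∀ p : Tc × IM, p.1.1.out * p.2.1 * p.1.1.out⁻¹ ∉ M := fun p h => by
      have h1 := hconj _ _ p.2.2.1 p.2.2.2.1 p.2.2.2.2 h
      refine (Finset.mem_erase.1 p.1.2).1 ?_
      rw [← p.1.1.out_eq', QuotientGroup.eq, mul_one]
      exact M.inv_mem h1
    refine Nat.card_le_card_of_injective (fun p => (⟨p.1.1.out * p.2.1 * p.1.1.out⁻¹,
      by rw [show p.1.1.out * p.2.1 * p.1.1.out⁻¹ * (p.1.1.out * p.2.1 * p.1.1.out⁻¹) =
        p.1.1.out * (p.2.1 * p.2.1) * p.1.1.out⁻¹ by group, p.2.2.2.1, mul_one, mul_inv_cancel],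
      hout p⟩ : O)) ?_
    rintro ⟨⟨y, hy⟩, s⟩ ⟨⟨z, hz⟩, r⟩ h
    have h' : y.out * s.1 * y.out⁻¹ = z.out * r.1 * z.out⁻¹ := congrArg Subtype.val h
    have hyz : z.out⁻¹ * y.out ∈ M := hconj _ _ s.2.1 s.2.2.1 s.2.2.2 (by
      rw [show z.out⁻¹ * y.out * s.1 * (z.out⁻¹ * y.out)⁻¹ = z.out⁻¹ * (y.out * s.1 * y.out⁻¹) * z.out
        by group, h']
      simpa [mul_assoc] using r.2.1)
    have : z = y := by rw [← y.out_eq', ← z.out_eq', QuotientGroup.eq]; exact hyz
    subst this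
    simp only [mul_left_inj, mul_right_inj] at h'
    rw [Subtype.ext h']
  obtain ⟨x, hx⟩ : ∃ x, x ∉ M := by
    by_contra h
    push Not at h
    exact hM (eq_top_iff.2 fun x _ => h x)
  have hTne : Tc.Nonempty := ⟨QuotientGroup.mk x, Finset.mem_erase.2 ⟨fun h => hx (by
    have := QuotientGroup.eq.1 h
    rwa [mul_one, M.inv_mem_iff] at this), Finset.mem_univ _⟩⟩
  obtain ⟨y, hy, hyc⟩ := Finset.exists_le_card_fiber_of_mul_le_card_of_maps_to
    (f := fun v : O => (QuotientGroup.mk v.1 : G ⧸ M)) (s := Finset.univ)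
    (fun v _ => Finset.mem_erase.2 ⟨fun h => v.2.2 (by
      have := QuotientGroup.eq.1 h
      rwa [mul_one, M.inv_mem_iff] at this), Finset.mem_univ _⟩) hTne
    (by rw [Finset.card_univ]; exact hO)
  obtain ⟨w, hw⟩ := Finset.card_pos.1 (lt_of_lt_of_le (by
    rw [hm]; exact Nat.mul_pos (by omega) (by omega)) hyc)
  obtain ⟨u, hu, huM⟩ := w
  have hwy : (QuotientGroup.mk u : G ⧸ M) = y := (Finset.mem_filter.1 hw).2
  have huinv : u⁻¹ = u := inv_eq_of_mul_eq_one_right hu
  have hu1 : ∀ a : G, u * (u * a * u) * u = a := fun a => by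
    rw [show u * (u * a * u) * u = (u * u) * a * (u * u) by group, hu, one_mul, mul_one]
  -- `T` meets its conjugate trivially
  have hTT : ∀ a, inT a → inT (u * a * u) → a = 1 := by
    rintro a ⟨b, rfl⟩ ⟨c, hc⟩
    by_contra hb
    have hb1 : b ≠ 1 := fun h => hb (h ▸ hι1)
    have hc1 : c ≠ 1 := fun h => hb (by rw [← hu1 (ι b), ← hc, h, hι1, mul_one, hu])
    refine huM (hnorm u fun b' => ?_)
    have hin : ∀ m ∈ M, u * m * u⁻¹ ∈ M := fun m hm => hcent c hc1 (mem_cent.2 (by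
      show Commute _ (ι c)
      rw [hc, show u * ι b * u = u * ι b * u⁻¹ by rw [huinv]]
      exact (Commute.conj_iff u).2 (hcomm b m hm)))
    have hxM := hin _ (hιM b')
    obtain ⟨d, hd⟩ := hπ _ hxM (by
      rw [← Subgroup.mem_bot, ← OrderP.center_sl_two_eq_bot, Subgroup.mem_center_iff]
      intro r
      have h1 : Commute (e.symm (r, 1) : M) ⟨_, hxM⟩ := by
        refine Subtype.ext (Commute.eq ?_)
        have h2 := hin _ (e.symm (r, (1 : Bt))).2
        have h3 := (Commute.conj_iff u).2 (hcomm b' _ h2)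
        rw [huinv, hu1] at h3
        show Commute ((e.symm (r, (1 : Bt)) : M) : G) (u * ι b' * u⁻¹)
        rw [huinv]
        exact h3
      have h4 := congrArg Prod.fst (h1.map e.toMonoidHom).eq
      simpa using h4)
    exact ⟨d, hd.symm⟩
  -- `D = M ∩ uMu`
  set D : Subgroup G := M ⊓ M.map (MulAut.conj u).toMonoidHom with hD
  have hmemD : ∀ a, a ∈ D ↔ a ∈ M ∧ u * a * u ∈ M := fun a => by
    refine ⟨?_, fun ⟨h1, h2⟩ => ⟨h1, u * a * u, h2, ?_⟩⟩
    · rintro ⟨h1, c, hc, rfl⟩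
      refine ⟨h1, ?_⟩
      simp only [MulEquiv.coe_toMonoidHom, MulAut.conj_apply, huinv, hu1]
      exact hc
    · simp only [MulEquiv.coe_toMonoidHom, MulAut.conj_apply, huinv, hu1]
  have hDodd : Odd (Nat.card D) := by
    by_contra he
    haveI : Fact (Nat.Prime 2) := ⟨Nat.prime_two⟩
    obtain ⟨s, hs⟩ := exists_prime_orderOf_dvd_card' (G := D) 2
      (even_iff_two_dvd.1 (Nat.not_odd_iff_even.1 he))
    have hso : orderOf (s : G) = 2 := by rw [Subgroup.orderOf_coe, hs]
    refine huM (hconj u s ((hmemD _).1 s.2).1 ?_ ?_ (by rw [huinv]; exact ((hmemD _).1 s.2).2))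
    · rw [← pow_two, ← hso, pow_orderOf_eq_one]
    · intro h; rw [h, orderOf_one] at hso; norm_num at hso
  let π : D →* SpecialLinearGroup (Fin 2) F :=
    (MonoidHom.fst _ _).comp (e.toMonoidHom.comp (Subgroup.inclusion (inf_le_left : D ≤ M)))
  have hker : ∀ d : D, π d = 1 → inT (d : G) := fun d h => hπ _ ((hmemD _).1 d.2).1 h
  set I := Finset.univ.filter fun d : D => u * (d : G) * u = (d : G)⁻¹ with hIdef
  have hI : m ≤ I.card := by
    refine le_trans hyc (Finset.card_le_card_of_injOn (fun v : O =>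
      if h : u * v.1 ∈ D then (⟨u * v.1, h⟩ : D) else 1) ?_ ?_)
    all_goals
      have hmem : ∀ v ∈ (Finset.univ.filter fun v : O => (QuotientGroup.mk v.1 : G ⧸ M) = y),
          u * v.1 ∈ D ∧ u * (u * v.1) * u = (u * v.1)⁻¹ := fun v hv => by
        have h1 : u * v.1 ∈ M := by
          have := QuotientGroup.eq.1 (hwy.trans (Finset.mem_filter.1 hv).2.symm)
          rwa [huinv] at this
        have h2 : u * (u * v.1) * u = (u * v.1)⁻¹ := by
          rw [_root_.mul_inv_rev, huinv, inv_eq_of_mul_eq_one_right v.2.1,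
            show u * (u * v.1) * u = (u * u) * (v.1 * u) by group, hu, one_mul]
        exact ⟨(hmemD _).2 ⟨h1, h2 ▸ M.inv_mem h1⟩, h2⟩
    · intro v hv
      show (if h : u * v.1 ∈ D then (⟨u * v.1, h⟩ : D) else 1) ∈ I
      rw [dif_pos (hmem v hv).1]
      exact Finset.mem_filter.2 ⟨Finset.mem_univ _, (hmem v hv).2⟩
    · intro v hv v' hv' h
      simp only [dif_pos (hmem v hv).1, dif_pos (hmem v' hv').1] at h
      exact Subtype.ext (mul_left_cancel (congrArg Subtype.val h))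
  have hIinj : ∀ a ∈ I, ∀ b ∈ I, π a = π b → a = b := by
    intro a ha b hb hab
    have ha' : u * (a : G) * u = (a : G)⁻¹ := (Finset.mem_filter.1 ha).2
    have hb' : u * (b : G) * u = (b : G)⁻¹ := (Finset.mem_filter.1 hb).2
    obtain ⟨c, hc⟩ := hker (a⁻¹ * b) (by rw [map_mul, map_inv, hab, inv_mul_cancel])
    refine inv_mul_eq_one.1 (Subtype.ext (hTT _ ⟨c, hc⟩ ⟨c⁻¹, ?_⟩))
    have h1 : u * ((a⁻¹ * b : D) : G) * u = (a : G) * (b : G)⁻¹ := by
      calc u * ((a⁻¹ * b : D) : G) * u = (u * (a : G)⁻¹ * u) * (u * b * u) := by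
            rw [show u * (a : G)⁻¹ * u * (u * b * u) = u * (a : G)⁻¹ * (u * u) * b * u by group, hu,
              mul_one, Subgroup.coe_mul, Subgroup.coe_inv]
            group
        _ = (a : G) * (b : G)⁻¹ := by
            rw [hb', show u * (a : G)⁻¹ * u = (u * (a : G) * u)⁻¹ by
              simp only [_root_.mul_inv_rev, huinv, mul_assoc], ha', inv_inv]
    have h2 : (b : G) = a * ι c := by
      rw [hc, Subgroup.coe_mul, Subgroup.coe_inv, mul_inv_cancel_left]
    rw [h1, h2, _root_.mul_inv_rev, ← mul_assoc, ((hcomm c _ ((hmemD _).1 a.2).1).inv_right).eq, mul_assoc,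
      mul_inv_cancel, mul_one]
    show ((e.symm (1, c⁻¹) : M) : G) = ((e.symm (1, c) : M) : G)⁻¹
    rw [← Subgroup.coe_inv, ← map_inv]
    congr 2
    exact Prod.ext (by simp) rfl
  -- a bound when the image centralises a non-identity element
  have hbound : ∀ z : SpecialLinearGroup (Fin 2) F, z ≠ 1 → (∀ d ∈ I, Commute (π d) z) → False := by
    intro z hz hd
    haveI := Fintype.ofFinite (SpecialLinearGroup (Fin 2) F)
    have h1 : I.card ≤ Fintype.card {x : SpecialLinearGroup (Fin 2) F // Commute x z} := by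
      rw [Fintype.card_subtype]
      exact Finset.card_le_card_of_injOn π (fun d hd' => Finset.mem_filter.2 ⟨Finset.mem_univ _, hd d hd'⟩)
        hIinj
    rw [← Nat.card_eq_fintype_card] at h1
    have h2 := le_trans hI (le_trans h1 (card_commute_sl_two_le hz))
    rw [hm, ← hqdef, mul_comm 2 q] at h2
    have := Nat.le_of_mul_le_mul_left h2 (by omega)
    omega
  by_cases hA : ∃ a : D, a ≠ 1 ∧ inT (a : G)
  · obtain ⟨a, ha1, b, hb⟩ := hA
    have hud : u * (a : G) * u ∈ D :=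
      (hmemD _).2 ⟨((hmemD _).1 a.2).2, by rw [hu1]; exact ((hmemD _).1 a.2).1⟩
    refine hbound (π ⟨_, hud⟩) (fun h => ha1 (Subtype.ext (hTT _ ⟨b, hb⟩ (hker _ h)))) fun d _ => ?_
    refine Commute.map (Subtype.ext ?_) π
    show (d : G) * (u * a * u) = u * a * u * d
    have h1 : Commute (u * (d : G) * u) (a : G) := hb ▸ hcomm b _ ((hmemD _).1 d.2).2
    have h2 := (Commute.conj_iff u).2 h1
    rw [huinv, hu1] at h2
    exact h2.eq
  push Not at hA
  have hπi : Function.Injective π := (injective_iff_map_eq_one π).2 fun d hd => by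
    by_contra h
    exact hA d h (hker d hd)
  by_cases hF : ∀ d ∈ D, u * d * u = d → d = 1
  · have habel := inverts_of_fpf hu (fun d hd =>
      (hmemD _).2 ⟨((hmemD _).1 hd).2, by rw [hu1]; exact ((hmemD _).1 hd).1⟩) hF
    obtain ⟨d₀, -, hd₀⟩ : ∃ d₀ ∈ I, d₀ ≠ 1 := by
      by_contra h
      push Not at h
      have : I.card ≤ ({1} : Finset D).card :=
        Finset.card_le_card fun d hd => Finset.mem_singleton.2 (h d hd)
      rw [Finset.card_singleton] at this
      have h' : 2 ≤ m := by rw [hm]; nlinarith [Nat.sub_add_cancel (by omega : 1 ≤ q)]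
      omega
    refine hbound (π d₀) (fun h => hd₀ (hπi (h.trans (map_one π).symm))) fun d _ => ?_
    refine Commute.map (Subtype.ext ?_) π
    show (d : G) * d₀ = d₀ * d
    have h3 := habel _ (D.mul_mem d.2 d₀.2)
    rw [show u * ((d : G) * d₀) * u = (u * d * u) * (u * d₀ * u) by
      rw [show u * (d : G) * u * (u * d₀ * u) = u * d * (u * u) * d₀ * u by group, hu, mul_one]; group,
      habel _ d.2, habel _ d₀.2, ← _root_.mul_inv_rev (d₀ : G) (d : G), _root_.inv_inj] at h3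
    exact h3.symm
  push Not at hF
  obtain ⟨c, hcD, hcu, hc1⟩ := hF
  set c' : D := ⟨c, hcD⟩
  have hodd : ∀ d : D, Odd (orderOf d) := fun d => hDodd.of_dvd_nat (orderOf_dvd_natCard d)
  have hc3 : 3 ≤ orderOf c' := by
    obtain ⟨k, hk⟩ := hodd c'
    have : orderOf c' ≠ 1 := fun h => hc1 (congrArg Subtype.val (orderOf_eq_one_iff.1 h))
    omega
  let r : D → D := fun d => d ^ ((orderOf d + 1) / 2)
  have hr : ∀ d, r d * r d = d := fun d => by
    obtain ⟨k, hk⟩ := hodd d
    show d ^ ((orderOf d + 1) / 2) * d ^ ((orderOf d + 1) / 2) = d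
    rw [← pow_add, show (orderOf d + 1) / 2 + (orderOf d + 1) / 2 = orderOf d + 1 by omega, pow_succ,
      pow_orderOf_eq_one, one_mul]
  let Φ : Fin 3 × I → D := fun p => c' ^ (p.1 : ℕ) * r p.2.1
  let τ : D → G := fun d => (d : G)⁻¹ * (u * d * u)
  have hconjpow : ∀ (a : G) (n : ℕ), u * a ^ n * u = (u * a * u) ^ n := fun a n => by
    conv_lhs => rw [show u * a ^ n * u = u * a ^ n * u⁻¹ by rw [huinv]]
    rw [← conj_pow, huinv]
  have hτ : ∀ p, τ (Φ p) = (p.2.1 : G)⁻¹ := fun p => by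
    have h1 : u * (p.2.1 : G) * u = (p.2.1 : G)⁻¹ := (Finset.mem_filter.1 p.2.2).2
    have h2 : u * (r p.2.1 : G) * u = (r p.2.1 : G)⁻¹ := by
      show u * ((p.2.1 ^ _ : D) : G) * u = ((p.2.1 ^ _ : D) : G)⁻¹
      rw [SubgroupClass.coe_pow, hconjpow, h1, inv_pow]
    show ((c' ^ (p.1 : ℕ) * r p.2.1 : D) : G)⁻¹ * (u * ((c' ^ (p.1 : ℕ) * r p.2.1 : D) : G) * u) = _
    rw [Subgroup.coe_mul, SubgroupClass.coe_pow,
      show u * (c ^ (p.1 : ℕ) * (r p.2.1 : G)) * u = (u * c ^ (p.1 : ℕ) * u) * (u * (r p.2.1 : G) * u) by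
        rw [show u * c ^ (p.1 : ℕ) * u * (u * (r p.2.1 : G) * u) =
          u * c ^ (p.1 : ℕ) * (u * u) * (r p.2.1 : G) * u by group, hu, mul_one]
        group,
      hconjpow, hcu, h2]
    conv_rhs => rw [← hr p.2.1, Subgroup.coe_mul]
    show (c ^ (p.1 : ℕ) * (r p.2.1 : G))⁻¹ * (c ^ (p.1 : ℕ) * (r p.2.1 : G)⁻¹) = _
    group
  have hΦ : Function.Injective Φ := by
    intro p p' h
    have h1 : p.2 = p'.2 := Subtype.ext (Subtype.ext (inv_inj.1 (by rw [← hτ p, ← hτ p', h])))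
    obtain ⟨k, d⟩ := p
    obtain ⟨k', d'⟩ := p'
    simp only at h1
    subst h1
    have h2 : c' ^ (k : ℕ) = c' ^ (k' : ℕ) := mul_right_cancel h
    rw [pow_inj_mod, Nat.mod_eq_of_lt (by omega), Nat.mod_eq_of_lt (by omega)] at h2
    exact Prod.ext (Fin.ext h2) rfl
  have hcard : 3 * m ≤ Nat.card D := by
    refine le_trans ?_ (Nat.card_le_card_of_injective Φ hΦ)
    rw [Nat.card_prod, Nat.card_fin, Nat.card_eq_fintype_card, Fintype.card_coe]
    exact Nat.mul_le_mul_left 3 hI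
  have hdvd : Nat.card D ∣ q * (q ^ 2 - 1) := by
    rw [hqdef, ← LinearGroup.card_SL_two, ← Nat.card_congr (MonoidHom.ofInjective hπi).toEquiv.symm]
    exact Subgroup.card_subgroup_dvd_card _
  have hcop : (Nat.card D).Coprime q := by
    rw [hf]
    exact Nat.Coprime.pow_right _ (Nat.coprime_two_right.2 hDodd)
  have hle : Nat.card D ≤ q ^ 2 - 1 := Nat.le_of_dvd (by
    have : 4 ≤ q ^ 2 := by nlinarith
    omega) (hcop.dvd_of_dvd_mul_left hdvd)
  have h1 : (q : ℕ) * (q - 1) + q = q ^ 2 := by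
    rw [pow_two, ← Nat.mul_succ, Nat.succ_eq_add_one, Nat.sub_add_cancel (by omega : 1 ≤ q)]
  have h2 : 4 * q ≤ q ^ 2 := by nlinarith
  omega

end Cfsg.Agent.CharDeep.CA
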