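import Mathlib
import Cfsg.Agent.Lib.Transfer.Frobenius
import Cfsg.Agent.Lib.Transfer.Hall

/-!
Finite solvable non-nilpotent groups all of whose proper normal subgroups are abelian.
-/

set_option autoImplicit false

open scoped commutatorElement Pointwise

namespace Cfsg.Agent.CharDeep.CA

variable {K : Type*} [Group K] [Finite K]

theorem isMulCommutative_of_le {H L : Subgroup K} (h : H ≤ L) (hL : IsMulCommutative L) :
    IsMulCommutative H := ⟨⟨fun a b => Subtype.ext (by
      have := hL.is_comm.comm ⟨a, h a.2⟩ ⟨b, h b.2⟩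
      exact (congrArg Subtype.val this : (a : K) * b = b * a))⟩⟩

theorem commute_of_isMulCommutative {L : Subgroup K} (hL : IsMulCommutative L) {a b : K}
    (ha : a ∈ L) (hb : b ∈ L) : Commute a b :=
  congrArg Subtype.val (hL.is_comm.comm ⟨a, ha⟩ ⟨b, hb⟩)

omit [Finite K] in
theorem isNilpotent_of_commutator_le_center (h : commutator K ≤ Subgroup.center K) :
    Group.IsNilpotent K := by
  letI : CommGroup (K ⧸ Subgroup.center K) :=
    { (inferInstance : Group (K ⧸ Subgroup.center K)) with
      mul_comm := fun a b => by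
        induction a using QuotientGroup.induction_on
        induction b using QuotientGroup.induction_on
        rename_i a b
        rw [← QuotientGroup.mk_mul, ← QuotientGroup.mk_mul, QuotientGroup.eq]
        refine h ?_
        rw [commutator_def]
        have := Subgroup.commutator_mem_commutator (Subgroup.mem_top b⁻¹) (Subgroup.mem_top a⁻¹)
        rw [commutatorElement_def] at this
        convert this using 1
        group }
  exact Group.of_quotient_center_nilpotent inferInstance

/-- A finite nilpotent group with a non-abelian proper-normal-free Sylow structure is a `p`-group. -/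
theorem isPGroup_of_nilpotent (hnil : Group.IsNilpotent K) (hab : ∀ N : Subgroup K, N.Normal → N ≠ ⊤ →
    IsMulCommutative N) (hna : ¬ IsMulCommutative K) : ∃ p : ℕ, p.Prime ∧ IsPGroup p K := by
  by_contra hno
  push Not at hno
  apply hna
  haveI := hnil
  have hS : ∀ (p : ℕ) [Fact p.Prime] (P : Sylow p K), IsMulCommutative (P : Subgroup K) := by
    intro p hp P
    refine hab _ (Sylow.normal_of_normalizerCondition Group.normalizerCondition_of_isNilpotent P) ?_
    intro htop
    exact hno p hp.out (P.2.of_equiv (htop ▸ Subgroup.topEquiv))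
  refine ⟨⟨fun a b => ?_⟩⟩
  have h1 : ∀ b : K, ∀ a : K, a ∈ Subgroup.centralizer ({b} : Set K) := fun b a => by
    have ht : Subgroup.centralizer ({b} : Set K) = ⊤ := by
      refine Transfer.eq_top_of_prime_pow_orderOf_mem fun q hq g ⟨k, hk⟩ => ?_
      rw [Subgroup.mem_centralizer_singleton_iff]
      haveI := Fact.mk hq
      have h2 : Subgroup.centralizer ({g} : Set K) = ⊤ := by
        refine Transfer.eq_top_of_prime_pow_orderOf_mem fun r hr x ⟨j, hj⟩ => ?_
        rw [Subgroup.mem_centralizer_singleton_iff]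
        by_cases hqr : q = r
        · subst hqr
          obtain ⟨P⟩ := (inferInstance : Nonempty (Sylow q K))
          exact (commute_of_isMulCommutative (hS q P) (Transfer.nilpotent_mem_sylow hnil P hj)
            (Transfer.nilpotent_mem_sylow hnil P hk)).eq
        · exact (Transfer.nilpotent_commute_of_coprime hnil (by
            rw [hj, hk]; exact ((Nat.coprime_primes hr hq).2 (Ne.symm hqr)).pow j k)).eq
      exact (Subgroup.mem_centralizer_singleton_iff.1 (h2 ▸ Subgroup.mem_top b)).symm
    exact ht ▸ Subgroup.mem_top a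
  exact Subgroup.mem_centralizer_singleton_iff.1 (h1 b a)

/-- A nontrivial solvable finite group has a normal subgroup of prime index containing the derived
subgroup. -/
theorem exists_normal_prime_index [Nontrivial K] (hsol : Group.IsSolvable K) :
    ∃ A : Subgroup K, A.Normal ∧ A.index.Prime ∧ commutator K ≤ A := by
  haveI := hsol
  have hlt : commutator K < ⊤ := Group.IsSolvable.commutator_lt_top_of_nontrivial K
  obtain h | ⟨A, hA, hle⟩ := eq_top_or_exists_le_coatom (commutator K)
  · exact absurd h hlt.ne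
  have hn : A.Normal := ⟨fun a ha g => by
    have h1 : ⁅g, a⁆ ∈ A := hle (by
      rw [commutator_def]; exact Subgroup.commutator_mem_commutator (Subgroup.mem_top g) (Subgroup.mem_top a))
    have h2 := A.mul_mem h1 ha
    rwa [commutatorElement_def, inv_mul_cancel_right] at h2⟩
  refine ⟨A, hn, ?_, hle⟩
  haveI := hn
  haveI : IsSimpleGroup (K ⧸ A) := by
    haveI : Nontrivial (K ⧸ A) := QuotientGroup.nontrivial_iff.2 hA.1
    refine ⟨fun N hN => ?_⟩
    by_cases h : N.comap (QuotientGroup.mk' A) = A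
    · left
      rw [← Subgroup.map_comap_eq_self_of_surjective (QuotientGroup.mk'_surjective A) N, h,
        QuotientGroup.map_mk'_self]
    · right
      have h' : N.comap (QuotientGroup.mk' A) = ⊤ := hA.2 _ (lt_of_le_of_ne (fun a ha => by
        rw [Subgroup.mem_comap]
        have : QuotientGroup.mk' A a = 1 := by
          rw [QuotientGroup.mk'_apply, QuotientGroup.eq_one_iff]; exact ha
        rw [this]; exact N.one_mem) (Ne.symm h))
      rw [← Subgroup.map_comap_eq_self_of_surjective (QuotientGroup.mk'_surjective A) N, h',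
        Subgroup.map_top_of_surjective _ (QuotientGroup.mk'_surjective A)]
  letI : CommGroup (K ⧸ A) :=
    { (inferInstance : Group (K ⧸ A)) with
      mul_comm := fun a b => by
        induction a using QuotientGroup.induction_on
        induction b using QuotientGroup.induction_on
        rename_i a b
        rw [← QuotientGroup.mk_mul, ← QuotientGroup.mk_mul, QuotientGroup.eq]
        refine hle ?_
        rw [commutator_def]
        have := Subgroup.commutator_mem_commutator (Subgroup.mem_top b⁻¹) (Subgroup.mem_top a⁻¹)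
        rw [commutatorElement_def] at this
        convert this using 1
        group }
  exact IsSimpleGroup.prime_card (α := K ⧸ A)

/-- The structure of a solvable non-nilpotent group with all proper normal subgroups abelian. -/
theorem structure_of_solvable (hab : ∀ N : Subgroup K, N.Normal → N ≠ ⊤ → IsMulCommutative N)
    (hsol : Group.IsSolvable K) (hnn : ¬ Group.IsNilpotent K) :
    ∃ (r : ℕ) (_ : Fact r.Prime), (∀ R : Sylow r K, IsCyclic (R : Subgroup K) ∧
        Subgroup.normalizer ((R : Subgroup K) : Set K) = (R : Subgroup K)) ∧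
      ∀ (s : ℕ) [Fact s.Prime], s ≠ r → ∀ P : Sylow s K,
        (P : Subgroup K).Normal ∧ IsMulCommutative (P : Subgroup K) := by
  haveI : Nontrivial K := by
    by_contra h
    rw [not_nontrivial_iff_subsingleton] at h
    exact hnn inferInstance
  obtain ⟨A, hAn, hAr, hAc⟩ := exists_normal_prime_index hsol
  set r := A.index with hr
  haveI hrf : Fact r.Prime := ⟨hAr⟩
  haveI := hAn
  have hAtop : A ≠ ⊤ := fun h => hAr.ne_one (by rw [hr, h, Subgroup.index_top])
  have hAab : IsMulCommutative A := hab A hAn hAtop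
  -- a normal subgroup outside `A` is everything
  have hstar : ∀ B : Subgroup K, B.Normal → ¬ B ≤ A → B = ⊤ := by
    intro B hB hBA
    by_contra hBt
    haveI := hB
    have hBab := hab B hB hBt
    have hsup : A ⊔ B = ⊤ := by
      have hlt : A < A ⊔ B := left_lt_sup.2 hBA
      have h1 : (A ⊔ B).index ∣ r := Subgroup.index_dvd_of_le hlt.le
      rcases (Nat.dvd_prime hAr).1 h1 with h | h
      · exact Subgroup.index_eq_one.1 h
      · exact absurd h (ne_of_lt (Subgroup.index_strictAnti hlt))
    apply hnn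
    refine isNilpotent_of_commutator_le_center ?_
    have hAB : A ⊓ B ≤ Subgroup.center K := fun z hz => by
      refine Subgroup.mem_center_iff.2 fun g => ?_
      have : Subgroup.centralizer ({z} : Set K) = ⊤ := top_le_iff.1 (hsup ▸ sup_le
        (fun a ha => Subgroup.mem_centralizer_singleton_iff.2
          (commute_of_isMulCommutative hAab ha hz.1).eq)
        (fun a ha => Subgroup.mem_centralizer_singleton_iff.2
          (commute_of_isMulCommutative hBab ha hz.2).eq))
      exact Subgroup.mem_centralizer_singleton_iff.1 (this ▸ Subgroup.mem_top g)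
    refine fun c hc => hAB ⟨hAc hc, ?_⟩
    -- `K / B` is abelian as `K = A B`
    have hq : ∀ a b : K, (QuotientGroup.mk' B a) * (QuotientGroup.mk' B b) =
        (QuotientGroup.mk' B b) * (QuotientGroup.mk' B a) := fun a b => by
      have ha : ∀ x : K, ∃ y ∈ A, QuotientGroup.mk' B x = QuotientGroup.mk' B y := fun x => by
        obtain ⟨y, hy, z, hz, rfl⟩ := Subgroup.mem_sup_of_normal_right.1 (hsup ▸ Subgroup.mem_top x)
        refine ⟨y, hy, ?_⟩
        rw [map_mul, show QuotientGroup.mk' B z = 1 from (QuotientGroup.eq_one_iff z).2 hz, mul_one]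
      obtain ⟨a', ha', e1⟩ := ha a
      obtain ⟨b', hb', e2⟩ := ha b
      rw [e1, e2, ← map_mul, ← map_mul, (commute_of_isMulCommutative hAab ha' hb').eq]
    have hle : commutator K ≤ B := by
      rw [commutator_def, Subgroup.commutator_le]
      intro a _ b _
      rw [← QuotientGroup.eq_one_iff, ← QuotientGroup.mk'_apply, map_commutatorElement,
        commutatorElement_def, hq a b]
      group
    exact hle hc
  -- elements of order prime to `r` lie in `A`
  have hmemA : ∀ g : K, (orderOf g).Coprime r → g ∈ A := fun g hg => by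
    have h1 : orderOf (QuotientGroup.mk' A g) ∣ Nat.gcd (orderOf g) r :=
      Nat.dvd_gcd (orderOf_map_dvd _ g) (orderOf_dvd_natCard _)
    rw [hg.gcd_eq_one, Nat.dvd_one, orderOf_eq_one_iff] at h1
    exact (QuotientGroup.eq_one_iff g).1 h1
  have hPA : ∀ (s : ℕ) [Fact s.Prime], s ≠ r → ∀ P : Sylow s K, (P : Subgroup K) ≤ A := by
    intro s hs hsr P x hx
    refine hmemA x ?_
    obtain ⟨k, hk⟩ := (IsPGroup.iff_orderOf.1 P.2) ⟨x, hx⟩
    rw [Subgroup.orderOf_mk] at hk
    rw [hk]
    exact ((Nat.coprime_primes hs.out hAr).2 hsr).pow_left k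
  refine ⟨r, hrf, fun R => ?_, fun s hs hsr P => ?_⟩
  swap
  · refine ⟨⟨fun x hx g => ?_⟩, isMulCommutative_of_le (hPA s hsr P) hAab⟩
    have hle : (P : Subgroup K) ⊔ ((MulAut.conj g • P : Sylow s K) : Subgroup K) ≤ A :=
      sup_le (hPA s hsr P) (hPA s hsr _)
    have hp : IsPGroup s ↥((P : Subgroup K) ⊔ ((MulAut.conj g • P : Sylow s K) : Subgroup K)) := by
      refine IsPGroup.to_sup_of_normal_right' P.2 (MulAut.conj g • P : Sylow s K).2 fun a ha => ?_
      refine Subgroup.mem_normalizer_iff.2 fun y => ⟨fun hy => ?_, fun hy => ?_⟩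
      · rw [(commute_of_isMulCommutative hAab (hPA s hsr P ha) (hPA s hsr _ hy)).eq,
          mul_inv_cancel_right]
        exact hy
      · have := commute_of_isMulCommutative hAab (hPA s hsr P ha) (hPA s hsr _ hy)
        have h2 : a * (a * y * a⁻¹) * a⁻¹ = a * y * a⁻¹ := by
          rw [this.eq, mul_inv_cancel_right]
        have h3 : a * y * a⁻¹ = y := mul_left_cancel (mul_right_cancel h2)
        rwa [h3] at hy
    have h1 := P.3 hp le_sup_left
    have : ((MulAut.conj g • P : Sylow s K) : Subgroup K) ≤ P := le_sup_right.trans h1.le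
    exact this ⟨x, hx, rfl⟩
  -- the `r'`-part of `A`
  let Q : Subgroup K :=
    { carrier := {a | a ∈ A ∧ (orderOf a).Coprime r}
      one_mem' := ⟨A.one_mem, by rw [orderOf_one]; exact Nat.coprime_one_left r⟩
      mul_mem' := fun {a b} ha hb => ⟨A.mul_mem ha.1 hb.1,
        Nat.Coprime.coprime_dvd_left ((commute_of_isMulCommutative hAab ha.1 hb.1).orderOf_mul_dvd_mul_orderOf)
          (Nat.Coprime.mul_left ha.2 hb.2)⟩
      inv_mem' := fun {a} ha => ⟨A.inv_mem ha.1, by rw [orderOf_inv]; exact ha.2⟩ }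
  haveI hQn : Q.Normal := ⟨fun a ha g => ⟨hAn.conj_mem a ha.1 g, by
    rw [← MulAut.conj_apply, MulEquiv.orderOf_eq]; exact ha.2⟩⟩
  have hQR : (R : Subgroup K) ⊓ Q = ⊥ := by
    rw [Subgroup.eq_bot_iff_forall]
    rintro x ⟨hxR, -, hx⟩
    obtain ⟨k, hk⟩ := (IsPGroup.iff_orderOf.1 R.2) ⟨x, hxR⟩
    rw [Subgroup.orderOf_mk] at hk
    exact orderOf_eq_one_iff.1 (Nat.eq_one_of_dvd_coprimes hx dvd_rfl (by
      rw [hk] at hx ⊢
      rcases k with _ | k
      · simp
      · exact absurd ((Nat.coprime_pow_left_iff k.succ_pos r r).1 hx)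
          (by rw [Nat.coprime_self]; exact hAr.ne_one)))
  have hQsup : (R : Subgroup K) ⊔ Q = ⊤ := by
    refine Subgroup.eq_top_of_card_eq _ (Nat.dvd_antisymm (Subgroup.card_subgroup_dvd_card _) ?_)
    rw [Nat.dvd_iff_prime_pow_dvd_dvd]
    intro s k hs hk
    haveI := Fact.mk hs
    by_cases hsr : s = r
    · subst hsr
      exact ((pow_dvd_pow _ ((hs.pow_dvd_iff_le_factorization Nat.card_pos.ne').1 hk)).trans
        R.card_eq_multiplicity.symm.dvd).trans (Subgroup.card_dvd_of_le le_sup_left)
    · obtain ⟨P⟩ := (inferInstance : Nonempty (Sylow s K))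
      refine ((pow_dvd_pow s ((hs.pow_dvd_iff_le_factorization Nat.card_pos.ne').1 hk)).trans
        P.card_eq_multiplicity.symm.dvd).trans (Subgroup.card_dvd_of_le (le_trans (fun x hx => ?_) le_sup_right))
      obtain ⟨j, hj⟩ := (IsPGroup.iff_orderOf.1 P.2) ⟨x, hx⟩
      rw [Subgroup.orderOf_mk] at hj
      exact ⟨hPA s hsr P hx, by rw [hj]; exact ((Nat.coprime_primes hs hAr).2 hsr).pow_left j⟩
  have hRA : ¬ (R : Subgroup K) ≤ A := fun h => hAtop (top_le_iff.1 (hQsup ▸ sup_le h fun a ha => ha.1))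
  -- `R` has a unique maximal subgroup
  have huniq : ∀ M : Subgroup K, M < (R : Subgroup K) →
      (R : Subgroup K) ≤ Subgroup.normalizer (M : Set K) → M ≤ A := by
    intro M hM hn
    by_contra hMA
    have hnn' : (M ⊔ Q).Normal := by
      rw [← Subgroup.normalizer_eq_top_iff, ← top_le_iff, ← hQsup]
      refine sup_le (fun g hg => ?_) (le_sup_right.trans Subgroup.le_normalizer)
      rw [Subgroup.mem_normalizer_iff]
      intro y
      have hmap : (M ⊔ Q).map (MulAut.conj g).toMonoidHom = M ⊔ Q := by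
        rw [Subgroup.map_sup]
        congr 1
        · ext z
          rw [Subgroup.mem_map]
          refine ⟨?_, fun hz => ⟨g⁻¹ * z * g, ?_, by simp [mul_assoc]⟩⟩
          · rintro ⟨w, hw, rfl⟩
            exact (Subgroup.mem_normalizer_iff.1 (hn hg) w).1 hw
          · refine (Subgroup.mem_normalizer_iff.1 (hn hg) _).2 ?_
            simpa [mul_assoc] using hz
        · ext z
          rw [Subgroup.mem_map]
          refine ⟨?_, fun hz => ⟨g⁻¹ * z * g, ?_, by simp [mul_assoc]⟩⟩
          · rintro ⟨w, hw, rfl⟩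
            exact hQn.conj_mem w hw g
          · simpa using hQn.conj_mem z hz g⁻¹
      constructor
      · intro hy
        rw [← hmap]
        exact ⟨y, hy, rfl⟩
      · intro hy
        rw [← hmap] at hy
        obtain ⟨w, hw, he⟩ := hy
        rwa [(MulAut.conj g).injective (he : MulAut.conj g w = MulAut.conj g y)] at hw
    have h := hstar _ hnn' fun h => hMA (le_sup_left.trans h)
    obtain ⟨x, hxR, hxM⟩ := SetLike.exists_of_lt hM
    obtain ⟨m, hm, q, hq, hmq⟩ := Subgroup.mem_sup_of_normal_right.1 (h ▸ Subgroup.mem_top x)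
    have : q ∈ (R : Subgroup K) ⊓ Q := ⟨by
      have : m⁻¹ * x ∈ (R : Subgroup K) := (R : Subgroup K).mul_mem ((R : Subgroup K).inv_mem (hM.le hm)) hxR
      rwa [← hmq, inv_mul_cancel_left] at this, hq⟩
    rw [hQR, Subgroup.mem_bot] at this
    rw [this, mul_one] at hmq
    exact hxM (hmq ▸ hm)
  obtain ⟨y, hyR, hyA⟩ := SetLike.not_le_iff_exists.1 hRA
  have hRy : Subgroup.zpowers y = (R : Subgroup K) := by
    by_contra hne
    have hlt : Subgroup.zpowers y < (R : Subgroup K) :=
      lt_of_le_of_ne (Subgroup.zpowers_le.2 hyR) hne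
    -- enlarge to a maximal subgroup of `R`
    obtain h | ⟨M, hM, hle⟩ := eq_top_or_exists_le_coatom ((Subgroup.zpowers y).subgroupOf (R : Subgroup K))
    · exact hne (le_antisymm hlt.le (Subgroup.subgroupOf_eq_top.1 h))
    haveI : Group.IsNilpotent (R : Subgroup K) := R.2.isNilpotent
    have hMn : M.Normal :=
      Subgroup.NormalizerCondition.normal_of_coatom M Group.normalizerCondition_of_isNilpotent hM
    refine hyA (huniq (M.map (R : Subgroup K).subtype) ?_ ?_
      ⟨⟨y, hyR⟩, hle (Subgroup.mem_subgroupOf.2 (Subgroup.mem_zpowers y)), rfl⟩)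
    · refine lt_of_le_of_ne (Subgroup.map_subtype_le M) fun he => hM.1 ?_
      rw [eq_top_iff]
      intro z _
      obtain ⟨w, hw, he'⟩ := (he.symm ▸ z.2 : (z : K) ∈ M.map (R : Subgroup K).subtype)
      rwa [Subtype.ext he'] at hw
    · intro g hg
      rw [Subgroup.mem_normalizer_iff]
      intro z
      constructor
      · rintro ⟨w, hw, rfl⟩
        exact ⟨⟨g, hg⟩ * w * ⟨g, hg⟩⁻¹, hMn.conj_mem w hw _, rfl⟩
      · rintro ⟨w, hw, he⟩
        refine ⟨⟨g, hg⟩⁻¹ * w * ⟨g, hg⟩, by simpa using hMn.conj_mem w hw ⟨g, hg⟩⁻¹, ?_⟩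
        have he' : (w : K) = g * z * g⁻¹ := he
        simp [he', mul_assoc]
  refine ⟨?_, ?_⟩
  · rw [← hRy]; infer_instance
  -- self-normalisation
  have hQA : ∀ q ∈ Q, q ∈ A := fun q hq => hq.1
  have hconjQ : ∀ q : Q, y * (q : K) * y⁻¹ ∈ Q := fun q => hQn.conj_mem q q.2 y
  let δ : Q →* K := MonoidHom.mk' (fun q => (q : K) * y * (q : K)⁻¹ * y⁻¹) fun q q' => by
    have h1 : Commute ((q' : K) * y * (q' : K)⁻¹ * y⁻¹) (q : K) := by
      refine commute_of_isMulCommutative hAab ?_ q.2.1
      have : (q' : K) * (y * (q' : K)⁻¹ * y⁻¹) ∈ A :=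
        A.mul_mem q'.2.1 (hAn.conj_mem _ (A.inv_mem q'.2.1) y)
      simpa [mul_assoc] using this
    have h2 : Commute ((q' : K) * y * (q' : K)⁻¹ * y⁻¹) (y * (q : K)⁻¹ * y⁻¹) := by
      refine commute_of_isMulCommutative hAab ?_ (hAn.conj_mem _ (A.inv_mem q.2.1) y)
      have : (q' : K) * (y * (q' : K)⁻¹ * y⁻¹) ∈ A :=
        A.mul_mem q'.2.1 (hAn.conj_mem _ (A.inv_mem q'.2.1) y)
      simpa [mul_assoc] using this
    calc ((q * q' : Q) : K) * y * ((q * q' : Q) : K)⁻¹ * y⁻¹
        = (q : K) * (((q' : K) * y * (q' : K)⁻¹ * y⁻¹) * (y * (q : K)⁻¹ * y⁻¹)) := by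
          simp [mul_assoc]
      _ = (q : K) * ((y * (q : K)⁻¹ * y⁻¹) * ((q' : K) * y * (q' : K)⁻¹ * y⁻¹)) := by rw [h2.eq]
      _ = ((q : K) * y * (q : K)⁻¹ * y⁻¹) * ((q' : K) * y * (q' : K)⁻¹ * y⁻¹) := by group
  have hyn : y ∈ Subgroup.normalizer (δ.range : Set K) := by
    have hfwd : ∀ (z : K), (∀ q : Q, z * (q : K) * z⁻¹ ∈ Q) → Commute z y →
        ∀ w ∈ δ.range, z * w * z⁻¹ ∈ δ.range := by
      rintro z hz hzy w ⟨q, rfl⟩
      refine ⟨⟨_, hz q⟩, ?_⟩
      show z * (q : K) * z⁻¹ * y * (z * (q : K) * z⁻¹)⁻¹ * y⁻¹ =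
        z * ((q : K) * y * (q : K)⁻¹ * y⁻¹) * z⁻¹
      have h1 : z⁻¹ * y = y * z⁻¹ := hzy.inv_left.eq
      have h2 : z⁻¹ * y⁻¹ = y⁻¹ * z⁻¹ := hzy.inv_inv.eq
      calc z * (q : K) * z⁻¹ * y * (z * (q : K) * z⁻¹)⁻¹ * y⁻¹
          = z * (q : K) * (z⁻¹ * y) * z * (q : K)⁻¹ * (z⁻¹ * y⁻¹) := by group
        _ = z * ((q : K) * y * (q : K)⁻¹ * y⁻¹) * z⁻¹ := by rw [h1, h2]; group
    refine Subgroup.mem_normalizer_iff.2 fun w => ⟨fun hw => hfwd y (fun q => hQn.conj_mem q q.2 y)
      (Commute.refl y) w hw, fun hw => ?_⟩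
    have := hfwd y⁻¹ (fun q => hQn.conj_mem q q.2 y⁻¹) (Commute.refl y).inv_left _ hw
    simpa [mul_assoc] using this
  -- the normal closure of `R` is everything
  have hker : ∀ q : Q, δ q = 1 → q = 1 := by
    have hT : δ.range ≤ Q := by
      rintro w ⟨q, rfl⟩
      have : (q : K) * (y * (q : K)⁻¹ * y⁻¹) ∈ Q :=
        Q.mul_mem q.2 (hQn.conj_mem _ (Q.inv_mem q.2) y)
      simpa [δ, mul_assoc] using this
    have hQn' : Q ≤ Subgroup.normalizer (δ.range : Set K) := fun q hq =>
      Subgroup.mem_normalizer_iff.2 fun w => by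
        constructor
        · intro hw
          rw [(commute_of_isMulCommutative hAab hq.1 (hT hw).1).eq, mul_inv_cancel_right]
          exact hw
        · intro hw
          have hwQ : w ∈ Q := by
            simpa [mul_assoc] using hQn.conj_mem _ (hT hw) q⁻¹
          rwa [(commute_of_isMulCommutative hAab hq.1 hwQ.1).eq, mul_inv_cancel_right] at hw
    set W := Subgroup.zpowers y ⊔ δ.range with hW
    have hWn : W.Normal := by
      rw [← Subgroup.normalizer_eq_top_iff, ← top_le_iff, ← hQsup, ← hRy]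
      refine sup_le ((le_sup_left : Subgroup.zpowers y ≤ W).trans Subgroup.le_normalizer) fun q hq => ?_
      have hstep : ∀ q ∈ Q, ∀ w ∈ W, q * w * q⁻¹ ∈ W := by
        intro q hq w hw
        have : W ≤ W.comap (MulAut.conj q).toMonoidHom := by
          refine sup_le (Subgroup.zpowers_le.2 ?_) fun v hv => ?_
          · show q * y * q⁻¹ ∈ W
            rw [show q * y * q⁻¹ = (q * y * q⁻¹ * y⁻¹) * y by group]
            exact W.mul_mem (le_sup_right (a := Subgroup.zpowers y) ⟨⟨q, hq⟩, rfl⟩)
              (le_sup_left (b := δ.range) (Subgroup.mem_zpowers y))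
          · exact le_sup_right (a := Subgroup.zpowers y) ((Subgroup.mem_normalizer_iff.1 (hQn' hq) v).1 hv)
        exact this hw
      refine Subgroup.mem_normalizer_iff.2 fun w => ⟨hstep q hq w, fun hw => ?_⟩
      simpa [mul_assoc] using hstep q⁻¹ (Q.inv_mem hq) _ hw
    have hWt : W = ⊤ := hstar W hWn fun h => hyA (h (le_sup_left (b := δ.range) (Subgroup.mem_zpowers y)))
    have hrange : δ.range = Q := by
      refine le_antisymm hT fun q hq => ?_
      have h1 : q ∈ ((Subgroup.zpowers y ⊔ δ.range : Subgroup K) : Set K) := by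
        show q ∈ W
        rw [hWt]; exact Subgroup.mem_top q
      rw [Subgroup.coe_mul_of_left_le_normalizer_right _ _ (Subgroup.zpowers_le.2 hyn)] at h1
      obtain ⟨a, ha, b, hb, hab'⟩ := Set.mem_mul.1 h1
      have : a ∈ (R : Subgroup K) ⊓ Q := ⟨hRy ▸ ha, by
        rw [show a = q * b⁻¹ by rw [← hab', mul_inv_cancel_right]]
        exact Q.mul_mem hq (Q.inv_mem (hT hb))⟩
      rw [hQR, Subgroup.mem_bot] at this
      rw [this, one_mul] at hab'
      exact hab' ▸ hb
    let δ' : Q → Q := fun q => ⟨δ q, hT ⟨q, rfl⟩⟩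
    have hsurj : Function.Surjective δ' := fun q => by
      obtain ⟨p', hp'⟩ := (hrange.symm ▸ q.2 : (q : K) ∈ δ.range)
      exact ⟨p', Subtype.ext hp'⟩
    have hinj := (Finite.injective_iff_surjective).2 hsurj
    exact fun q hq => hinj (Subtype.ext (hq.trans (map_one δ).symm))
  refine le_antisymm (fun g hg => ?_) Subgroup.le_normalizer
  obtain ⟨ρ, hρ, q, hq, rfl⟩ := Subgroup.mem_sup_of_normal_right.1 (hQsup ▸ Subgroup.mem_top g)
  have hqn : q ∈ Subgroup.normalizer ((R : Subgroup K) : Set K) := by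
    have := (Subgroup.normalizer ((R : Subgroup K) : Set K)).mul_mem
      (Subgroup.le_normalizer ((R : Subgroup K).inv_mem hρ)) hg
    simpa using this
  have h1 : q * y * q⁻¹ * y⁻¹ ∈ (R : Subgroup K) ⊓ Q :=
    ⟨(R : Subgroup K).mul_mem ((Subgroup.mem_normalizer_iff.1 hqn y).1 hyR) ((R : Subgroup K).inv_mem hyR),
      by
        have := Q.mul_mem hq (hQn.conj_mem _ (Q.inv_mem hq) y)
        simpa [mul_assoc] using this⟩
  rw [hQR, Subgroup.mem_bot] at h1
  have h2 := congrArg Subtype.val (hker ⟨q, hq⟩ h1)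
  simp only [OneMemClass.coe_one] at h2
  rw [h2, mul_one]
  exact hρ

end Cfsg.Agent.CharDeep.CA
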