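import Cfsg.Agent.CharDeep.CA.Local

/-!
Simple CA-groups: the normaliser of the centraliser of an involution, and the involutions outside it.
-/

set_option autoImplicit false

namespace Cfsg.Agent.CharDeep.CA

variable {G : Type*} [Group G]

/-- `N = N(C(t))`. -/
abbrev nrm (t : G) : Subgroup G := Subgroup.normalizer (cent t : Set G)

theorem cent_le_nrm (t : G) : cent t ≤ nrm t := Subgroup.le_normalizer

/-- `N ∩ uNu`. -/
abbrev dd (t u : G) : Subgroup G :=
  nrm t ⊓ (nrm t).map (MulAut.conj u).toMonoidHom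

variable {t : G} (H : Data G t)
include H

theorem comm {a b : G} (ha : a ∈ cent t) (hb : b ∈ cent t) : Commute a b :=
  H.inv t H.t_sq H.t_ne a ha b hb

theorem cent_of_mem {x : G} (hx : x ∈ cent t) (hx1 : x ≠ 1) : cent x = cent t :=
  H.self x hx hx1

theorem cent_conj_eq {g x : G} (hx : x ∈ cent t) (hx1 : x ≠ 1) (hgx : g * x * g⁻¹ ∈ cent t) :
    g ∈ nrm t := by
  have h1 := cent_of_mem H hx hx1
  have h2 := cent_of_mem H hgx (by simpa using hx1)
  refine Subgroup.mem_normalizer_iff.2 fun y => ?_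
  conv_lhs => rw [← h1]
  conv_rhs => rw [← h2]
  exact conj_mem_cent.symm

/-- `C_G(t)` is fixed-point-freely acted on by its normaliser. -/
theorem mem_of_commute {n a : G} (ha : a ∈ cent t) (ha1 : a ≠ 1) (hc : Commute n a) :
    n ∈ cent t := by
  rw [← cent_of_mem H ha ha1]; exact mem_cent.2 hc

theorem conj_mem {n a : G} (hn : n ∈ nrm t) (ha : a ∈ cent t) : n * a * n⁻¹ ∈ cent t :=
  (Subgroup.mem_normalizer_iff.1 hn a).1 ha

theorem sq_mem_cent {x : G} (hx : x * x = 1) (hxN : x ∈ nrm t) [Finite G] : x ∈ cent t := by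
  obtain ⟨S, hS, -⟩ := H.sylow
  haveI : ((cent t).subgroupOf (nrm t)).Normal := Subgroup.normal_in_normalizer
  have hodd : ¬ 2 ∣ (cent t).relIndex (nrm t) := fun hd => by
    haveI : Fact (Nat.Prime 2) := ⟨Nat.prime_two⟩
    refine S.not_dvd_index ?_
    refine dvd_trans ?_ (Subgroup.index_dvd_of_le hS)
    rw [← Subgroup.relIndex_mul_index (cent_le_nrm t)]
    exact dvd_mul_of_dvd_left hd _
  set q : nrm t ⧸ (cent t).subgroupOf (nrm t) := QuotientGroup.mk ⟨x, hxN⟩ with hq
  have h2 : orderOf q ∣ 2 := orderOf_dvd_of_pow_eq_one (by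
    rw [hq, ← QuotientGroup.mk_pow, pow_two, QuotientGroup.eq_one_iff, Subgroup.mem_subgroupOf]
    simp [hx])
  rcases (Nat.dvd_prime Nat.prime_two).1 h2 with h | h
  · rw [orderOf_eq_one_iff, hq, QuotientGroup.eq_one_iff, Subgroup.mem_subgroupOf] at h
    exact h
  · exact absurd (h ▸ orderOf_dvd_natCard q) hodd

variable [Finite G]

omit [Finite G] in
theorem nrm_ne_cent : nrm t ≠ cent t := H.ne_cent

omit [Finite G] in
theorem nrm_ne_top : nrm t ≠ ⊤ := H.ne_top

theorem conj_exists {x : G} (hx : x * x = 1) (hx1 : x ≠ 1) : ∃ g : G, g * x * g⁻¹ = t := by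
  by_contra hno
  have hnc : ∀ g : G, ¬ IsConj (g * t * g⁻¹) x := fun g hc =>
    hno (isConj_iff.1 ((isConj_iff.2 ⟨g, rfl⟩ : IsConj t (g * t * g⁻¹)).trans hc).symm)
  -- non-conjugate involutions commute
  have hkey : ∀ a b : G, a * a = 1 → b * b = 1 → a ≠ 1 → b ≠ 1 → ¬ IsConj a b → Commute a b := by
    intro a b ha hb ha1 hb1 hab
    set c := a * b with hc
    have hia : a⁻¹ = a := inv_eq_of_mul_eq_one_right ha
    have hib : b⁻¹ = b := inv_eq_of_mul_eq_one_right hb
    have hac : a * c * a⁻¹ = c⁻¹ := by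
      rw [hc, mul_inv_rev, hia, hib, ← mul_assoc, ha, one_mul]
    have hbc : b * c * b⁻¹ = c⁻¹ := by
      rw [hc, mul_inv_rev, hia, hib, mul_assoc, mul_assoc, hb, mul_one]
    have hev : Even (orderOf c) := by
      by_contra ho
      obtain ⟨m, hm⟩ := Nat.not_even_iff_odd.1 ho
      apply hab
      refine isConj_iff.2 ⟨c ^ (m * 1) , ?_⟩
      rw [mul_one]
      have hp : c ^ m * c ^ m * c = 1 := by
        rw [← pow_add, ← pow_succ, ← two_mul, ← hm, pow_orderOf_eq_one]
      have ha' : a * (c ^ m)⁻¹ = c ^ m * a := by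
        have hh : a * c ^ m * a⁻¹ = (c ^ m)⁻¹ := by rw [← conj_pow, hac, inv_pow]
        rw [← hh, hia]
        simp only [← mul_assoc, ha, one_mul]
      calc c ^ m * a * (c ^ m)⁻¹ = c ^ m * (c ^ m * a) := by rw [mul_assoc, ha']
        _ = (c ^ m * c ^ m * c) * (c⁻¹ * a) := by group
        _ = c⁻¹ * a := by rw [hp, one_mul]
        _ = b := by rw [hc, mul_inv_rev, hib, hia, mul_assoc, ha, mul_one]
    obtain ⟨m, hm⟩ := hev
    have hcpos := orderOf_pos c
    set z := c ^ m with hz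
    have hz1 : z ≠ 1 := pow_ne_one_of_lt_orderOf (by omega) (by omega)
    have hzinv : z⁻¹ = z := inv_eq_of_mul_eq_one_right (by
      rw [hz, ← pow_add, ← hm, pow_orderOf_eq_one])
    have hcomm : ∀ y : G, y * c * y⁻¹ = c⁻¹ → Commute y z := fun y hy => by
      have h1 : y * z * y⁻¹ = z := by rw [hz, ← conj_pow, hy, inv_pow, ← hz, hzinv]
      calc y * z = y * z * y⁻¹ * y := by group
        _ = z * y := by rw [h1]
    exact H.inv z (by rw [hz, ← pow_add, ← hm, pow_orderOf_eq_one]) hz1 a (mem_cent.2 (hcomm a hac))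
      b (mem_cent.2 (hcomm b hbc))
  have hclass : ∀ g : G, g * t * g⁻¹ ∈ cent x := fun g => mem_cent.2 (hkey _ _
    (by rw [show g * t * g⁻¹ * (g * t * g⁻¹) = g * (t * t) * g⁻¹ by group, H.t_sq, mul_one,
      mul_inv_cancel]) hx (by simpa using H.t_ne) hx1 (hnc g))
  -- so every conjugate of `t` lies in `C(x)`, which contains `t`, hence is `C(t)`
  have hxA : x ∈ cent t := by
    have := mem_cent.1 (hclass 1)
    simp only [one_mul, inv_one, mul_one] at this
    exact mem_cent.2 this.symm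
  refine nrm_ne_top H (eq_top_iff.2 fun g _ => ?_)
  exact cent_conj_eq H (mem_cent.2 (Commute.refl t)) H.t_ne (cent_of_mem H hxA hx1 ▸ hclass g)

omit [Finite G] in
theorem card_cent_of_sq {g x : G} (hg : g * x * g⁻¹ = t) : Nat.card (cent x) = Nat.card (cent t) := by
  rw [← hg, card_cent_conj]

/-- `|N : A|`. -/
theorem two_le_relIndex : 2 ≤ (cent t).relIndex (nrm t) := by
  have h0 : (cent t).relIndex (nrm t) ≠ 0 := Subgroup.index_ne_zero_of_finite
  have h1 : (cent t).relIndex (nrm t) ≠ 1 := fun h =>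
    nrm_ne_cent H (le_antisymm (Subgroup.relIndex_eq_one.1 h) (cent_le_nrm t))
  omega

theorem relIndex_dvd : (cent t).relIndex (nrm t) ∣ Nat.card (cent t) - 1 := by
  classical
  let N := nrm t
  let X := {x : G // x ∈ cent t ∧ x ≠ 1}
  letI : MulAction N X :=
    { smul := fun n x => ⟨(n : G) * x.1 * (n : G)⁻¹, conj_mem H n.2 x.2.1, by simpa using x.2.2⟩
      one_smul := fun x => Subtype.ext (by show ((1 : N) : G) * x.1 * ((1 : N) : G)⁻¹ = x.1; simp)
      mul_smul := fun m n x => Subtype.ext (by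
        show ((m * n : N) : G) * x.1 * ((m * n : N) : G)⁻¹ = (m : G) * ((n : G) * x.1 * (n : G)⁻¹) * (m : G)⁻¹
        simp [mul_assoc]) }
  have hst : ∀ x : X, MulAction.stabilizer N x = (cent t).subgroupOf N := fun x => by
    ext n
    rw [MulAction.mem_stabilizer_iff, Subgroup.mem_subgroupOf]
    refine ⟨fun h => ?_, fun h => Subtype.ext ?_⟩
    · have h' : (n : G) * x.1 * (n : G)⁻¹ = x.1 := congrArg Subtype.val h
      exact mem_of_commute H x.2.1 x.2.2 (mul_inv_eq_iff_eq_mul.1 h')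
    · show (n : G) * x.1 * (n : G)⁻¹ = x.1
      rw [(comm H h x.2.1).eq, mul_inv_cancel_right]
  have hX : Nat.card X = Nat.card (cent t) - 1 := by
    haveI := Fintype.ofFinite G
    rw [Nat.card_eq_fintype_card, Nat.card_eq_fintype_card, Fintype.card_subtype,
      Fintype.card_subtype, show (Finset.univ.filter fun x : G => x ∈ cent t ∧ x ≠ 1) =
        (Finset.univ.filter fun x : G => x ∈ cent t).erase 1 by ext y; simp [and_comm],
      Finset.card_erase_of_mem (by simp)]
  haveI : Fintype (Quotient (MulAction.orbitRel N X)) := Fintype.ofFinite _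
  rw [← hX, Nat.card_congr (MulAction.selfEquivSigmaOrbitsQuotientStabilizer N X), Nat.card_sigma]
  refine Finset.dvd_sum fun w _ => ?_
  rw [hst]
  rfl

theorem coprime_relIndex : (Nat.card (cent t)).Coprime ((cent t).relIndex (nrm t)) := by
  obtain ⟨k, hk⟩ := relIndex_dvd H
  have hpos : 0 < Nat.card (cent t) := Nat.card_pos
  refine Nat.coprime_of_dvd' fun q hq hqa hqi => ?_
  rw [show Nat.card (cent t) = (cent t).relIndex (nrm t) * k + 1 by omega] at hqa
  exact (Nat.dvd_add_right (dvd_mul_of_dvd_left hqi k)).1 hqa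

theorem mem_cent_of_pow {x : G} (hxN : x ∈ nrm t) (hx : x ^ Nat.card (cent t) = 1) :
    x ∈ cent t := by
  haveI : ((cent t).subgroupOf (nrm t)).Normal := Subgroup.normal_in_normalizer
  set q : nrm t ⧸ (cent t).subgroupOf (nrm t) := QuotientGroup.mk ⟨x, hxN⟩ with hq
  have h1 : orderOf q ∣ Nat.card (cent t) := orderOf_dvd_of_pow_eq_one (by
    rw [hq, ← QuotientGroup.mk_pow, QuotientGroup.eq_one_iff, Subgroup.mem_subgroupOf]
    simp [hx])
  have h3 := Nat.eq_one_of_dvd_coprimes (coprime_relIndex H) h1 (orderOf_dvd_natCard q)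
  rw [orderOf_eq_one_iff, hq, QuotientGroup.eq_one_iff, Subgroup.mem_subgroupOf] at h3
  exact h3

/-- A conjugate of `A` meets `N` only inside `A`. -/
theorem eq_one_of_conj {g x : G} (hg : g ∉ nrm t) (hx : x ∈ cent t) (hgx : g * x * g⁻¹ ∈ nrm t) :
    x = 1 := by
  by_contra hx1
  refine hg (cent_conj_eq H hx hx1 (mem_cent_of_pow H hgx ?_))
  have h' : x ^ Nat.card (cent t) = 1 := by
    have := congrArg Subtype.val (pow_card_eq_one' (G := cent t) (x := ⟨x, hx⟩))
    simpa only [SubgroupClass.coe_pow, OneMemClass.coe_one] using this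
  rw [conj_pow, h', mul_one, mul_inv_cancel]

section

variable {u : G} (hu : u * u = 1) (huN : u ∉ nrm t)
include hu huN

omit H [Finite G] in
theorem mem_dd {d : G} : d ∈ dd t u ↔ d ∈ nrm t ∧ u * d * u ∈ nrm t := by
  have huinv : u⁻¹ = u := inv_eq_of_mul_eq_one_right hu
  refine ⟨?_, fun ⟨h1, h2⟩ => ⟨h1, u * d * u, h2, ?_⟩⟩
  · rintro ⟨h1, y, hy, rfl⟩
    refine ⟨h1, ?_⟩
    simp only [MulEquiv.coe_toMonoidHom, MulAut.conj_apply, huinv]
    rw [show u * (u * y * u) * u = (u * u) * y * (u * u) by group, hu, one_mul, mul_one]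
    exact hy
  · simp only [MulEquiv.coe_toMonoidHom, MulAut.conj_apply, huinv]
    rw [show u * (u * d * u) * u = (u * u) * d * (u * u) by group, hu, one_mul, mul_one]

theorem dd_inf_cent {d : G} (hd : d ∈ dd t u) (hdA : d ∈ cent t) : d = 1 := by
  have huinv : u⁻¹ = u := inv_eq_of_mul_eq_one_right hu
  exact eq_one_of_conj H huN hdA (by rw [huinv]; exact ((mem_dd hu huN).1 hd).2)

theorem inverts_dd : ∀ d ∈ dd t u, u * d * u = d⁻¹ := by
  have hu1 : u ≠ 1 := fun h => huN (h ▸ Subgroup.one_mem _)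
  refine inverts_of_fpf hu (fun d hd => (mem_dd hu huN).2 ⟨((mem_dd hu huN).1 hd).2, ?_⟩)
    fun d hd hfix => ?_
  · rw [show u * (u * d * u) * u = (u * u) * d * (u * u) by group, hu, one_mul, mul_one]
    exact ((mem_dd hu huN).1 hd).1
  · obtain ⟨g, hg⟩ := conj_exists H hu hu1
    have hdu : d ∈ cent u := mem_cent.2 (by
      show d * u = u * d
      calc d * u = u * d * u * u := by rw [hfix]
        _ = u * d := by rw [mul_assoc (u * d) u u, hu, mul_one])
    have hpow : d ^ Nat.card (cent t) = 1 := by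
      rw [← card_cent_of_sq H hg]
      have := congrArg Subtype.val (pow_card_eq_one' (G := cent u) (x := ⟨d, hdu⟩))
      simpa only [SubgroupClass.coe_pow, OneMemClass.coe_one] using this
    exact dd_inf_cent H hu huN hd (mem_cent_of_pow H ((mem_dd hu huN).1 hd).1 hpow)

theorem card_dd_le : Nat.card (dd t u) ≤ (cent t).relIndex (nrm t) := by
  refine Nat.card_le_card_of_injective
    (fun d => (QuotientGroup.mk ⟨(d : G), d.2.1⟩ : nrm t ⧸ (cent t).subgroupOf (nrm t)))
    fun x y h => ?_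
  rw [QuotientGroup.eq, Subgroup.mem_subgroupOf] at h
  refine Subtype.ext (inv_mul_eq_one.1 (dd_inf_cent H hu huN ?_ h))
  exact (dd t u).mul_mem ((dd t u).inv_mem x.2) y.2

end

end Cfsg.Agent.CharDeep.CA
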