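import Mathlib
import Cfsg.Agent.CN7.CNTheorem
import Cfsg.Agent.S1526
import Cfsg.Agent.Lib.Transfer.Frobenius
import Cfsg.Agent.S0002

/-!
Simple groups with abelian centralisers: local structure around an involution.
-/

set_option autoImplicit false

namespace Cfsg.Agent.CharDeep.CA

variable {G : Type*} [Group G]

/-- Commuting is transitive on the non-identity elements. -/
def IsCA (G : Type*) [Group G] : Prop :=
  ∀ a b c : G, a ≠ 1 → b ≠ 1 → c ≠ 1 → Commute a b → Commute b c → Commute a c

/-- The centraliser of an element, as a subgroup. -/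
abbrev cent (x : G) : Subgroup G := Subgroup.centralizer ({x} : Set G)

theorem mem_cent {x y : G} : y ∈ cent x ↔ Commute y x :=
  Subgroup.mem_centralizer_singleton_iff

section

variable (h : IsCA G)
include h

theorem comm_of_mem {x a b : G} (hx : x ≠ 1) (ha : a ∈ cent x) (hb : b ∈ cent x) : Commute a b := by
  rw [mem_cent] at ha hb
  by_cases ha1 : a = 1
  · rw [ha1]; exact Commute.one_left b
  by_cases hb1 : b = 1
  · rw [hb1]; exact Commute.one_right a
  exact h a x b ha1 hx hb1 ha hb.symm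

theorem cent_eq {x y : G} (hx : x ≠ 1) (hy : y ≠ 1) (hxy : y ∈ cent x) : cent y = cent x := by
  ext z
  refine ⟨fun hz => ?_, fun hz => mem_cent.2 (comm_of_mem h hx hz hxy)⟩
  exact mem_cent.2 (comm_of_mem h hy hz (mem_cent.2 (mem_cent.1 hxy).symm))

theorem isCN : Cfsg.IsCNGroup G := by
  intro g hg
  have hcomm : ∀ a b : cent g, a * b = b * a := fun a b =>
    Subtype.ext (comm_of_mem h hg a.2 b.2).eq
  haveI : IsMulCommutative (cent g) := ⟨⟨hcomm⟩⟩
  open scoped IsMulCommutative in infer_instance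

end

theorem conj_mem_cent {g x y : G} : g * y * g⁻¹ ∈ cent (g * x * g⁻¹) ↔ y ∈ cent x := by
  rw [mem_cent, mem_cent, Commute.conj_iff]

theorem card_cent_conj (g x : G) : Nat.card (cent (g * x * g⁻¹)) = Nat.card (cent x) :=
  Nat.card_congr
    { toFun := fun y => ⟨g⁻¹ * y * g, by
        have := (conj_mem_cent (g := g⁻¹)).2 y.2
        simpa [mul_assoc] using this⟩
      invFun := fun y => ⟨g * y * g⁻¹, conj_mem_cent.2 y.2⟩
      left_inv := fun y => Subtype.ext (by simp [mul_assoc])
      right_inv := fun y => Subtype.ext (by simp [mul_assoc]) }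

/-- An automorphism of order two of a finite group of odd order without fixed points inverts. -/
theorem inverts_of_fpf [Finite G] {D : Subgroup G} {u : G} (hu : u * u = 1)
    (hD : ∀ d ∈ D, u * d * u ∈ D) (hfix : ∀ d ∈ D, u * d * u = d → d = 1) :
    ∀ d ∈ D, u * d * u = d⁻¹ := by
  have hu' : ∀ d : G, u * (u * d * u) * u = d := fun d => by
    calc u * (u * d * u) * u = (u * u) * d * (u * u) := by group
      _ = d := by rw [hu, one_mul, mul_one]
  let f : D → D := fun x => ⟨(x : G)⁻¹ * (u * x * u), D.mul_mem (D.inv_mem x.2) (hD x x.2)⟩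
  have hf : Function.Injective f := fun x y hxy => by
    have h1 : (x : G)⁻¹ * (u * x * u) = (y : G)⁻¹ * (u * y * u) := congrArg Subtype.val hxy
    have h2 : u * ((y : G) * (x : G)⁻¹) * u = (y : G) * (x : G)⁻¹ := by
      have h3 : (y : G) * (x : G)⁻¹ * (u * x * u) = u * y * u := by
        rw [mul_assoc, h1, mul_inv_cancel_left]
      have h4 : u * ((y : G) * (x : G)⁻¹) * u = (u * y * u) * (u * x * u)⁻¹ := by
        have huinv : u⁻¹ = u := inv_eq_of_mul_eq_one_right hu
        simp only [mul_inv_rev, huinv, mul_assoc]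
        rw [← mul_assoc u u, hu, one_mul]
      rw [h4, ← h3, mul_assoc _ (u * _ * u), mul_inv_cancel, mul_one]
    exact Subtype.ext (mul_inv_eq_one.1 (hfix _ (D.mul_mem y.2 (D.inv_mem x.2)) h2)).symm
  intro d hd
  obtain ⟨x, hx⟩ := Finite.surjective_of_injective hf ⟨d, hd⟩
  have hx' : (x : G)⁻¹ * (u * x * u) = d := congrArg Subtype.val hx
  subst hx'
  have huinv : u⁻¹ = u := inv_eq_of_mul_eq_one_right hu
  simp only [mul_inv_rev, inv_inv, huinv, mul_assoc]
  rw [hu, mul_one]

/-- The data: an involution `t` with a Sylow `2`-subgroup inside its abelian centraliser, which is the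
centraliser of each of its non-identity elements; centralisers of involutions are abelian. -/
structure Data (G : Type*) [Group G] (t : G) : Prop where
  inv : ∀ x : G, x * x = 1 → x ≠ 1 → ∀ a ∈ cent x, ∀ b ∈ cent x, Commute a b
  self : ∀ a ∈ cent t, a ≠ 1 → cent a = cent t
  t_ne : t ≠ 1
  t_sq : t * t = 1
  sylow : ∃ S : Sylow 2 G, (S : Subgroup G) ≤ cent t ∧ t ∈ (S : Subgroup G)
  ne_top : Subgroup.normalizer (cent t : Set G) ≠ ⊤
  ne_cent : Subgroup.normalizer (cent t : Set G) ≠ cent t

theorem exists_data [Finite G] [IsSimpleGroup G] (h : IsCA G) (hna : ¬ IsMulCommutative G) :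
    ∃ t : G, Data G t := by
  have heven : Even (Nat.card G) := by
    by_contra ho
    have := CN7.isSolvable_of_odd_CN (fun {G} _ _ hodd {ι} _ => S1526.result hodd (ι := ι))
      (Nat.not_even_iff_odd.1 ho) (isCN h)
    exact hna ⟨⟨IsSimpleGroup.comm_iff_isSolvable.2 this⟩⟩
  haveI : Fact (Nat.Prime 2) := ⟨Nat.prime_two⟩
  obtain ⟨S⟩ := (inferInstance : Nonempty (Sylow 2 G))
  haveI : Nontrivial (S : Subgroup G) :=
    Subgroup.nontrivial_iff_ne_bot _ |>.2 (S.ne_bot_of_dvd_card (even_iff_two_dvd.1 heven))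
  haveI := S.2.center_nontrivial
  obtain ⟨k, hk, hk'⟩ := (IsPGroup.iff_card (G := Subgroup.center (S : Subgroup G))).1
    (S.2.to_subgroup _) |>.imp fun k hk => (⟨by
      rintro rfl
      have := Finite.one_lt_card (α := Subgroup.center (S : Subgroup G))
      omega, hk⟩ : k ≠ 0 ∧ _)
  obtain ⟨z, hz⟩ := exists_prime_orderOf_dvd_card' (G := Subgroup.center (S : Subgroup G)) 2
    (by rw [hk']; exact dvd_pow_self 2 hk)
  have hord : orderOf ((z : S) : G) = 2 := by
    rw [Subgroup.orderOf_coe, Subgroup.orderOf_coe, hz]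
  set t : G := ((z : S) : G) with ht
  have ht1 : t ≠ 1 := fun h1 => by rw [h1, orderOf_one] at hord; norm_num at hord
  have ht2 : t * t = 1 := by
    have := pow_orderOf_eq_one t
    rwa [hord, pow_two] at this
  have hS : (S : Subgroup G) ≤ cent t := fun s hs =>
    mem_cent.2 (congrArg Subtype.val (Subgroup.mem_center_iff.1 z.2 ⟨s, hs⟩))
  have htA : t ∈ cent t := mem_cent.2 (Commute.refl t)
  refine ⟨t, fun x _ hx1 a ha b hb => comm_of_mem h hx1 ha hb, fun a ha ha1 => cent_eq h ht1 ha1 ha,
    ht1, ht2, ⟨S, hS, (z : S).2⟩, fun he => ?_, fun he => ?_⟩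
  · rcases (Subgroup.normalizer_eq_top_iff.1 he).eq_bot_or_eq_top with h' | h'
    · exact ht1 (Subgroup.mem_bot.1 (h' ▸ htA))
    · exact hna ⟨⟨fun a b => (comm_of_mem h ht1 (h' ▸ Subgroup.mem_top a) (h' ▸ Subgroup.mem_top b)).eq⟩⟩
  · have hle : Subgroup.normalizer ((S : Subgroup G) : Set G) ≤
        Subgroup.centralizer ((S : Subgroup G) : Set G) := fun g hg => by
      have hgt : g * t * g⁻¹ ∈ cent t := hS ((Subgroup.mem_normalizer_iff.1 hg t).1 (z : S).2)
      have hg' : g ∈ cent t := he ▸ Subgroup.mem_normalizer_iff.2 fun y => by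
        conv_rhs => rw [← cent_eq h ht1 (by simpa using ht1) hgt]
        exact conj_mem_cent.symm
      exact Subgroup.mem_centralizer_iff.2 fun y hy => (comm_of_mem h ht1 (hS hy) hg').eq
    have hcompl := MonoidHom.ker_transferSylow_isComplement' S hle
    rcases (MonoidHom.transferSylow S hle).normal_ker.eq_bot_or_eq_top with hk | hk
    · rw [hk] at hcompl
      have h1 : (S : Subgroup G) = ⊤ := Subgroup.isComplement'_bot_left.1 hcompl
      exact hna ⟨⟨fun a b => (comm_of_mem h ht1 (hS (h1 ▸ Subgroup.mem_top a))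
        (hS (h1 ▸ Subgroup.mem_top b))).eq⟩⟩
    · rw [hk] at hcompl
      exact ht1 (Subgroup.mem_bot.1 (Subgroup.isComplement'_top_left.1 hcompl ▸ (z : S).2))

end Cfsg.Agent.CharDeep.CA
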