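import Cfsg.Agent.CharDeep.CA.AbelianMaximal
import Cfsg.Agent.CharDeep.CA.Main

/-!
Simple groups in which every non-abelian subgroup is self-normalising are CA-groups.
-/

set_option autoImplicit false

open scoped Pointwise commutatorElement

namespace Cfsg.Agent.CharDeep.CA

/-- Every non-abelian subgroup is self-normalising. -/
def SN (G : Type*) [Group G] : Prop :=
  ∀ H : Subgroup G, ¬ IsMulCommutative H → Subgroup.normalizer (H : Set G) = H

variable {G : Type*} [Group G]

theorem SN.subgroup (h : SN G) (K : Subgroup G) : SN K := by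
  intro H hH
  refine le_antisymm (fun x hx => ?_) Subgroup.le_normalizer
  have hH' : ¬ IsMulCommutative (H.map K.subtype) := fun hc => hH ⟨⟨fun a b => by
    have := commute_of_isMulCommutative' hc ⟨_, a.2, rfl⟩ ⟨_, b.2, rfl⟩
    exact Subtype.ext (Subtype.ext this.eq)⟩⟩
  have hxn : (x : G) ∈ Subgroup.normalizer ((H.map K.subtype : Subgroup G) : Set G) := by
    refine Subgroup.mem_normalizer_iff.2 fun z => ⟨?_, ?_⟩
    · rintro ⟨w, hw, rfl⟩
      exact ⟨x * w * x⁻¹, (Subgroup.mem_normalizer_iff.1 hx w).1 hw, rfl⟩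
    · rintro ⟨w, hw, he⟩
      refine ⟨x⁻¹ * w * x, (Subgroup.mem_normalizer_iff.1 hx _).2 (by simpa [mul_assoc] using hw), ?_⟩
      have he' : (w : G) = (x : G) * z * (x : G)⁻¹ := he
      simp [he', mul_assoc]
  rw [h _ hH'] at hxn
  obtain ⟨w, hw, he⟩ := hxn
  rwa [Subtype.ext (he : (w : G) = x)] at hw
where
  commute_of_isMulCommutative' {L : Subgroup G} (hL : IsMulCommutative L) {a b : G}
      (ha : a ∈ L) (hb : b ∈ L) : Commute a b :=
    congrArg Subtype.val (hL.is_comm.comm ⟨a, ha⟩ ⟨b, hb⟩)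

theorem SN.abelian_of_normal (h : SN G) (N : Subgroup G) (hN : N.Normal) (hNt : N ≠ ⊤) :
    IsMulCommutative N := by
  by_contra hc
  exact hNt ((h N hc).symm.trans (Subgroup.normalizer_eq_top_iff.2 hN))

variable [Finite G]

theorem SN.not_isSolvable (h : SN G) (hns : ¬ Group.IsSolvable G) : commutator G = ⊤ := by
  by_contra hne
  apply hns
  have hn : (commutator G).Normal := inferInstance
  have hab := h.abelian_of_normal _ hn hne
  refine ⟨⟨2, ?_⟩⟩
  rw [derivedSeries_succ, derivedSeries_one, Subgroup.commutator_eq_bot_iff_le_centralizer]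
  exact fun x hx => Subgroup.mem_centralizer_iff.2 fun y hy =>
    (commute_of_isMulCommutative hab hy hx).eq

/-- A perfect group with the property has trivial centre. -/
theorem SN.center_eq_bot (h : SN G) (hperf : commutator G = ⊤) (hna : ¬ IsMulCommutative G) :
    Subgroup.center G = ⊥ := by
  by_contra hZ
  obtain ⟨p, hp, hdvd⟩ := Nat.exists_prime_and_dvd
    (fun h1 => hZ (Subgroup.card_eq_one.1 h1) : Nat.card (Subgroup.center G) ≠ 1)
  haveI := Fact.mk hp
  obtain ⟨⟨x, hxc⟩, hx⟩ := exists_prime_orderOf_dvd_card' (G := Subgroup.center G) p hdvd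
  rw [Subgroup.orderOf_mk] at hx
  have hxpow : IsPGroup p (Subgroup.zpowers x) :=
    IsPGroup.of_card (n := 1) (by rw [Nat.card_zpowers, hx, pow_one])
  obtain ⟨P, hP⟩ := hxpow.exists_le_sylow
  have hfail : ∀ Q : Subgroup G, Q ≤ (P : Subgroup G) → Q ≠ ⊥ →
      ∀ g ∈ Subgroup.normalizer (Q : Set G), Nat.Coprime (orderOf g) p →
        g ∈ Subgroup.centralizer (Q : Set G) := by
    intro Q hQP _ g hg hgp
    by_cases hQab : IsMulCommutative Q
    swap
    · rw [h Q hQab] at hg
      obtain ⟨k, hk⟩ := (IsPGroup.iff_orderOf.1 P.2) ⟨g, hQP hg⟩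
      rw [Subgroup.orderOf_mk] at hk
      rcases k with _ | k
      · rw [pow_zero, orderOf_eq_one_iff] at hk
        rw [hk]; exact Subgroup.one_mem _
      · rw [hk] at hgp
        exact absurd ((Nat.coprime_pow_left_iff k.succ_pos p p).1 hgp)
          (by rw [Nat.coprime_self]; exact hp.ne_one)
    set Q' := Q ⊔ Subgroup.zpowers x with hQ'
    set M := Q' ⊔ Subgroup.zpowers g with hM
    have hcen : ∀ z : G, Commute x z := fun z => (Subgroup.mem_center_iff.1 hxc z).symm
    have hgn : g ∈ Subgroup.normalizer (Q' : Set G) := by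
      have hmap : Q'.map (MulAut.conj g).toMonoidHom = Q' := by
        rw [hQ', Subgroup.map_sup, MonoidHom.map_zpowers]
        congr 1
        · ext z
          rw [Subgroup.mem_map]
          refine ⟨?_, fun hz => ⟨g⁻¹ * z * g, ?_, by simp [mul_assoc]⟩⟩
          · rintro ⟨w, hw, rfl⟩
            exact (Subgroup.mem_normalizer_iff.1 hg w).1 hw
          · exact (Subgroup.mem_normalizer_iff.1 hg _).2 (by simpa [mul_assoc] using hz)
        · simp [MulAut.conj_apply, ← (hcen g).eq]
      refine Subgroup.mem_normalizer_iff.2 fun z => ⟨fun hz => hmap ▸ ⟨z, hz, rfl⟩, fun hz => ?_⟩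
      rw [← hmap] at hz
      obtain ⟨w, hw, he⟩ := hz
      rwa [(MulAut.conj g).injective (he : MulAut.conj g w = MulAut.conj g z)] at hw
    by_contra hgc
    have hMn : (Q'.subgroupOf M).Normal :=
      (Subgroup.normal_subgroupOf_iff_le_normalizer le_sup_left).2
        (sup_le Subgroup.le_normalizer (Subgroup.zpowers_le.2 hgn))
    haveI hzn : (Subgroup.zpowers x).Normal := ⟨fun z hz y => by
      obtain ⟨i, rfl⟩ := hz
      refine ⟨i, ?_⟩
      show x ^ i = y * x ^ i * y⁻¹
      rw [((hcen y).zpow_left i).symm.eq, mul_inv_cancel_right]⟩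
    have hQ'ab : ∀ a ∈ Q', ∀ b ∈ Q', Commute a b := by
      intro a ha b hb
      obtain ⟨a₁, ha₁, a₂, ha₂, rfl⟩ := Subgroup.mem_sup_of_normal_right.1 ha
      obtain ⟨b₁, hb₁, b₂, hb₂, rfl⟩ := Subgroup.mem_sup_of_normal_right.1 hb
      obtain ⟨i, rfl⟩ := ha₂
      obtain ⟨j, rfl⟩ := hb₂
      exact ((commute_of_isMulCommutative hQab ha₁ hb₁).mul_right ((hcen a₁).zpow_left j).symm).mul_left
        (((hcen _).zpow_left i))
    have hQ'p : IsPGroup p Q' := P.2.to_le (sup_le hQP hP)
    have hgM : g ∈ M := le_sup_right (a := Q') (Subgroup.mem_zpowers g)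
    have hnn : ¬ Group.IsNilpotent M := fun hn => hgc (Subgroup.mem_centralizer_iff.2 fun q hq => by
      obtain ⟨k, hk⟩ := (IsPGroup.iff_orderOf.1 (P.2.to_le hQP)) ⟨q, hq⟩
      rw [Subgroup.orderOf_mk] at hk
      have hqM : q ∈ M := le_sup_left (b := Subgroup.zpowers g) (le_sup_left (b := Subgroup.zpowers x) hq)
      exact congrArg Subtype.val (Transfer.nilpotent_commute_of_coprime hn (x := ⟨q, hqM⟩) (y := ⟨g, hgM⟩)
        (by rw [Subgroup.orderOf_mk, Subgroup.orderOf_mk, hk]; exact (hgp.symm).pow_left k)).eq)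
    haveI := hMn
    have hsol : Group.IsSolvable M := by
      haveI h1 : Group.IsSolvable (Q'.subgroupOf M) := isSolvable_of_comm fun a b =>
        Subtype.ext (Subtype.ext (hQ'ab _ (Subgroup.mem_subgroupOf.1 a.2) _ (Subgroup.mem_subgroupOf.1 b.2)).eq)
      haveI h2 : Group.IsSolvable (M ⧸ Q'.subgroupOf M) := by
        refine isSolvable_of_comm fun a b => ?_
        have hgen : ∀ c : M ⧸ Q'.subgroupOf M, c ∈ Subgroup.zpowers
            (QuotientGroup.mk ⟨g, hgM⟩ : M ⧸ Q'.subgroupOf M) := by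
          intro c
          induction c using QuotientGroup.induction_on
          rename_i m
          have hm : (m : G) ∈ ((Q' ⊔ Subgroup.zpowers g : Subgroup G) : Set G) := m.2
          rw [Subgroup.coe_mul_of_right_le_normalizer_left _ _ (Subgroup.zpowers_le.2 hgn)] at hm
          obtain ⟨q, hq, w, ⟨i, rfl⟩, he⟩ := Set.mem_mul.1 hm
          refine ⟨i, ?_⟩
          show (QuotientGroup.mk ⟨g, hgM⟩ : M ⧸ Q'.subgroupOf M) ^ i = _
          rw [← QuotientGroup.mk_zpow, QuotientGroup.eq, Subgroup.mem_subgroupOf]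
          simp only [Subgroup.coe_mul, InvMemClass.coe_inv, SubgroupClass.coe_zpow, ← he]
          rw [← mul_assoc]
          exact (Subgroup.mem_normalizer_iff''.1 ((Subgroup.normalizer _).zpow_mem hgn i) q).1 hq
        obtain ⟨i, hi⟩ := hgen a
        obtain ⟨j, hj⟩ := hgen b
        simp only [← hi, ← hj, ← zpow_add, add_comm i j]
      exact solvable_of_ker_le_range (Q'.subgroupOf M).subtype (QuotientGroup.mk' (Q'.subgroupOf M))
        (by rw [QuotientGroup.ker_mk', Subgroup.range_subtype])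
    obtain ⟨r, hr, hR, hS⟩ := structure_of_solvable (K := M) (fun N hN hNt => (h.subgroup M).abelian_of_normal N hN hNt) hsol hnn
    -- `x` shows `p = r`
    have hxM : x ∈ M := le_sup_left (b := Subgroup.zpowers g) (le_sup_right (a := Q) (Subgroup.mem_zpowers x))
    have hx1 : x ≠ 1 := fun h1 => by rw [h1, orderOf_one] at hx; exact hp.ne_one hx.symm
    obtain ⟨R⟩ := (inferInstance : Nonempty (Sylow r M))
    have hxR : (⟨x, hxM⟩ : M) ∈ (R : Subgroup M) := by
      rw [← (hR R).2, Subgroup.mem_normalizer_iff]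
      intro z
      rw [show (⟨x, hxM⟩ : M) * z * (⟨x, hxM⟩ : M)⁻¹ = z from Subtype.ext (by
        show x * (z : G) * x⁻¹ = z
        rw [(hcen _).eq, mul_inv_cancel_right])]
    have hpr : p = r := by
      obtain ⟨k, hk⟩ := (IsPGroup.iff_orderOf.1 R.2) ⟨_, hxR⟩
      rw [Subgroup.orderOf_mk, Subgroup.orderOf_mk, hx] at hk
      have : k ≠ 0 := fun h0 => by rw [h0, pow_zero] at hk; exact hp.ne_one hk
      exact (Nat.prime_dvd_prime_iff_eq hp hr.out).1 (hp.dvd_of_dvd_pow (dvd_of_eq hk))
    subst hpr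
    -- the normal `p`-subgroup `Q'` is central
    apply hgc
    refine Subgroup.mem_centralizer_iff.2 fun q hq => ?_
    have hqM : q ∈ M := le_sup_left (b := Subgroup.zpowers g) (le_sup_left (b := Subgroup.zpowers x) hq)
    have hqn : (⟨q, hqM⟩ : M) ∈ Q'.subgroupOf M := Subgroup.mem_subgroupOf.2
      (le_sup_left (b := Subgroup.zpowers x) hq)
    have hQR : Q'.subgroupOf M ≤ (R : Subgroup M) := by
      have hp' : IsPGroup p (Q'.subgroupOf M) := hQ'p.comap_subtype
      obtain ⟨R', hR'⟩ := hp'.exists_le_sylow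
      obtain ⟨c, hc⟩ := MulAction.exists_smul_eq M R' R
      intro z hz
      rw [← hc, Sylow.coe_subgroup_smul]
      exact ⟨c⁻¹ * z * c, hR' (by simpa using hMn.conj_mem z hz c⁻¹), by simp [mul_assoc]⟩
    have htop : Subgroup.centralizer ({(⟨q, hqM⟩ : M)} : Set M) = ⊤ := by
      refine Transfer.eq_top_of_prime_pow_orderOf_mem fun s hs w ⟨k, hk⟩ => ?_
      haveI := Fact.mk hs
      rw [Subgroup.mem_centralizer_singleton_iff]
      obtain ⟨T, hT⟩ := (IsPGroup.of_card (p := s) (n := k) (G := Subgroup.zpowers w)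
        (by rw [Nat.card_zpowers, hk])).exists_le_sylow
      by_cases hsp : s = p
      · subst hsp
        have hqT : (⟨q, hqM⟩ : M) ∈ (T : Subgroup M) := by
          obtain ⟨c, hc⟩ := MulAction.exists_smul_eq M R T
          rw [← hc, Sylow.coe_subgroup_smul]
          exact ⟨c⁻¹ * ⟨q, hqM⟩ * c, hQR (by simpa using hMn.conj_mem _ hqn c⁻¹), by simp [mul_assoc]⟩
        haveI := (hR T).1
        exact (commute_of_isMulCommutative inferInstance (hT (Subgroup.mem_zpowers w)) hqT).eq
      · haveI := (hS s hsp T).1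
        exact (Subgroup.commute_of_normal_of_disjoint (T : Subgroup M) (Q'.subgroupOf M) inferInstance
          hMn (IsPGroup.disjoint_of_ne s p hsp _ _ T.2 hQ'p.comap_subtype) w _
          (hT (Subgroup.mem_zpowers w)) hqn).eq
    have hmem : (⟨g, hgM⟩ : M) ∈ Subgroup.centralizer ({(⟨q, hqM⟩ : M)} : Set M) := by
      rw [htop]; exact Subgroup.mem_top _
    have hh : (⟨g, hgM⟩ : M) * ⟨q, hqM⟩ = ⟨q, hqM⟩ * ⟨g, hgM⟩ :=
      Subgroup.mem_centralizer_singleton_iff.1 hmem
    exact (congrArg Subtype.val hh).symm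
  obtain ⟨P', N, hN, hNc⟩ := Transfer.hasNormalPComplement_of_normalizer_centralizer P hfail
  haveI := hN
  have hP' : (P' : Subgroup G) = ⊥ := by
    by_contra hne
    haveI : Nontrivial (P' : Subgroup G) := (Subgroup.nontrivial_iff_ne_bot _).2 hne
    haveI := P'.2.isNilpotent
    have hlt := Group.IsSolvable.commutator_lt_top_of_nontrivial (P' : Subgroup G)
    let e : G ⧸ N ≃* (P' : Subgroup G) := hNc.symm.QuotientMulEquiv
    let f : G →* (P' : Subgroup G) := e.toMonoidHom.comp (QuotientGroup.mk' N)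
    have hf : Function.Surjective f := e.surjective.comp (QuotientGroup.mk'_surjective N)
    refine hlt.ne ?_
    rw [commutator_def, ← Subgroup.map_top_of_surjective f hf, ← Subgroup.map_commutator,
      ← commutator_def, hperf]
  have hdvdG : p ∣ Nat.card G := hdvd.trans (Subgroup.card_subgroup_dvd_card _)
  exact P'.ne_bot_of_dvd_card hdvdG hP'

theorem SN.perfect_subgroup (h : SN G) {K : Subgroup G} (hns : ¬ Group.IsSolvable K) :
    commutator K = ⊤ ∧ Subgroup.center K = ⊥ := by
  have hp := (h.subgroup K).not_isSolvable hns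
  exact ⟨hp, (h.subgroup K).center_eq_bot hp fun hc => hns (isSolvable_of_comm fun a b => hc.is_comm.comm a b)⟩

end Cfsg.Agent.CharDeep.CA
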