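import Cfsg.Agent.CharDeep.CA.SelfNorm

/-!
Simple groups with self-normalising non-abelian subgroups: centralisers are nilpotent, then abelian.
-/

set_option autoImplicit false

open scoped Pointwise commutatorElement

namespace Cfsg.Agent.CharDeep.CA

variable {G : Type*} [Group G] [Finite G] [IsSimpleGroup G]

theorem center_eq_bot_of_simple (hna : ¬ IsMulCommutative G) : Subgroup.center G = ⊥ := by
  rcases (inferInstance : (Subgroup.center G).Normal).eq_bot_or_eq_top with h | h
  · exact h
  · exact absurd ⟨⟨fun a b => (Subgroup.mem_center_iff.1 (h ▸ Subgroup.mem_top b) a)⟩⟩ hna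

/-- In a simple non-abelian group no Sylow subgroup is centralised by its normaliser. -/
theorem not_normalizer_le_centralizer (hna : ¬ IsMulCommutative G) {p : ℕ} [Fact p.Prime]
    (S : Sylow p G) (hS : (S : Subgroup G) ≠ ⊥)
    (hle : Subgroup.normalizer ((S : Subgroup G) : Set G) ≤
      Subgroup.centralizer ((S : Subgroup G) : Set G)) : False := by
  have hcompl := MonoidHom.ker_transferSylow_isComplement' S hle
  rcases (MonoidHom.transferSylow S hle).normal_ker.eq_bot_or_eq_top with h | h
  · rw [h] at hcompl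
    have h1 : (S : Subgroup G) = ⊤ := Subgroup.isComplement'_bot_left.1 hcompl
    exact hna ⟨⟨fun a b => Subgroup.mem_centralizer_iff.1
      (hle (Subgroup.le_normalizer (h1 ▸ Subgroup.mem_top b))) a (h1 ▸ Subgroup.mem_top a)⟩⟩
  · rw [h] at hcompl
    exact hS (Subgroup.isComplement'_top_left.1 hcompl)

theorem solvable_cent (h : SN G) {x : G} (hx : x ≠ 1) : Group.IsSolvable (cent x) := by
  by_contra hns
  have hbot := (h.perfect_subgroup hns).2
  have h1 : (⟨x, mem_cent.2 (Commute.refl x)⟩ : cent x) ∈ Subgroup.center (cent x) :=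
    Subgroup.mem_center_iff.2 fun z => Subtype.ext (mem_cent.1 z.2).eq
  rw [hbot, Subgroup.mem_bot] at h1
  exact hx (congrArg Subtype.val h1)

/-- A non-nilpotent centraliser forces its element to be an `r`-element in a cyclic self-normalising
Sylow `r`-subgroup. -/
theorem cent_structure (h : SN G) {x : G} (hx : x ≠ 1) (hnn : ¬ Group.IsNilpotent (cent x)) :
    ∃ (r : ℕ) (_ : Fact r.Prime) (R : Sylow r (cent x)),
      (⟨x, mem_cent.2 (Commute.refl x)⟩ : cent x) ∈ (R : Subgroup (cent x)) ∧
      IsCyclic (R : Subgroup (cent x)) ∧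
      Subgroup.normalizer ((R : Subgroup (cent x)) : Set (cent x)) = (R : Subgroup (cent x)) := by
  obtain ⟨r, hr, hR, -⟩ := structure_of_solvable (K := cent x)
    (fun N hN hNt => (h.subgroup (cent x)).abelian_of_normal N hN hNt) (solvable_cent h hx) hnn
  obtain ⟨R⟩ := (inferInstance : Nonempty (Sylow r (cent x)))
  refine ⟨r, hr, R, ?_, hR R⟩
  rw [← (hR R).2, Subgroup.mem_normalizer_iff]
  intro z
  rw [show (⟨x, mem_cent.2 (Commute.refl x)⟩ : cent x) * z * (⟨x, _⟩ : cent x)⁻¹ = z from Subtype.ext (by
    show x * (z : G) * x⁻¹ = z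
    rw [← (mem_cent.1 z.2).eq, mul_inv_cancel_right])]

theorem isNilpotent_cent (h : SN G) (hna : ¬ IsMulCommutative G) {x : G} (hx : x ≠ 1) :
    Group.IsNilpotent (cent x) := by
  by_contra hnn
  obtain ⟨r, hr, R, hxR, -, -⟩ := cent_structure h hx hnn
  obtain ⟨k, hk⟩ := (IsPGroup.iff_orderOf.1 R.2) ⟨_, hxR⟩
  rw [Subgroup.orderOf_mk, Subgroup.orderOf_mk] at hk
  obtain ⟨m, hm⟩ : ∃ m, k = m + 1 := ⟨k - 1, by
    rcases k with _ | k
    · rw [pow_zero, orderOf_eq_one_iff] at hk; exact absurd hk hx
    · rfl⟩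
  set w := x ^ (r ^ m) with hw
  have hwo : orderOf w = r := by
    rw [hw, orderOf_pow' _ (pow_ne_zero m hr.out.ne_zero), hk, hm,
      Nat.gcd_eq_right (pow_dvd_pow r (Nat.le_succ m)), pow_succ,
      Nat.mul_div_cancel_left _ (pow_pos hr.out.pos m)]
  have hw1 : w ≠ 1 := fun h1 => by rw [h1, orderOf_one] at hwo; exact hr.out.ne_one hwo.symm
  have hle : cent x ≤ cent w := fun z hz => mem_cent.2 ((mem_cent.1 hz).pow_right _)
  have hnn' : ¬ Group.IsNilpotent (cent w) := fun hn => hnn (by
    haveI := hn
    exact Group.nilpotent_of_mulEquiv (Subgroup.subgroupOfEquivOfLe hle))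
  obtain ⟨r', hr', R', hwR, hcyc, hself⟩ := cent_structure h hw1 hnn'
  have hrr : r = r' := by
    obtain ⟨j, hj⟩ := (IsPGroup.iff_orderOf.1 R'.2) ⟨_, hwR⟩
    rw [Subgroup.orderOf_mk, Subgroup.orderOf_mk, hwo] at hj
    exact (Nat.prime_dvd_prime_iff_eq hr.out hr'.out).1 (hr.out.dvd_of_dvd_pow (dvd_of_eq hj))
  subst hrr
  have hnab : ¬ IsMulCommutative (cent w) := fun hc => hnn' (by
    haveI := hc
    open scoped IsMulCommutative in infer_instance)
  set T : Subgroup G := (R' : Subgroup (cent w)).map (cent w).subtype with hT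
  have hwT : w ∈ T := ⟨_, hwR, rfl⟩
  have hTcyc : IsCyclic T := by
    haveI := hcyc
    exact isCyclic_of_surjective _ ((R' : Subgroup (cent w)).equivMapOfInjective _
      (cent w).subtype_injective).surjective
  have hnorm : ∀ g ∈ Subgroup.normalizer (T : Set G), g ∈ T := by
    intro g hg
    have hgw : g * w * g⁻¹ ∈ Subgroup.zpowers w := by
      have hgwT : g * w * g⁻¹ ∈ T := (Subgroup.mem_normalizer_iff.1 hg w).1 hwT
      haveI := Fintype.ofFinite T
      classical
      by_contra hno
      have hle1 := IsCyclic.card_pow_eq_one_le (α := T) hr.out.pos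
      have hsub : (Finset.univ.filter fun z : T => (z : G) ∈ Subgroup.zpowers w) ⊂
          Finset.univ.filter fun z : T => z ^ r = 1 := by
        refine Finset.ssubset_iff_of_subset (fun z hz => ?_) |>.2 ⟨⟨_, hgwT⟩, ?_, ?_⟩
        · simp only [Finset.mem_filter, Finset.mem_univ, true_and] at hz ⊢
          obtain ⟨i, hi⟩ := hz
          refine Subtype.ext ?_
          show (z : G) ^ r = 1
          rw [← hi]
          show (w ^ i) ^ r = 1
          rw [← zpow_natCast (w ^ i), ← zpow_mul, mul_comm, zpow_mul, zpow_natCast, ← hwo,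
            pow_orderOf_eq_one, one_zpow]
        · simp only [Finset.mem_filter, Finset.mem_univ, true_and]
          refine Subtype.ext ?_
          show (g * w * g⁻¹) ^ r = 1
          rw [conj_pow, ← hwo, pow_orderOf_eq_one, mul_one, mul_inv_cancel]
        · simp only [Finset.mem_filter, Finset.mem_univ, true_and]
          exact hno
      have hlt := (Finset.card_lt_card hsub).trans_le hle1
      have hzT : Subgroup.zpowers w ≤ T := Subgroup.zpowers_le.2 hwT
      have hcz : (Finset.univ.filter fun z : T => (z : G) ∈ Subgroup.zpowers w).card = r := by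
        rw [← Fintype.card_subtype, ← Nat.card_eq_fintype_card,
          ← hwo, ← Nat.card_zpowers]
        exact Nat.card_congr (Subgroup.subgroupOfEquivOfLe hzT).toEquiv
      omega
    have hceq : cent (g * w * g⁻¹) = cent w := by
      obtain ⟨i, hi⟩ := hgw
      have hne : g * w * g⁻¹ ≠ 1 := by simpa using hw1
      refine le_antisymm (fun z hz => ?_) fun z hz => ?_
      · have hgen : w ∈ Subgroup.zpowers (g * w * g⁻¹) := by
          have heq : Subgroup.zpowers (g * w * g⁻¹) = Subgroup.zpowers w := by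
            refine Subgroup.eq_of_le_of_card_ge (Subgroup.zpowers_le.2 ⟨i, hi⟩) ?_
            rw [Nat.card_zpowers, Nat.card_zpowers, ← MulAut.conj_apply, MulEquiv.orderOf_eq]
          rw [heq]; exact Subgroup.mem_zpowers w
        obtain ⟨j, hj⟩ := hgen
        rw [← hj]
        exact mem_cent.2 ((mem_cent.1 hz).zpow_right j)
      · rw [← hi]
        exact mem_cent.2 ((mem_cent.1 hz).zpow_right i)
    have hgK : g ∈ cent w := by
      rw [← h (cent w) hnab]
      refine Subgroup.mem_normalizer_iff.2 fun z => ?_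
      conv_rhs => rw [← hceq]
      exact conj_mem_cent.symm
    have : (⟨g, hgK⟩ : cent w) ∈ Subgroup.normalizer ((R' : Subgroup (cent w)) : Set (cent w)) := by
      refine Subgroup.mem_normalizer_iff.2 fun z => ?_
      have h1 := Subgroup.mem_normalizer_iff.1 hg (z : G)
      have h2 : ∀ y : cent w, y ∈ (R' : Subgroup (cent w)) ↔ (y : G) ∈ T := fun y =>
        ⟨fun hy => ⟨y, hy, rfl⟩, fun ⟨y', hy', he⟩ => by rwa [Subtype.ext (he : (y' : G) = y)] at hy'⟩
      rw [h2, h2]
      exact h1
    rw [hself] at this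
    exact ⟨_, this, rfl⟩
  have hTp : IsPGroup r T := R'.2.map _
  obtain ⟨S, hTS⟩ := hTp.exists_le_sylow
  have hST : (S : Subgroup G) = T := by
    by_contra hne
    have hlt : T < (S : Subgroup G) := lt_of_le_of_ne hTS (Ne.symm hne)
    haveI := S.2.isNilpotent
    have hlt' : T.subgroupOf (S : Subgroup G) < ⊤ := lt_top_iff_ne_top.2 fun htop =>
      hlt.not_ge (Subgroup.subgroupOf_eq_top.1 htop)
    obtain ⟨g, hg, hgT⟩ := SetLike.exists_of_lt (Group.normalizerCondition_of_isNilpotent _ hlt')
    refine hgT (Subgroup.mem_subgroupOf.2 (hnorm g ?_))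
    refine Subgroup.mem_normalizer_iff.2 fun z => ⟨fun hz => ?_, fun hz => ?_⟩
    · exact (Subgroup.mem_normalizer_iff.1 hg ⟨z, hTS hz⟩).1 hz
    · have hzS : z ∈ (S : Subgroup G) := by
        have := (S : Subgroup G).mul_mem ((S : Subgroup G).mul_mem ((S : Subgroup G).inv_mem g.2) (hTS hz)) g.2
        simpa [mul_assoc] using this
      exact (Subgroup.mem_normalizer_iff.1 hg ⟨z, hzS⟩).2 hz
  refine not_normalizer_le_centralizer hna S (fun hb => hw1 ?_) fun g hg => ?_
  · rw [hST] at hb
    rw [hb, Subgroup.mem_bot] at hwT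
    exact hwT
  · rw [hST] at hg ⊢
    haveI := hTcyc
    exact Subgroup.mem_centralizer_iff.2 fun z hz =>
      (commute_of_isMulCommutative inferInstance hz (hnorm g hg)).eq

/-- Failure of Frobenius' criterion at the `p`-subgroup `D`. -/
def Fails (p : ℕ) (D : Subgroup G) : Prop :=
  IsPGroup p D ∧ ∃ g ∈ Subgroup.normalizer (D : Set G),
    (orderOf g).Coprime p ∧ g ∉ Subgroup.centralizer (D : Set G)

theorem isCA_of_SN (h : SN G) (hna : ¬ IsMulCommutative G) : IsCA G := by
  classical
  intro a b c _ hb _ hab hbc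
  by_cases hB : IsMulCommutative (cent b)
  · exact commute_of_isMulCommutative hB (mem_cent.2 hab) (mem_cent.2 hbc.symm)
  exfalso
  have hBnil := isNilpotent_cent h hna hb
  obtain ⟨p, hp, hBp⟩ := isPGroup_of_nilpotent (K := cent b) hBnil
    (fun N hN hNt => (h.subgroup (cent b)).abelian_of_normal N hN hNt) hB
  haveI := Fact.mk hp
  obtain ⟨P, hP⟩ := hBp.exists_le_sylow
  have hPna : ¬ IsMulCommutative (P : Subgroup G) := fun hc => hB (isMulCommutative_of_le hP hc)
  have hsylna : ∀ S : Sylow p G, ¬ IsMulCommutative (S : Subgroup G) := fun S hc => hPna ⟨⟨fun x y => by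
    obtain ⟨g, hg⟩ := MulAction.exists_smul_eq G P S
    have hm : ∀ z : (P : Subgroup G), g * (z : G) * g⁻¹ ∈ (S : Subgroup G) := fun z => by
      rw [← hg, Sylow.coe_subgroup_smul]
      exact ⟨z, z.2, rfl⟩
    have := (commute_of_isMulCommutative hc (hm x) (hm y)).eq
    refine Subtype.ext ?_
    show (x : G) * y = y * x
    refine mul_left_cancel (a := g) (mul_right_cancel (b := g⁻¹) ?_)
    simpa [mul_assoc] using this⟩⟩
  -- a maximal failing subgroup
  have hex : ∃ D : Subgroup G, Fails p D := by
    by_contra hno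
    push Not at hno
    obtain ⟨P', N, hN, hNc⟩ := Transfer.hasNormalPComplement_of_normalizer_centralizer P
      fun Q hQ _ g hg hgp => by
        by_contra hgc
        exact hno Q ⟨P.2.to_le hQ, g, hg, hgp, hgc⟩
    rcases hN.eq_bot_or_eq_top with hb' | hb'
    · rw [hb'] at hNc
      have h1 : (P' : Subgroup G) = ⊤ := Subgroup.isComplement'_bot_left.1 hNc
      have h2 : Subgroup.center G ≠ ⊥ := by
        haveI : Nontrivial G := ⟨⟨b, 1, hb⟩⟩
        have hG : IsPGroup p G := P'.2.of_equiv (h1 ▸ Subgroup.topEquiv)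
        exact (Subgroup.nontrivial_iff_ne_bot _).1 hG.center_nontrivial
      exact h2 (center_eq_bot_of_simple hna)
    · rw [hb'] at hNc
      exact hsylna P' (by rw [Subgroup.isComplement'_top_left.1 hNc]; infer_instance)
  haveI : Fintype {D : Subgroup G // Fails p D} := Fintype.ofFinite _
  haveI : Nonempty {D : Subgroup G // Fails p D} := ⟨⟨_, hex.choose_spec⟩⟩
  obtain ⟨⟨D, hDp, g, hg, hgp, hgc⟩, hmax⟩ :=
    Finite.exists_max fun D : {D : Subgroup G // Fails p D} => Nat.card D.1
  have hD1 : D ≠ ⊥ := fun hd => hgc (Subgroup.mem_centralizer_iff.2 fun z hz => by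
    rw [hd] at hz
    rw [Subgroup.mem_bot.1 hz]; simp)
  set L := Subgroup.normalizer (D : Set G) with hL
  have hLne : L ≠ ⊤ := fun ht => by
    rcases (Subgroup.normalizer_eq_top_iff.1 ht).eq_bot_or_eq_top with hd | hd
    · exact hD1 hd
    · exact hgc (by
        obtain ⟨k, hk⟩ := (IsPGroup.iff_orderOf.1 hDp) ⟨g, hd ▸ Subgroup.mem_top g⟩
        rw [Subgroup.orderOf_mk] at hk
        rcases k with _ | k
        · rw [pow_zero, orderOf_eq_one_iff] at hk; rw [hk]; exact Subgroup.one_mem _
        · rw [hk] at hgp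
          exact absurd ((Nat.coprime_pow_left_iff k.succ_pos p p).1 hgp)
            (by rw [Nat.coprime_self]; exact hp.ne_one))
  have hDab : IsMulCommutative D := by
    by_contra hc
    have hgD : g ∈ D := by rw [← h D hc]; exact hg
    obtain ⟨k, hk⟩ := (IsPGroup.iff_orderOf.1 hDp) ⟨g, hgD⟩
    rw [Subgroup.orderOf_mk] at hk
    rcases k with _ | k
    · rw [pow_zero, orderOf_eq_one_iff] at hk
      exact hgc (hk ▸ Subgroup.one_mem _)
    · rw [hk] at hgp
      exact absurd ((Nat.coprime_pow_left_iff k.succ_pos p p).1 hgp)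
        (by rw [Nat.coprime_self]; exact hp.ne_one)
  have hDL : D ≤ L := Subgroup.le_normalizer
  set D' := D.subgroupOf L with hD'
  haveI hD'n : D'.Normal := Subgroup.normal_in_normalizer
  have hD'ab : IsMulCommutative D' := ⟨⟨fun x y => Subtype.ext (Subtype.ext
    (commute_of_isMulCommutative hDab (Subgroup.mem_subgroupOf.1 x.2) (Subgroup.mem_subgroupOf.1 y.2)).eq)⟩⟩
  have hD'p : IsPGroup p D' := hDp.comap_subtype
  have hgc' : (⟨g, hg⟩ : L) ∉ Subgroup.centralizer (D' : Set L) := fun hh => hgc
    (Subgroup.mem_centralizer_iff.2 fun z hz =>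
      congrArg Subtype.val (Subgroup.mem_centralizer_iff.1 hh ⟨z, hDL hz⟩ hz))
  have hLnn : ∀ M : Subgroup L, D' ≤ M → (⟨g, hg⟩ : L) ∈ M → ¬ Group.IsNilpotent M := by
    intro M hDM hgM hn
    refine hgc' (Subgroup.mem_centralizer_iff.2 fun z hz => ?_)
    obtain ⟨k, hk⟩ := (IsPGroup.iff_orderOf.1 hD'p) ⟨z, hz⟩
    rw [Subgroup.orderOf_mk] at hk
    exact congrArg Subtype.val (Transfer.nilpotent_commute_of_coprime hn (x := ⟨z, hDM hz⟩)
      (y := ⟨⟨g, hg⟩, hgM⟩) (by
        rw [← Subgroup.orderOf_coe, ← Subgroup.orderOf_coe (⟨⟨g, hg⟩, hgM⟩ : M)]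
        show (orderOf z).Coprime (orderOf (⟨g, hg⟩ : L))
        rw [hk, ← Subgroup.orderOf_coe (⟨g, hg⟩ : L)]
        exact hgp.symm.pow_left k)).eq
  have hS : SN L := h.subgroup L
  obtain ⟨PL, hPL⟩ := hD'p.exists_le_sylow
  by_cases hsol : Group.IsSolvable L
  · have hnn : ¬ Group.IsNilpotent L := fun hn => hLnn ⊤ le_top (Subgroup.mem_top _) (by
      haveI := hn
      exact Group.nilpotent_of_mulEquiv Subgroup.topEquiv.symm)
    obtain ⟨r, hr, hR, hT⟩ := structure_of_solvable (K := L)
      (fun N hN hNt => hS.abelian_of_normal N hN hNt) hsol hnn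
    have hpr : p ≠ r := by
      rintro rfl
      apply hgc'
      refine Subgroup.mem_centralizer_iff.2 fun z hz => ?_
      have htop : Subgroup.centralizer ({z} : Set L) = ⊤ := by
        refine Transfer.eq_top_of_prime_pow_orderOf_mem fun s hs w ⟨k, hk⟩ => ?_
        haveI := Fact.mk hs
        rw [Subgroup.mem_centralizer_singleton_iff]
        obtain ⟨T, hwT⟩ := (IsPGroup.of_card (p := s) (n := k) (G := Subgroup.zpowers w)
          (by rw [Nat.card_zpowers, hk])).exists_le_sylow
        by_cases hsp : s = p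
        · subst hsp
          obtain ⟨e, he⟩ := MulAction.exists_smul_eq L PL T
          have hzT : z ∈ (T : Subgroup L) := by
            rw [← he, Sylow.coe_subgroup_smul]
            exact ⟨e⁻¹ * z * e, hPL (by simpa using hD'n.conj_mem z hz e⁻¹), by simp [mul_assoc]⟩
          haveI := (hR T).1
          exact (commute_of_isMulCommutative inferInstance (hwT (Subgroup.mem_zpowers w)) hzT).eq
        · haveI := (hT s hsp T).1
          exact (Subgroup.commute_of_normal_of_disjoint (T : Subgroup L) D' inferInstance hD'n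
            (IsPGroup.disjoint_of_ne s p hsp _ _ T.2 hD'p) w z
            (hwT (Subgroup.mem_zpowers w)) hz).eq
      have hmem : (⟨g, hg⟩ : L) ∈ Subgroup.centralizer ({z} : Set L) := by
        rw [htop]; exact Subgroup.mem_top _
      exact (Subgroup.mem_centralizer_singleton_iff.1 hmem).symm
    obtain ⟨hPn, -⟩ := hT p hpr PL
    set E := (PL : Subgroup L).map L.subtype with hE
    have hDE : D < E := by
      refine lt_of_le_of_ne (fun z hz => ⟨⟨z, hDL hz⟩, hPL hz, rfl⟩) fun he => ?_
      obtain ⟨S, hDS⟩ := hDp.exists_le_sylow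
      have hlt : D < (S : Subgroup G) := lt_of_le_of_ne hDS fun he' => hsylna S (he' ▸ hDab)
      haveI := S.2.isNilpotent
      have hlt' : D.subgroupOf (S : Subgroup G) < ⊤ := lt_top_iff_ne_top.2 fun htop =>
        hlt.not_ge (Subgroup.subgroupOf_eq_top.1 htop)
      obtain ⟨w, hw, hwD⟩ := SetLike.exists_of_lt (Group.normalizerCondition_of_isNilpotent _ hlt')
      have hwL : (w : G) ∈ L := Subgroup.mem_normalizer_iff.2 fun z => ⟨fun hz => by
          exact (Subgroup.mem_normalizer_iff.1 hw ⟨z, hDS hz⟩).1 hz, fun hz => by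
          have hzS : z ∈ (S : Subgroup G) := by
            have := (S : Subgroup G).mul_mem ((S : Subgroup G).mul_mem ((S : Subgroup G).inv_mem w.2) (hDS hz)) w.2
            simpa [mul_assoc] using this
          exact (Subgroup.mem_normalizer_iff.1 hw ⟨z, hzS⟩).2 hz⟩
      obtain ⟨k, hk⟩ := (IsPGroup.iff_orderOf.1 S.2) w
      obtain ⟨T, hwT⟩ := (IsPGroup.of_card (p := p) (n := k) (G := Subgroup.zpowers (⟨w, hwL⟩ : L))
        (by rw [Nat.card_zpowers, Subgroup.orderOf_mk, Subgroup.orderOf_coe, hk])).exists_le_sylow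
      haveI := hPn
      have hTP : T = PL := by
        obtain ⟨e, he'⟩ := MulAction.exists_smul_eq L PL T
        rw [← he']
        exact Sylow.smul_eq_of_normal
      apply hwD
      rw [Subgroup.mem_subgroupOf, he]
      exact ⟨⟨w, hwL⟩, hTP ▸ hwT (Subgroup.mem_zpowers _), rfl⟩
    have hfail : Fails p E := by
      refine ⟨PL.2.map _, g, ?_, hgp, fun hh => hgc (Subgroup.mem_centralizer_iff.2 fun z hz =>
        Subgroup.mem_centralizer_iff.1 hh z (hDE.le hz))⟩
      refine Subgroup.mem_normalizer_iff.2 fun z => ⟨?_, ?_⟩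
      · rintro ⟨w, hw, rfl⟩
        exact ⟨⟨g, hg⟩ * w * ⟨g, hg⟩⁻¹, hPn.conj_mem w hw _, rfl⟩
      · rintro ⟨w, hw, he⟩
        refine ⟨⟨g, hg⟩⁻¹ * w * ⟨g, hg⟩, ?_, ?_⟩
        · have := hPn.conj_mem w hw (⟨g, hg⟩ : L)⁻¹
          rw [inv_inv] at this
          exact this
        have he' : (w : G) = g * z * g⁻¹ := he
        simp [he', mul_assoc]
    have := hmax ⟨E, hfail⟩
    exact absurd (Subgroup.eq_of_le_of_card_ge hDE.le this) hDE.ne
  · obtain ⟨hperf, -⟩ := h.perfect_subgroup hsol
    set C := Subgroup.centralizer (D' : Set L) with hC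
    haveI hCn : C.Normal := Subgroup.normal_centralizer
    have hCne : C ≠ ⊤ := fun ht => hgc' (ht ▸ Subgroup.mem_top _)
    have hCab := hS.abelian_of_normal C hCn hCne
    haveI : Nontrivial (L ⧸ C) := QuotientGroup.nontrivial_iff.2 hCne
    have hperfQ : commutator (L ⧸ C) = ⊤ := by
      rw [commutator_def, ← Subgroup.map_top_of_surjective _ (QuotientGroup.mk'_surjective C),
        ← Subgroup.map_commutator, ← commutator_def, hperf]
    -- a quotient of prime power order would be abelian
    have hnoHom : ∀ (s : ℕ) [Fact s.Prime] (N : Subgroup (L ⧸ C)) [N.Normal] (S : Subgroup (L ⧸ C)),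
        IsPGroup s S → S ≠ ⊥ → N.IsComplement' S → False := by
      intro s hs N hN S hSp hSne hNc
      haveI : Nontrivial S := (Subgroup.nontrivial_iff_ne_bot _).2 hSne
      haveI := hSp.isNilpotent
      have hlt := Group.IsSolvable.commutator_lt_top_of_nontrivial S
      let f : (L ⧸ C) →* S := hNc.symm.QuotientMulEquiv.toMonoidHom.comp (QuotientGroup.mk' N)
      have hf : Function.Surjective f :=
        hNc.symm.QuotientMulEquiv.surjective.comp (QuotientGroup.mk'_surjective N)
      refine hlt.ne ?_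
      rw [commutator_def, ← Subgroup.map_top_of_surjective f hf, ← Subgroup.map_commutator,
        ← commutator_def, hperfQ]
    by_cases hPLab : IsMulCommutative (PL : Subgroup L)
    · -- `L / C` has order prime to `p`
      have hPC : (PL : Subgroup L) ≤ C := fun z hz => Subgroup.mem_centralizer_iff.2 fun y hy =>
        (commute_of_isMulCommutative hPLab (hPL hy) hz).eq
      have hnp : ¬ p ∣ C.index := fun hd => PL.not_dvd_index (hd.trans (Subgroup.index_dvd_of_le hPC))
      have hne1 : Nat.card (L ⧸ C) ≠ 1 := Finite.one_lt_card.ne'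
      set q := (Nat.card (L ⧸ C)).minFac with hq
      haveI hqf : Fact q.Prime := ⟨Nat.minFac_prime hne1⟩
      have hqp : q ≠ p := fun he => hnp (by rw [Subgroup.index_eq_card, ← he]; exact Nat.minFac_dvd _)
      obtain ⟨R⟩ := (inferInstance : Nonempty (Sylow q L))
      set Rb := R.mapSurjective (QuotientGroup.mk'_surjective C) with hRb
      have hRbne : (Rb : Subgroup (L ⧸ C)) ≠ ⊥ := Rb.ne_bot_of_dvd_card (Nat.minFac_dvd _)
      have hRC : ¬ (R : Subgroup L) ≤ C := fun hle => hRbne (by
        rw [hRb, Sylow.coe_mapSurjective, Subgroup.map_eq_bot_iff, QuotientGroup.ker_mk']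
        exact hle)
      set M := D' ⊔ (R : Subgroup L) with hM
      have hnnM : ¬ Group.IsNilpotent M := fun hn => hRC fun z hz =>
        Subgroup.mem_centralizer_iff.2 fun y hy => by
          obtain ⟨i, hi⟩ := (IsPGroup.iff_orderOf.1 hD'p) ⟨y, hy⟩
          obtain ⟨j, hj⟩ := (IsPGroup.iff_orderOf.1 R.2) ⟨z, hz⟩
          rw [Subgroup.orderOf_mk] at hi hj
          exact congrArg Subtype.val (Transfer.nilpotent_commute_of_coprime hn
            (x := ⟨y, le_sup_left (b := (R : Subgroup L)) hy⟩) (y := ⟨z, le_sup_right (a := D') hz⟩) (by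
              rw [← Subgroup.orderOf_coe, ← Subgroup.orderOf_coe (⟨z, le_sup_right (a := D') hz⟩ : M)]
              show (orderOf y).Coprime (orderOf z)
              rw [hi, hj]
              exact ((Nat.coprime_primes hp hqf.out).2 hqp.symm).pow i j)).eq
      have hsolM : Group.IsSolvable M := by
        haveI h1 : Group.IsSolvable (D'.subgroupOf M) := isSolvable_of_comm fun x y =>
          Subtype.ext (Subtype.ext (commute_of_isMulCommutative hD'ab
            (Subgroup.mem_subgroupOf.1 x.2) (Subgroup.mem_subgroupOf.1 y.2)).eq)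
        haveI : (D'.subgroupOf M).Normal := hD'n.subgroupOf M
        haveI hRnil := R.2.isNilpotent
        let φ : (R : Subgroup L) →* M ⧸ D'.subgroupOf M :=
          (QuotientGroup.mk' (D'.subgroupOf M)).comp (Subgroup.inclusion le_sup_right)
        have hφ : Function.Surjective φ := by
          intro c
          induction c using QuotientGroup.induction_on
          rename_i m
          obtain ⟨y, hy, z, hz, he⟩ := Subgroup.mem_sup_of_normal_left.1 (m.2 : (m : L) ∈ D' ⊔ (R : Subgroup L))
          refine ⟨⟨z, hz⟩, ?_⟩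
          show (QuotientGroup.mk _ : M ⧸ D'.subgroupOf M) = QuotientGroup.mk m
          rw [QuotientGroup.eq, Subgroup.mem_subgroupOf]
          simp only [Subgroup.coe_mul, InvMemClass.coe_inv, Subgroup.coe_inclusion, ← he]
          simpa [mul_assoc] using hD'n.conj_mem y hy z⁻¹
        haveI h2 : Group.IsSolvable (M ⧸ D'.subgroupOf M) := solvable_of_surjective hφ
        exact solvable_of_ker_le_range (D'.subgroupOf M).subtype (QuotientGroup.mk' (D'.subgroupOf M))
          (by rw [QuotientGroup.ker_mk', Subgroup.range_subtype])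
      obtain ⟨r, hr, hR', hT'⟩ := structure_of_solvable (K := M)
        (fun N hN hNt => (hS.subgroup M).abelian_of_normal N hN hNt) hsolM hnnM
      have hqr : q = r := by
        by_contra hne
        apply hRC
        have hn := (hT' q hne (R.subtype le_sup_right)).1
        rw [Sylow.coe_subtype] at hn
        refine fun z hz => Subgroup.mem_centralizer_iff.2 fun y hy => ?_
        have hz' : (⟨z, le_sup_right (a := D') hz⟩ : M) ∈ (R : Subgroup L).subgroupOf M :=
          Subgroup.mem_subgroupOf.2 hz
        exact congrArg Subtype.val (Subgroup.commute_of_normal_of_disjoint (D'.subgroupOf M)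
          ((R : Subgroup L).subgroupOf M) (hD'n.subgroupOf M) hn
          (IsPGroup.disjoint_of_ne p q hqp.symm _ _ hD'p.comap_subtype R.2.comap_subtype)
          ⟨y, le_sup_left (b := (R : Subgroup L)) hy⟩ ⟨z, le_sup_right (a := D') hz⟩
          (Subgroup.mem_subgroupOf.2 hy) hz').eq
      subst hqr
      have hRcyc : IsCyclic (R : Subgroup L) := by
        have := (hR' (R.subtype le_sup_right)).1
        rw [Sylow.coe_subtype] at this
        have hle' : (R : Subgroup L) ≤ M := le_sup_right
        exact isCyclic_of_surjective (Subgroup.subgroupOfEquivOfLe hle').toMonoidHom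
          (Subgroup.subgroupOfEquivOfLe hle').surjective
      have hRbcyc : IsCyclic (Rb : Subgroup (L ⧸ C)) := by
        rw [hRb, Sylow.coe_mapSurjective]
        haveI := hRcyc
        exact isCyclic_of_surjective _ (MonoidHom.subgroupMap_surjective _ _)
      exact hnoHom q _ _ Rb.2 hRbne (IsCyclic.isComplement' hq.symm hRbcyc)
    · -- the image of a Sylow subgroup is abelian and self-normalising
      have hself : Subgroup.normalizer ((PL : Subgroup L) : Set L) = (PL : Subgroup L) := hS _ hPLab
      have hPfull : ∀ x ∈ (PL : Subgroup L), ∀ y ∈ (PL : Subgroup L), ⁅x, y⁆ ∈ C := by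
        intro x hx y hy
        haveI : Group.IsNilpotent (PL : Subgroup L) := PL.2.isNilpotent
        have hPS : SN (PL : Subgroup L) := hS.subgroup _
        have hcenC : ∀ z : (PL : Subgroup L), z ∈ Subgroup.center (PL : Subgroup L) → (z : L) ∈ C :=
          fun z hz => Subgroup.mem_centralizer_iff.2 fun d hd =>
            congrArg Subtype.val (Subgroup.mem_center_iff.1 hz ⟨d, hPL hd⟩)
        obtain h0 | ⟨M₁, hM₁, -⟩ := eq_top_or_exists_le_coatom (⊥ : Subgroup (PL : Subgroup L))
        · exact absurd ⟨⟨fun u v => by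
            have hu : u ∈ (⊥ : Subgroup (PL : Subgroup L)) := h0 ▸ Subgroup.mem_top u
            rw [Subgroup.mem_bot.1 hu, one_mul, mul_one]⟩⟩ hPLab
        have hM₁n : M₁.Normal :=
          Subgroup.NormalizerCondition.normal_of_coatom M₁ Group.normalizerCondition_of_isNilpotent hM₁
        obtain ⟨u, hu⟩ : ∃ u, u ∉ M₁ := by
          by_contra hno
          push Not at hno
          exact hM₁.1 (eq_top_iff.2 fun z _ => hno z)
        have hzu : Subgroup.zpowers u ≠ ⊤ := fun ht => hPLab ⟨⟨fun v w => by
          obtain ⟨i, rfl⟩ := (ht ▸ Subgroup.mem_top v : v ∈ Subgroup.zpowers u)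
          obtain ⟨j, rfl⟩ := (ht ▸ Subgroup.mem_top w : w ∈ Subgroup.zpowers u)
          exact ((Commute.refl u).zpow_zpow i j).eq⟩⟩
        obtain h0 | ⟨M₂, hM₂, hle₂⟩ := eq_top_or_exists_le_coatom (Subgroup.zpowers u)
        · exact absurd h0 hzu
        have hM₂n : M₂.Normal :=
          Subgroup.NormalizerCondition.normal_of_coatom M₂ Group.normalizerCondition_of_isNilpotent hM₂
        have hsup : M₁ ⊔ M₂ = ⊤ := hM₁.2 _ (left_lt_sup.2 fun hle =>
          hu (hle (hle₂ (Subgroup.mem_zpowers u))))
        have ha₁ := hPS.abelian_of_normal M₁ hM₁n hM₁.1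
        have ha₂ := hPS.abelian_of_normal M₂ hM₂n hM₂.1
        set xy : (PL : Subgroup L) := ⁅(⟨x, hx⟩ : (PL : Subgroup L)), (⟨y, hy⟩ : (PL : Subgroup L))⁆ with hxy
        have hquot : ∀ (M : Subgroup (PL : Subgroup L)), M.Normal → IsCoatom M → xy ∈ M := by
          intro M hMn hMc
          haveI := hMn
          by_contra hno
          obtain ⟨v, hv⟩ : ∃ v, v ∉ M := ⟨xy, hno⟩
          have hgen : M ⊔ Subgroup.zpowers v = ⊤ := hMc.2 _ (left_lt_sup.2 fun hle =>
            hv (hle (Subgroup.mem_zpowers v)))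
          have hcyc : ∀ z : (PL : Subgroup L), ∃ i : ℤ, QuotientGroup.mk' M z = (QuotientGroup.mk' M v) ^ i := by
            intro z
            obtain ⟨m, hm, w, ⟨i, rfl⟩, rfl⟩ :=
              Subgroup.mem_sup_of_normal_left.1 (hgen ▸ Subgroup.mem_top z)
            refine ⟨i, ?_⟩
            rw [map_mul, show QuotientGroup.mk' M m = 1 from (QuotientGroup.eq_one_iff m).2 hm, one_mul,
              ← map_zpow]
          apply hno
          rw [← QuotientGroup.eq_one_iff, ← QuotientGroup.mk'_apply, hxy, map_commutatorElement,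
            commutatorElement_eq_one_iff_commute]
          obtain ⟨i, hi⟩ := hcyc ⟨x, hx⟩
          obtain ⟨j, hj⟩ := hcyc ⟨y, hy⟩
          rw [hi, hj]
          exact (Commute.refl _).zpow_zpow i j
        have hz : xy ∈ Subgroup.center (PL : Subgroup L) := Subgroup.mem_center_iff.2 fun z => by
          have : Subgroup.centralizer ({xy} : Set (PL : Subgroup L)) = ⊤ := top_le_iff.1 (hsup ▸ sup_le
            (fun m hm => Subgroup.mem_centralizer_singleton_iff.2
              (commute_of_isMulCommutative ha₁ hm (hquot M₁ hM₁n hM₁)).eq)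
            (fun m hm => Subgroup.mem_centralizer_singleton_iff.2
              (commute_of_isMulCommutative ha₂ hm (hquot M₂ hM₂n hM₂)).eq))
          exact Subgroup.mem_centralizer_singleton_iff.1 (this ▸ Subgroup.mem_top z)
        have hfin := hcenC xy hz
        rw [hxy] at hfin
        simpa [commutatorElement_def] using hfin
      set Pb := PL.mapSurjective (QuotientGroup.mk'_surjective C) with hPb
      have hPbne : (Pb : Subgroup (L ⧸ C)) ≠ ⊥ := by
        rw [hPb, Sylow.coe_mapSurjective]
        intro hb'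
        rw [Subgroup.map_eq_bot_iff, QuotientGroup.ker_mk'] at hb'
        exact hPLab (isMulCommutative_of_le hb' hCab)
      have hPbab : ∀ x ∈ (Pb : Subgroup (L ⧸ C)), ∀ y ∈ (Pb : Subgroup (L ⧸ C)), Commute x y := by
        intro x hx y hy
        rw [hPb, Sylow.coe_mapSurjective] at hx hy
        obtain ⟨x', hx', rfl⟩ := hx
        obtain ⟨y', hy', rfl⟩ := hy
        rw [← commutatorElement_eq_one_iff_commute, ← map_commutatorElement]
        exact (QuotientGroup.eq_one_iff _).2 (hPfull x' hx' y' hy')
      have hPbn : Subgroup.normalizer ((Pb : Subgroup (L ⧸ C)) : Set (L ⧸ C)) ≤ (Pb : Subgroup (L ⧸ C)) := by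
        intro gb hgb
        obtain ⟨e, rfl⟩ := QuotientGroup.mk'_surjective C gb
        set U := C ⊔ (PL : Subgroup L) with hU
        have hPU : (PL : Subgroup L) ≤ U := le_sup_right
        have heU : ((e • PL : Sylow p L) : Subgroup L) ≤ U := by
          rw [Sylow.coe_subgroup_smul]
          rintro z ⟨w, hw, rfl⟩
          have h1 : QuotientGroup.mk' C (e * w * e⁻¹) ∈ (Pb : Subgroup (L ⧸ C)) := by
            rw [map_mul, map_mul, map_inv]
            refine (Subgroup.mem_normalizer_iff.1 hgb _).1 ?_
            rw [hPb, Sylow.coe_mapSurjective]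
            exact ⟨w, hw, rfl⟩
          rw [hPb, Sylow.coe_mapSurjective] at h1
          obtain ⟨w', hw', he⟩ := h1
          have h2 : e * w * e⁻¹ * w'⁻¹ ∈ C := by
            rw [← QuotientGroup.eq_one_iff, ← QuotientGroup.mk'_apply, map_mul, map_inv, he, mul_inv_cancel]
          have h3 := U.mul_mem (le_sup_left (b := (PL : Subgroup L)) h2) (hPU hw')
          simpa using h3
        obtain ⟨c, hc⟩ := MulAction.exists_smul_eq U ((e • PL).subtype heU) (PL.subtype hPU)
        have hc' : ((c : L) * e) • PL = PL := by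
          refine Sylow.subtype_injective (P := (((c : L) * e) • PL)) (Q := PL) (hP := ?_) (hQ := hPU) ?_
          · rw [mul_smul]
            exact Sylow.smul_le (H := U) heU c
          · rw [← hc, Sylow.smul_subtype]
            simp only [mul_smul]
            rfl
        have hn : (c : L) * e ∈ (PL : Subgroup L) := by
          rw [← hself]
          exact Sylow.smul_eq_iff_mem_normalizer.1 hc'
        have heU' : e ∈ U := by
          have := U.mul_mem (U.inv_mem c.2) (hPU hn)
          simpa using this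
        obtain ⟨m, hm, w, hw, rfl⟩ := Subgroup.mem_sup_of_normal_left.1 heU'
        rw [map_mul, show QuotientGroup.mk' C m = 1 from (QuotientGroup.eq_one_iff m).2 hm, one_mul, hPb,
          Sylow.coe_mapSurjective]
        exact ⟨w, hw, rfl⟩
      have hle : Subgroup.normalizer ((Pb : Subgroup (L ⧸ C)) : Set (L ⧸ C)) ≤
          Subgroup.centralizer ((Pb : Subgroup (L ⧸ C)) : Set (L ⧸ C)) := fun z hz =>
        Subgroup.mem_centralizer_iff.2 fun y hy => (hPbab y hy z (hPbn hz)).eq
      exact hnoHom p _ _ Pb.2 hPbne (MonoidHom.ker_transferSylow_isComplement' Pb hle)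

end Cfsg.Agent.CharDeep.CA
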