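import Cfsg.Agent.CharDeep.CA.SelfNormCA
import Cfsg.Agent.CharDeep.CA.SLTwo

/-!
`PSL(2, 2^n)` with `2^n - 1` prime: every non-abelian subgroup is self-normalising; and conversely the
primality.
-/

set_option autoImplicit false

open scoped Pointwise commutatorElement

namespace Cfsg.Agent.CharDeep.CA

variable {G : Type*} [Group G] [Finite G] {t : G}

theorem dd_comm (H : Data G t) {u : G} (hu : u * u = 1) (huN : u ∉ nrm t) {x y : G}
    (hx : x ∈ dd t u) (hy : y ∈ dd t u) : x * y = y * x := by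
  have h := inverts_dd H hu huN _ ((dd t u).mul_mem hx hy)
  rw [show u * (x * y) * u = (u * x * u) * (u * y * u) by
    calc u * (x * y) * u = u * x * (u * u) * (y * u) := by rw [hu]; group
      _ = (u * x * u) * (u * y * u) := by group, inverts_dd H hu huN x hx, inverts_dd H hu huN y hy,
    ← mul_inv_rev, inv_inj] at h
  exact h.symm

theorem exists_decomp (H : Data G t) {u : G} (hu : u * u = 1) (huN : u ∉ nrm t) {n : G}
    (hn : n ∈ nrm t) : ∃ α ∈ cent t, ∃ d ∈ dd t u, n = α * d := by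
  let f : cent t × dd t u → nrm t := fun p =>
    ⟨(p.1 : G) * p.2, (nrm t).mul_mem (cent_le_nrm t p.1.2) p.2.2.1⟩
  have hf : Function.Injective f := by
    rintro ⟨α, d⟩ ⟨β, e⟩ h
    have h' : (α : G) * d = β * e := congrArg Subtype.val h
    have h1 : (β : G)⁻¹ * α = e * (d : G)⁻¹ := by
      rw [eq_mul_inv_iff_mul_eq, mul_assoc, h', inv_mul_cancel_left]
    have h2 : (e : G) * (d : G)⁻¹ = 1 := dd_inf_cent H hu huN
      ((dd t u).mul_mem e.2 ((dd t u).inv_mem d.2))
      (h1 ▸ (cent t).mul_mem ((cent t).inv_mem β.2) α.2)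
    have hd : e = d := Subtype.ext (mul_inv_eq_one.1 h2)
    rw [h2, inv_mul_eq_one] at h1
    rw [hd, Subtype.ext h1]
  have hcard : Nat.card (cent t × dd t u) = Nat.card (nrm t) := by
    rw [Nat.card_prod, (fibres H).1 u hu huN,
      ← Nat.card_congr (Subgroup.subgroupOfEquivOfLe (cent_le_nrm t)).toEquiv]
    exact Subgroup.card_mul_index ((cent t).subgroupOf (nrm t))
  obtain ⟨⟨α, d⟩, he⟩ := ((Nat.bijective_iff_injective_and_card f).2 ⟨hf, hcard⟩).2 ⟨n, hn⟩
  exact ⟨α, α.2, d, d.2, (congrArg Subtype.val he).symm⟩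

theorem relIndex_prime [IsSimpleGroup G] (h : SN G) (H : Data G t) :
    ((cent t).relIndex (nrm t)).Prime := by
  obtain ⟨-, u, hu, huN, -, hsep⟩ := main H
  set i := (cent t).relIndex (nrm t) with hi
  have hi1 : i ≠ 1 := by have := two_le_relIndex H; omega
  set q := i.minFac
  haveI : Fact q.Prime := ⟨Nat.minFac_prime hi1⟩
  obtain ⟨k, hk⟩ := exists_prime_orderOf_dvd_card' (G := dd t u) q
    (by rw [(fibres H).1 u hu huN]; exact Nat.minFac_dvd _)
  have hk1 : (k : G) ≠ 1 := fun e => by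
    rw [show k = 1 from Subtype.ext e, orderOf_one] at hk
    exact (Fact.out : q.Prime).ne_one hk.symm
  set K := cent t ⊔ Subgroup.zpowers (k : G) with hK
  have hna : ¬ IsMulCommutative K := fun hc => hk1 (dd_inf_cent H hu huN k.2 (mem_of_commute H
    (mem_cent.2 (Commute.refl t)) H.t_ne (commute_of_isMulCommutative hc
      (le_sup_right (a := cent t) (Subgroup.mem_zpowers _))
      (le_sup_left (b := Subgroup.zpowers (k : G)) (mem_cent.2 (Commute.refl t))))))
  have hNK : nrm t ≤ K := by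
    rw [← h K hna]
    intro n hn
    obtain ⟨α, hα, d, hd, rfl⟩ := exists_decomp H hu huN hn
    refine Subgroup.mul_mem _ (Subgroup.le_normalizer (le_sup_left (b := Subgroup.zpowers (k : G)) hα)) ?_
    have hstep : ∀ d ∈ dd t u, K ≤ K.comap (MulAut.conj d).toMonoidHom := fun d hd => by
      refine sup_le (fun a ha => ?_) (Subgroup.zpowers_le.2 ?_)
      · exact le_sup_left (b := Subgroup.zpowers (k : G)) (conj_mem H hd.1 ha)
      · show d * (k : G) * d⁻¹ ∈ K
        rw [dd_comm H hu huN hd k.2, mul_inv_cancel_right]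
        exact le_sup_right (a := cent t) (Subgroup.mem_zpowers _)
    refine Subgroup.mem_normalizer_iff.2 fun z => ⟨fun hz => hstep d hd hz, fun hz => ?_⟩
    have := hstep d⁻¹ ((dd t u).inv_mem hd) hz
    simpa [mul_assoc] using this
  have hle : dd t u ≤ Subgroup.zpowers (k : G) := fun d hd => by
    have h1 : d ∈ ((cent t ⊔ Subgroup.zpowers (k : G) : Subgroup G) : Set G) := hNK hd.1
    rw [Subgroup.coe_mul_of_right_le_normalizer_left _ _ (Subgroup.zpowers_le.2 k.2.1)] at h1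
    obtain ⟨α, hα, w, hw, he⟩ := Set.mem_mul.1 h1
    have hwd : w ∈ dd t u := (Subgroup.zpowers_le.2 k.2) hw
    have : α = 1 := dd_inf_cent H hu huN (by
      rw [show α = d * w⁻¹ by rw [← he, mul_inv_cancel_right]]
      exact (dd t u).mul_mem hd ((dd t u).inv_mem hwd)) hα
    rw [this, one_mul] at he
    exact he ▸ hw
  have h2 := Nat.le_of_dvd Nat.card_pos (Subgroup.card_dvd_of_le (show Subgroup.zpowers (k : G) ≤ dd t u
    from Subgroup.zpowers_le.2 k.2))
  have h3 := Nat.le_of_dvd Nat.card_pos (Subgroup.card_dvd_of_le hle)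
  rw [Nat.card_zpowers, Subgroup.orderOf_coe, hk, (fibres H).1 u hu huN, ← hi] at h2 h3
  rw [show i = q by omega]
  exact Fact.out

section

variable (H : Data G t) (hprime : ((cent t).relIndex (nrm t)).Prime)
  (hcard : Nat.card (cent t) = (cent t).relIndex (nrm t) + 1)

include H hprime hcard

/-- A non-abelian subgroup of `N` is `N`. -/
theorem eq_nrm_of_le {L : Subgroup G} (hL : L ≤ nrm t) (hna : ¬ IsMulCommutative L) : L = nrm t := by
  obtain ⟨-, u, hu, huN, -, -⟩ := main H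
  set i := (cent t).relIndex (nrm t) with hi
  have hiD : Nat.card (dd t u) = i := (fibres H).1 u hu huN
  haveI : Fact i.Prime := ⟨hprime⟩
  obtain ⟨x, hxL, hxA⟩ : ∃ x ∈ L, x ∉ cent t := by
    by_contra hno
    push Not at hno
    exact hna ⟨⟨fun a b => Subtype.ext (comm H (hno a a.2) (hno b b.2)).eq⟩⟩
  obtain ⟨α, hα, d, hd, hxd⟩ := exists_decomp H hu huN (hL hxL)
  have hd1 : d ≠ 1 := fun e => hxA (by rw [hxd, e, mul_one]; exact hα)
  have hdo : orderOf d = i := by
    have h1 : orderOf (⟨d, hd⟩ : dd t u) ∣ i := hiD ▸ orderOf_dvd_natCard _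
    rw [Subgroup.orderOf_mk] at h1
    exact ((Nat.dvd_prime hprime).1 h1).resolve_left fun e => hd1 (orderOf_eq_one_iff.1 e)
  have hdgen : ∀ e ∈ dd t u, e ∈ Subgroup.zpowers d := fun e he => by
    have h1 : Subgroup.zpowers d = dd t u := Subgroup.eq_of_le_of_card_ge (Subgroup.zpowers_le.2 hd)
      (by rw [hiD, Nat.card_zpowers, hdo])
    rw [h1]; exact he
  obtain ⟨c, hcL, hcA, hc1⟩ : ∃ c ∈ L, c ∈ cent t ∧ c ≠ 1 := by
    by_contra hno
    push Not at hno
    apply hna
    refine ⟨⟨fun a b => Subtype.ext ?_⟩⟩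
    show (a : G) * b = b * a
    haveI : ((cent t).subgroupOf (nrm t)).Normal := Subgroup.normal_in_normalizer
    have hQ : ∀ y z : nrm t ⧸ (cent t).subgroupOf (nrm t), Commute y z := fun y z => by
      haveI : IsCyclic (nrm t ⧸ (cent t).subgroupOf (nrm t)) := isCyclic_of_prime_card (p := i) rfl
      obtain ⟨g, hg⟩ := IsCyclic.exists_generator (α := nrm t ⧸ (cent t).subgroupOf (nrm t))
      obtain ⟨j, rfl⟩ := hg y
      obtain ⟨l, rfl⟩ := hg z
      exact (Commute.refl g).zpow_zpow j l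
    have h1 : (a : G) * b * (a : G)⁻¹ * (b : G)⁻¹ ∈ cent t := by
      have h0 := (hQ (QuotientGroup.mk' _ ⟨a, hL a.2⟩) (QuotientGroup.mk' _ ⟨b, hL b.2⟩))
      rw [← commutatorElement_eq_one_iff_commute, ← map_commutatorElement, QuotientGroup.mk'_apply,
        QuotientGroup.eq_one_iff, Subgroup.mem_subgroupOf] at h0
      simpa [commutatorElement_def] using h0
    have h2 := hno _ (L.mul_mem (L.mul_mem (L.mul_mem a.2 b.2) (L.inv_mem a.2)) (L.inv_mem b.2)) h1
    rwa [mul_inv_eq_one, mul_inv_eq_iff_eq_mul] at h2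
  have hconj : ∀ j : ℕ, d ^ j * c * (d ^ j)⁻¹ ∈ L ∧ d ^ j * c * (d ^ j)⁻¹ ∈ cent t := by
    intro j
    induction j with
    | zero => simpa using ⟨hcL, hcA⟩
    | succ j ih =>
      set w := d ^ j * c * (d ^ j)⁻¹ with hw
      have he : d ^ (j + 1) * c * (d ^ (j + 1))⁻¹ = d * w * d⁻¹ := by rw [hw, pow_succ']; group
      have hwA : d * w * d⁻¹ ∈ cent t := conj_mem H hd.1 ih.2
      have he2 : x * w * x⁻¹ = d * w * d⁻¹ := by
        rw [hxd, show α * d * w * (α * d)⁻¹ = α * (d * w * d⁻¹) * α⁻¹ by group,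
          (comm H hα hwA).eq, mul_inv_cancel_right]
      rw [he]
      exact ⟨he2 ▸ L.mul_mem (L.mul_mem hxL ih.1) (L.inv_mem hxL), hwA⟩
  have hAL : cent t ≤ L := by
    let f : Fin i → {y : G // y ∈ cent t ∧ y ≠ 1} := fun j =>
      ⟨d ^ (j : ℕ) * c * (d ^ (j : ℕ))⁻¹, (hconj j).2, by simpa using hc1⟩
    have hf : Function.Injective f := by
      intro j l hjl
      have h' : d ^ (j : ℕ) * c * (d ^ (j : ℕ))⁻¹ = d ^ (l : ℕ) * c * (d ^ (l : ℕ))⁻¹ :=
        congrArg Subtype.val hjl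
      have hc' : Commute ((d ^ (l : ℕ))⁻¹ * d ^ (j : ℕ)) c := by
        show (d ^ (l : ℕ))⁻¹ * d ^ (j : ℕ) * c = c * ((d ^ (l : ℕ))⁻¹ * d ^ (j : ℕ))
        calc (d ^ (l : ℕ))⁻¹ * d ^ (j : ℕ) * c
            = (d ^ (l : ℕ))⁻¹ * (d ^ (j : ℕ) * c * (d ^ (j : ℕ))⁻¹) * d ^ (j : ℕ) := by group
          _ = c * ((d ^ (l : ℕ))⁻¹ * d ^ (j : ℕ)) := by rw [h']; group
      have h1 := dd_inf_cent H hu huN
        ((dd t u).mul_mem ((dd t u).inv_mem ((dd t u).pow_mem hd _)) ((dd t u).pow_mem hd _))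
        (mem_of_commute H hcA hc1 hc')
      rw [inv_mul_eq_one] at h1
      exact Fin.ext (pow_injOn_Iio_orderOf (Set.mem_Iio.2 (hdo.symm ▸ j.2))
        (Set.mem_Iio.2 (hdo.symm ▸ l.2)) h1.symm)
    have hc2 : Nat.card (Fin i) = Nat.card {y : G // y ∈ cent t ∧ y ≠ 1} := by
      classical
      haveI := Fintype.ofFinite G
      rw [Nat.card_fin, Nat.card_eq_fintype_card, Fintype.card_subtype,
        show (Finset.univ.filter fun x : G => x ∈ cent t ∧ x ≠ 1) =
          (Finset.univ.filter fun x : G => x ∈ cent t).erase 1 by ext y; simp [and_comm],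
        Finset.card_erase_of_mem (by simp), ← Fintype.card_subtype, ← Nat.card_eq_fintype_card, hcard]
      omega
    intro y hy
    by_cases hy1 : y = 1
    · rw [hy1]; exact L.one_mem
    obtain ⟨j, hj⟩ := ((Nat.bijective_iff_injective_and_card f).2 ⟨hf, hc2⟩).2 ⟨y, hy, hy1⟩
    have hj' : d ^ (j : ℕ) * c * (d ^ (j : ℕ))⁻¹ = y := congrArg Subtype.val hj
    exact hj' ▸ (hconj j).1
  have hdL : d ∈ L := by
    have := L.mul_mem (L.inv_mem (hAL hα)) hxL
    rwa [hxd, inv_mul_cancel_left] at this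
  refine le_antisymm hL fun n hn => ?_
  obtain ⟨β, hβ, e, he, rfl⟩ := exists_decomp H hu huN hn
  exact L.mul_mem (hAL hβ) ((Subgroup.zpowers_le.2 hdL) (hdgen e he))

theorem isSolvable_nrm : Group.IsSolvable (nrm t) := by
  haveI : Fact ((cent t).relIndex (nrm t)).Prime := ⟨hprime⟩
  haveI : ((cent t).subgroupOf (nrm t)).Normal := Subgroup.normal_in_normalizer
  haveI h1 : Group.IsSolvable ((cent t).subgroupOf (nrm t)) := isSolvable_of_comm fun a b =>
    Subtype.ext (Subtype.ext (comm H (Subgroup.mem_subgroupOf.1 a.2) (Subgroup.mem_subgroupOf.1 b.2)).eq)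
  haveI : IsCyclic (nrm t ⧸ (cent t).subgroupOf (nrm t)) :=
    isCyclic_of_prime_card (p := (cent t).relIndex (nrm t)) rfl
  haveI h2 : Group.IsSolvable (nrm t ⧸ (cent t).subgroupOf (nrm t)) := isSolvable_of_comm fun a b => by
    obtain ⟨g, hg⟩ := IsCyclic.exists_generator (α := nrm t ⧸ (cent t).subgroupOf (nrm t))
    obtain ⟨j, rfl⟩ := hg a
    obtain ⟨l, rfl⟩ := hg b
    exact ((Commute.refl g).zpow_zpow j l).eq
  exact solvable_of_ker_le_range ((cent t).subgroupOf (nrm t)).subtype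
    (QuotientGroup.mk' ((cent t).subgroupOf (nrm t))) (by rw [QuotientGroup.ker_mk', Subgroup.range_subtype])

omit hprime hcard in
theorem eq_top_of_nrm_lt {M : Subgroup G} (hle : nrm t ≤ M) {x : G} (hx : x ∈ M) (hxN : x ∉ nrm t) :
    M = ⊤ := by
  obtain ⟨-, u, hu, huN, hcov, -⟩ := main H
  have hmem : ∀ y, y ∉ nrm t → ∃ α ∈ cent t, ∃ n ∈ nrm t, y = α * u * n := fun y hy => by
    obtain ⟨α, hα, he⟩ := hcov y hy
    exact ⟨α, hα, (α * u)⁻¹ * y, QuotientGroup.eq.1 he.symm, by group⟩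
  obtain ⟨α, hα, n, hn, hxe⟩ := hmem x hxN
  have huM : u ∈ M := by
    have := M.mul_mem (M.mul_mem (M.inv_mem (hle (cent_le_nrm t hα))) hx) (M.inv_mem (hle hn))
    rwa [hxe, show α⁻¹ * (α * u * n) * n⁻¹ = u by group] at this
  refine eq_top_iff.2 fun y _ => ?_
  by_cases hy : y ∈ nrm t
  · exact hle hy
  obtain ⟨β, hβ, m, hm, rfl⟩ := hmem y hy
  exact M.mul_mem (M.mul_mem (hle (cent_le_nrm t hβ)) huM) (hle hm)

/-- Proper subgroups are solvable. -/
theorem isSolvable_of_ne_top (hca : IsCA G) {M : Subgroup G} (hM : M ≠ ⊤) : Group.IsSolvable M := by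
  haveI : Fact (Nat.Prime 2) := ⟨Nat.prime_two⟩
  have hCN : ∀ K : Subgroup G, Odd (Nat.card K) → Group.IsSolvable K := fun K hK =>
    CN7.isSolvable_of_odd_CN (fun {G} _ _ hodd {ι} _ => S1526.result hodd (ι := ι)) hK
      (CN7.isCN_subgroup (isCN hca) K)
  by_cases hodd : Odd (Nat.card M)
  · exact hCN M hodd
  obtain ⟨s, hs⟩ := exists_prime_orderOf_dvd_card' (G := M) 2
    (even_iff_two_dvd.1 (Nat.not_odd_iff_even.1 hodd))
  have hso : orderOf (s : G) = 2 := by rw [Subgroup.orderOf_coe, hs]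
  obtain ⟨g, hg⟩ := conj_exists H (x := (s : G))
    (by have := pow_orderOf_eq_one (s : G); rwa [hso, pow_two] at this)
    (fun e => by rw [e, orderOf_one] at hso; norm_num at hso)
  -- replace `M` by a conjugate containing `t`
  set M' := M.map (MulAut.conj g).toMonoidHom with hM'
  have htM : t ∈ M' := ⟨s, s.2, hg⟩
  have hM'ne : M' ≠ ⊤ := fun he => hM (eq_top_iff.2 fun y _ => by
    obtain ⟨z, hz, hzy⟩ := (he.symm ▸ Subgroup.mem_top (g * y * g⁻¹) : g * y * g⁻¹ ∈ M')
    rwa [(MulAut.conj g).injective (hzy : MulAut.conj g z = MulAut.conj g y)] at hz)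
  suffices Group.IsSolvable M' by
    haveI := this
    exact solvable_of_solvable_injective (f := (M.equivMapOfInjective (MulAut.conj g).toMonoidHom (MulAut.conj g).injective).toMonoidHom)
      (MulEquiv.injective _)
  by_cases hex : ∃ x ∈ M', x ∈ nrm t ∧ x ∉ cent t
  · obtain ⟨x, hxM, hxN, hxA⟩ := hex
    have hL : M' ⊓ nrm t = nrm t := eq_nrm_of_le H hprime hcard inf_le_right fun hc =>
      hxA (mem_of_commute H (mem_cent.2 (Commute.refl t)) H.t_ne (commute_of_isMulCommutative hc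
        ⟨hxM, hxN⟩ ⟨htM, cent_le_nrm t (mem_cent.2 (Commute.refl t))⟩))
    by_cases hle : M' ≤ nrm t
    · haveI := isSolvable_nrm H hprime hcard
      exact solvable_of_solvable_injective (f := Subgroup.inclusion hle) (Subgroup.inclusion_injective hle)
    · obtain ⟨y, hy, hyN⟩ := SetLike.not_le_iff_exists.1 hle
      exact absurd (eq_top_of_nrm_lt H (inf_eq_right.1 hL) hy hyN) hM'ne
  push Not at hex
  have ht2 : orderOf t = 2 := orderOf_eq_prime (by rw [pow_two]; exact H.t_sq) H.t_ne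
  have htp : IsPGroup 2 (Subgroup.zpowers (⟨t, htM⟩ : M')) :=
    IsPGroup.of_card (n := 1) (by rw [Nat.card_zpowers, Subgroup.orderOf_mk, ht2, pow_one])
  obtain ⟨S, hS⟩ := htp.exists_le_sylow
  have htS : (⟨t, htM⟩ : M') ∈ (S : Subgroup M') := hS (Subgroup.mem_zpowers _)
  haveI : Nontrivial (S : Subgroup M') := ⟨⟨⟨_, htS⟩, 1, fun e => H.t_ne
    (congrArg Subtype.val (congrArg Subtype.val e))⟩⟩
  haveI := S.2.center_nontrivial
  obtain ⟨z, hz⟩ := exists_ne (1 : Subgroup.center (S : Subgroup M'))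
  have hz1 : (((z : S) : M') : G) ≠ 1 := fun h => hz (Subtype.ext (Subtype.ext (Subtype.ext h)))
  have hzc : ∀ y : M', y ∈ (S : Subgroup M') → (y : G) * ((z : S) : M') = ((z : S) : M') * y :=
    fun y hy => congrArg Subtype.val (congrArg Subtype.val (Subgroup.mem_center_iff.1 z.2 ⟨y, hy⟩))
  have hzA : (((z : S) : M') : G) ∈ cent t := mem_cent.2 (hzc _ htS).symm
  have hSA : ∀ y : M', y ∈ (S : Subgroup M') → (y : G) ∈ cent t := fun y hy => by
    rw [← cent_of_mem H hzA hz1]; exact mem_cent.2 (hzc y hy)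
  have hle : Subgroup.normalizer ((S : Subgroup M') : Set M') ≤
      Subgroup.centralizer ((S : Subgroup M') : Set M') := fun y hy => by
    have hyt : (y : G) * t * (y : G)⁻¹ ∈ cent t :=
      hSA _ ((Subgroup.mem_normalizer_iff.1 hy ⟨t, htM⟩).1 htS)
    have hyA : (y : G) ∈ cent t :=
      hex y y.2 (cent_conj_eq H (mem_cent.2 (Commute.refl t)) H.t_ne hyt)
    exact Subgroup.mem_centralizer_iff.2 fun w hw => Subtype.ext (comm H (hSA w hw) hyA).eq
  have hc := MonoidHom.ker_transferSylow_isComplement' S hle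
  set f := MonoidHom.transferSylow S hle
  haveI hker : Group.IsSolvable f.ker := by
    have hodd' : Odd (Nat.card f.ker) := by
      rw [← hc.index_eq_card]
      exact Nat.not_even_iff_odd.1 fun he => S.not_dvd_index (even_iff_two_dvd.1 he)
    have hmap : Nat.card (f.ker.map M'.subtype) = Nat.card f.ker :=
      (Nat.card_congr (f.ker.equivMapOfInjective _ M'.subtype_injective).toEquiv).symm
    haveI := hCN (f.ker.map M'.subtype) (by rw [hmap]; exact hodd')
    exact solvable_of_solvable_injective (f := (f.ker.equivMapOfInjective _ M'.subtype_injective).toMonoidHom)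
      (MulEquiv.injective _)
  haveI := S.2.isNilpotent
  exact solvable_of_ker_le_range f.ker.subtype f (by rw [Subgroup.range_subtype])

theorem sn_of_data [IsSimpleGroup G]
    (hca : IsCA G) (hsq : ∀ x : G, x ≠ 1 → x * x = 1 → ∀ y : G, Commute y x → y * y = 1)
    (hcj : ∀ y z : G, z * z ≠ 1 → Commute (y * z * y⁻¹) z → y * z * y⁻¹ = z ∨ y * z * y⁻¹ = z⁻¹) :
    SN G := by
  classical
  intro K hna
  by_cases hKtop : K = ⊤
  · subst hKtop
    exact top_le_iff.1 Subgroup.le_normalizer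
  set M := Subgroup.normalizer (K : Set G) with hM
  have hMne : M ≠ ⊤ := fun he => by
    rcases (Subgroup.normalizer_eq_top_iff.1 he).eq_bot_or_eq_top with hb | hb
    · exact hna ⟨⟨fun a b => Subtype.ext (by
        have ha := a.2; have hb' := b.2
        simp only [hb, Subgroup.mem_bot] at ha hb'
        simp [ha, hb'])⟩⟩
    · exact hKtop hb
  haveI hsol := isSolvable_of_ne_top H hprime hcard hca hMne
  -- an abelian normal subgroup of `M`
  obtain ⟨N₀, hN₀n, hN₀ab, z, hz, hz1⟩ : ∃ N₀ : Subgroup M, N₀.Normal ∧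
      (∀ a ∈ N₀, ∀ b ∈ N₀, Commute a b) ∧ ∃ z ∈ N₀, z ≠ 1 := by
    have hex := hsol.solvable
    set m := Nat.find hex with hm
    have hm0 : m ≠ 0 := fun h0 => by
      have hs := Nat.find_spec hex
      rw [← hm, h0, derivedSeries_zero] at hs
      apply hna
      refine ⟨⟨fun a b => Subtype.ext ?_⟩⟩
      have e : ∀ w : K, (w : G) = 1 := fun w => by
        have : (⟨w, Subgroup.le_normalizer w.2⟩ : M) ∈ (⊥ : Subgroup M) := hs ▸ Subgroup.mem_top _
        exact congrArg Subtype.val (Subgroup.mem_bot.1 this)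
      show (a : G) * b = b * a
      rw [e a, e b]
    obtain ⟨j, hj⟩ : ∃ j, m = j + 1 := ⟨m - 1, by omega⟩
    have hmin : derivedSeries M j ≠ ⊥ := Nat.find_min hex (by omega)
    refine ⟨derivedSeries M j, inferInstance, fun a ha b hb => ?_,
      (derivedSeries M j).bot_or_exists_ne_one.resolve_left hmin⟩
    have hs := Nat.find_spec hex
    rw [← hm, hj, derivedSeries_succ] at hs
    rw [← commutatorElement_eq_one_iff_commute, ← Subgroup.mem_bot, ← hs]
    exact Subgroup.commutator_mem_commutator ha hb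
  have hcomm0 : ∀ y : M, Commute ((y : G) * (z : G) * (y : G)⁻¹) z := fun y =>
    (hN₀ab _ (hN₀n.conj_mem z hz y) z hz).map M.subtype
  have hz1' : (z : G) ≠ 1 := fun e => hz1 (Subtype.ext e)
  refine le_antisymm (fun y hyM => ?_) Subgroup.le_normalizer
  by_cases hz2 : (z : G) * z = 1
  · obtain ⟨g, hg⟩ := conj_exists H hz2 hz1'
    have hMN : ∀ w ∈ M, g * w * g⁻¹ ∈ nrm t := fun w hw => by
      refine cent_conj_eq H (mem_cent.2 (Commute.refl t)) H.t_ne (mem_cent.2 ?_)
      have h' := (Commute.conj_iff g).2 (hcomm0 ⟨w, hw⟩)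
      rw [hg, show g * (((⟨w, hw⟩ : M) : G) * (z : G) * ((⟨w, hw⟩ : M) : G)⁻¹) * g⁻¹ =
        g * w * g⁻¹ * (g * (z : G) * g⁻¹) * (g * w * g⁻¹)⁻¹ by group, hg] at h'
      exact h'
    set K' := K.map (MulAut.conj g).toMonoidHom
    have hK' : K' = nrm t := by
      refine eq_nrm_of_le H hprime hcard ?_ fun hc => hna ⟨⟨fun a b => Subtype.ext ?_⟩⟩
      · rintro _ ⟨w, hw, rfl⟩
        exact hMN w (Subgroup.le_normalizer hw)
      · have := (commute_of_isMulCommutative hc (⟨a, a.2, rfl⟩ : MulAut.conj g (a : G) ∈ K')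
          (⟨b, b.2, rfl⟩ : MulAut.conj g (b : G) ∈ K')).eq
        show (a : G) * b = b * a
        exact (MulAut.conj g).injective (by rw [map_mul, map_mul]; exact this)
    obtain ⟨w, hw, he⟩ := (hK'.symm ▸ hMN y hyM : g * y * g⁻¹ ∈ K')
    rwa [(MulAut.conj g).injective (he : MulAut.conj g w = MulAut.conj g y)] at hw
  · -- `M` is generalised dihedral over `M ∩ C(z)`
    have hinv : ∀ w ∈ M, w ∉ cent (z : G) → w * (z : G) * w⁻¹ = (z : G)⁻¹ := fun w hw hwz =>
      (hcj w z hz2 (hcomm0 ⟨w, hw⟩)).resolve_left fun e => hwz (mem_cent.2 (mul_inv_eq_iff_eq_mul.1 e))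
    have hnsq : ∀ m ∈ cent (z : G), m ≠ 1 → m * m ≠ 1 := fun m hm hm1 hm2 =>
      hz2 (hsq m hm1 hm2 z (mem_cent.1 hm).symm)
    obtain ⟨y₀, hy₀K, hy₀⟩ : ∃ y₀ ∈ K, y₀ ∉ cent (z : G) := by
      by_contra hno
      push Not at hno
      exact hna ⟨⟨fun a b => Subtype.ext (comm_of_mem hca hz1' (hno a a.2) (hno b b.2)).eq⟩⟩
    have hy₀M : y₀ ∈ M := Subgroup.le_normalizer hy₀K
    have hinv' : ∀ m ∈ M, m ∈ cent (z : G) → y₀ * m * y₀⁻¹ = m⁻¹ := fun m hmM hm => by
      by_cases hm1 : m = 1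
      · simp [hm1]
      have hc1 : y₀ * m * y₀⁻¹ ∈ cent (z : G) := by
        have h' := conj_mem_cent (g := y₀) |>.2 hm
        rw [hinv y₀ hy₀M hy₀] at h'
        exact mem_cent.2 (Commute.inv_right_iff.1 (mem_cent.1 h'))
      refine (hcj y₀ m (hnsq m hm hm1) (comm_of_mem hca hz1' hc1 hm)).resolve_left fun e => hy₀ ?_
      have hyc : y₀ ∈ cent m := mem_cent.2 (mul_inv_eq_iff_eq_mul.1 e)
      rwa [cent_eq hca hz1' hm1 hm] at hyc
    have hM0 : ∀ m ∈ M, m ∈ cent (z : G) → m ∈ K := fun m hmM hm => by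
      have h2 : m * m ∈ K := by
        have h1 : m * y₀ * m⁻¹ * y₀⁻¹ ∈ K :=
          K.mul_mem ((Subgroup.mem_normalizer_iff.1 hmM y₀).1 hy₀K) (K.inv_mem hy₀K)
        rwa [show m * y₀ * m⁻¹ * y₀⁻¹ = m * (y₀ * m⁻¹ * y₀⁻¹) by group,
          hinv' _ (M.inv_mem hmM) ((cent (z : G)).inv_mem hm), inv_inv] at h1
      have hod : Odd (orderOf m) := by
        by_contra he
        obtain ⟨j, hj⟩ := Nat.not_odd_iff_even.1 he
        have hpos := orderOf_pos m
        exact hnsq (m ^ j) ((cent (z : G)).pow_mem hm j) (pow_ne_one_of_lt_orderOf (by omega) (by omega))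
          (by rw [← pow_add, ← hj, pow_orderOf_eq_one])
      obtain ⟨j, hj⟩ := hod
      have hm' : m = (m * m) ^ (j + 1) := by
        rw [← pow_two, ← pow_mul, show 2 * (j + 1) = orderOf m + 1 by omega, pow_succ,
          pow_orderOf_eq_one, one_mul]
      rw [hm']; exact K.pow_mem h2 _
    by_cases hy : y ∈ cent (z : G)
    · exact hM0 y hyM hy
    have h1 : y₀⁻¹ * y ∈ cent (z : G) := mem_cent.2 (by
      show y₀⁻¹ * y * z = z * (y₀⁻¹ * y)
      have e1 : y * (z : G) = (z : G)⁻¹ * y := by rw [← hinv y hyM hy]; group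
      have e2 : y₀⁻¹ * (z : G)⁻¹ = (z : G) * y₀⁻¹ := by rw [← hinv y₀ hy₀M hy₀]; group
      rw [mul_assoc, e1, ← mul_assoc, e2, mul_assoc])
    have := K.mul_mem hy₀K (hM0 _ (M.mul_mem (M.inv_mem hy₀M) hyM) h1)
    simpa using this

end

end Cfsg.Agent.CharDeep.CA
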